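import Groth.Agent.Lib.Helper22.EtStalk.Basic

/-!
# Exactness, monomorphisms and epimorphisms of abelian étale sheaves via geometric stalks (helper22)
-/

set_option autoImplicit false
universe u
open CategoryTheory CategoryTheory.Limits AlgebraicGeometry Opposite

namespace Groth.Agent.Lib.Helper22.EtStalk

noncomputable section

variable {X : Scheme.{u}}

section Point

variable {Ω : Type u} [Field Ω] [IsSepClosed Ω] (ξ : Spec (CommRingCat.of Ω) ⟶ X)

instance stalk_preservesZero : (EtCoh.stalk ξ).PreservesZeroMorphisms :=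
  Functor.preservesZeroMorphisms_of_preserves_terminal_object

instance stalk_additive : (EtCoh.stalk ξ).Additive :=
  Functor.additive_of_preserves_binary_products _

instance stalk_preservesHomology : (EtCoh.stalk ξ).PreservesHomology :=
  Functor.preservesHomologyOfExact _

lemma germ_naturality {F G : EtCoh.Ab X} (a : F ⟶ G) (U : X.Etale)
    (x : (Scheme.pointSmallEtale ξ).fiber.obj U) (s : F.obj.obj (op U)) :
    (EtCoh.stalk ξ).map a (germ ξ F U x s) = germ ξ G U x (a.hom.app (op U) s) :=
  (Scheme.pointSmallEtale ξ).toPresheafFiber_naturality_apply a.hom U x s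

lemma germ_map (F : EtCoh.Ab X) {U V : X.Etale} (f : V ⟶ U)
    (v : (Scheme.pointSmallEtale ξ).fiber.obj V) (s : F.obj.obj (op U)) :
    germ ξ F V v (F.obj.map f.op s) = germ ξ F U ((Scheme.pointSmallEtale ξ).fiber.map f v) s :=
  (Scheme.pointSmallEtale ξ).toPresheafFiber_w_apply f v F.obj s

end Point

/-- A morphism of abelian étale sheaves is a monomorphism iff it is injective on all geometric
stalks. -/
theorem mono_iff_stalks {F G : EtCoh.Ab X} (a : F ⟶ G) :
    Mono a ↔ ∀ (Ω : Type u) [Field Ω] [IsSepClosed Ω] (ξ : Spec (CommRingCat.of Ω) ⟶ X),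
      Function.Injective ((EtCoh.stalk ξ).map a) := by
  constructor
  · intro h Ω _ _ ξ
    exact (AddCommGrpCat.mono_iff_injective _).1 inferInstance
  · intro h
    have : Mono a.hom := by
      refine @NatTrans.mono_of_mono_app _ _ _ _ _ _ a.hom (fun U => ?_)
      rw [AddCommGrpCat.mono_iff_injective]
      refine (injective_iff_map_eq_zero _).2 fun s hs => ?_
      refine eq_zero_of_germs s ?_
      intro Ω _ _ ξ x
      apply h Ω ξ
      rw [germ_naturality]
      erw [hs]
      rw [map_zero, map_zero]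
    exact Sheaf.Hom.mono_of_presheaf_mono _ _ a

open Groth.Agent.Lib.Helper22.CechU.Etale in
/-- A morphism of abelian étale sheaves is an epimorphism iff it is surjective on all geometric
stalks. -/
theorem epi_iff_stalks {F G : EtCoh.Ab X} (a : F ⟶ G) :
    Epi a ↔ ∀ (Ω : Type u) [Field Ω] [IsSepClosed Ω] (ξ : Spec (CommRingCat.of Ω) ⟶ X),
      Function.Surjective ((EtCoh.stalk ξ).map a) := by
  constructor
  · intro h Ω _ _ ξ
    exact (AddCommGrpCat.epi_iff_surjective _).1 inferInstance
  · intro h
    have : Sheaf.IsLocallySurjective a := by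
      constructor
      intro U s
      rw [mem_smallEtaleTopology_iff]
      intro y
      obtain ⟨Ω, _, _, ξ, x, hx⟩ := exists_geomPoint U y
      let Φ := Scheme.pointSmallEtale ξ
      obtain ⟨p, hp⟩ := h Ω ξ (germ ξ G U x s)
      obtain ⟨V, v, z, rfl⟩ := Φ.toPresheafFiber_jointly_surjective p
      -- a common refinement of `(V, v)` and `(U, x)`
      let eV : Φ.fiber.Elements := ⟨V, v⟩
      let eU : Φ.fiber.Elements := ⟨U, x⟩
      let eW := IsCofiltered.min eV eU
      let g₁ : eW ⟶ eV := IsCofiltered.minToLeft eV eU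
      let g₂ : eW ⟶ eU := IsCofiltered.minToRight eV eU
      have h1 : germ ξ G eW.1 eW.2 (G.obj.map g₁.1.op (a.hom.app (op V) z)) =
          germ ξ G eW.1 eW.2 (G.obj.map g₂.1.op s) := by
        rw [germ_map, germ_map]
        have e1 : Φ.fiber.map g₁.1 eW.2 = v := g₁.2
        have e2 : Φ.fiber.map g₂.1 eW.2 = x := g₂.2
        rw [e1, e2, ← germ_naturality]
        exact hp
      obtain ⟨W', f, w', hw', hf⟩ := (Φ.toPresheafFiber_eq_iff' eW.1 eW.2 _ _).1 h1
      refine ⟨W', f ≫ g₂.1, w'.left (default : Spec (CommRingCat.of Ω)), ?_, ?_⟩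
      · refine ⟨F.obj.map (f ≫ g₁.1).op z, ?_⟩
        have n1 := congrArg (fun φ => φ z)
          (congrArg AddCommGrpCat.Hom.hom (a.hom.naturality (f ≫ g₁.1).op))
        simp only [AddCommGrpCat.hom_comp, AddMonoidHom.coe_comp, Function.comp_apply] at n1
        refine n1.trans ?_
        rw [op_comp, Functor.map_comp, op_comp, Functor.map_comp]
        exact hf
      · have e2 : Φ.fiber.map g₂.1 eW.2 = x := g₂.2
        have e3 : Φ.fiber.map (f ≫ g₂.1) w' = x := by
          rw [Functor.map_comp]
          exact (congrArg (Φ.fiber.map g₂.1) hw').trans e2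
        rw [← hx, ← e3]
        rfl
    exact Sheaf.epi_of_isLocallySurjective a

/-- A sheaf all of whose geometric stalks vanish is zero. -/
theorem isZero_of_stalks (H : EtCoh.Ab X)
    (h : ∀ (Ω : Type u) [Field Ω] [IsSepClosed Ω] (ξ : Spec (CommRingCat.of Ω) ⟶ X),
      IsZero ((EtCoh.stalk ξ).obj H)) : IsZero H := by
  have : Mono (0 : H ⟶ H) := by
    rw [mono_iff_stalks]
    intro Ω _ _ ξ p q _
    have := AddCommGrpCat.isZero_iff_subsingleton.1 (h Ω ξ)
    exact Subsingleton.elim _ _
  exact IsZero.of_mono_zero H H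

/-- Exactness of a three-term complex of abelian étale sheaves is tested on geometric stalks. -/
theorem exact_iff_stalks (S : ShortComplex (EtCoh.Ab X)) :
    S.Exact ↔ ∀ (Ω : Type u) [Field Ω] [IsSepClosed Ω] (ξ : Spec (CommRingCat.of Ω) ⟶ X),
      (S.map (EtCoh.stalk ξ)).Exact := by
  constructor
  · intro h Ω _ _ ξ
    exact h.map _
  · intro h
    rw [S.exact_iff_isZero_homology]
    refine isZero_of_stalks _ fun Ω _ _ ξ => ?_
    exact IsZero.of_iso ((S.map (EtCoh.stalk ξ)).exact_iff_isZero_homology.1 (h Ω ξ))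
      (S.mapHomologyIso (EtCoh.stalk ξ)).symm

end

end Groth.Agent.Lib.Helper22.EtStalk
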