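import Groth.Agent.Lib.Helper22.EtStalk.ClosedOpen
import Groth.Agent.Lib.Helper22.EtStalk.Conservative
import Groth.Agent.Lib.Helper22.DimShiftIso
import Groth.Agent.S14451
import Groth.Agent.S0101

/-!
# Direct image along a closed immersion is exact; cohomology of `i_* G`
-/

set_option autoImplicit false
set_option linter.unusedSectionVars false

universe u

open CategoryTheory CategoryTheory.Limits Opposite AlgebraicGeometry

namespace Groth.Agent.Lib.Helper22.EtStalk.ClosedCoh

open Groth.Agent.Lib.Helper22.EtStalk Groth.Agent.Lib.Helper22.EtStalk.ClosedStalk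
open Groth.Agent.Lib.Helper22.EtStalk.ClosedOpen Groth.Agent.Lib.Helper22.DimShift

variable {Z X : Scheme.{u}} (i : Z ⟶ X) [IsClosedImmersion i]

/-- Direct image along a closed immersion preserves epimorphisms. -/
theorem epi_push_map {G H : EtCoh.Ab Z} (g : G ⟶ H) [Epi g] : Epi ((EtCoh.push i).map g) := by
  rw [epi_iff_stalks]
  intro Ω _ _ ξ
  rcases factors_or_disjoint_closed i ξ with ⟨ζ, rfl⟩ | hdis
  · have h1 : Function.Surjective ((EtCoh.stalk ζ).map g) :=
      (epi_iff_stalks g).1 inferInstance Ω ζ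
    have hnat := (stalkPushIso i ζ).hom.naturality g
    have hepi : Epi ((EtCoh.stalk ζ).map g) := (AddCommGrpCat.epi_iff_surjective _).2 h1
    have h2 : Epi ((EtCoh.push i ⋙ EtCoh.stalk (ζ ≫ i)).map g ≫ (stalkPushIso i ζ).hom.app H) := by
      rw [hnat]
      infer_instance
    have h3 : Epi ((EtCoh.push i ⋙ EtCoh.stalk (ζ ≫ i)).map g) := by
      have h4 : (EtCoh.push i ⋙ EtCoh.stalk (ζ ≫ i)).map g =
          ((EtCoh.push i ⋙ EtCoh.stalk (ζ ≫ i)).map g ≫ (stalkPushIso i ζ).hom.app H) ≫
            (stalkPushIso i ζ).inv.app H := by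
        rw [Category.assoc, Iso.hom_inv_id_app, Category.comp_id]
      rw [h4]
      infer_instance
    exact (AddCommGrpCat.epi_iff_surjective _).1 h3
  · have hz := isZero_stalk_push_of_disjoint i H ξ hdis
    have : Epi ((EtCoh.stalk ξ).map ((EtCoh.push i).map g)) :=
      ⟨fun _ _ _ => hz.eq_of_src _ _⟩
    exact (AddCommGrpCat.epi_iff_surjective _).1 this

/-- Higher direct images along a closed immersion vanish. -/
theorem isZero_Rpush_succ (q : ℕ) :
    ∀ G : EtCoh.Ab Z, IsZero ((EtCoh.Rpush i (q + 1)).obj G) := by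
  have : PreservesLimits (EtCoh.push i) := (EtCoh.pullPushAdj i).rightAdjoint_preservesLimits
  induction q with
  | zero =>
    intro G
    have : Epi (injSC G).g := (injSC_shortExact G).epi_g
    exact (isZero_rightDerived_one_iff (EtCoh.push i) (injSC G) (injSC_shortExact G)).2
      (epi_push_map i (injSC G).g)
  | succ q ih =>
    intro G
    exact (isZero_rightDerived_succ_succ_iff (EtCoh.push i) (injSC G)
      (injSC_shortExact G) q).2 (ih (injSC G).X₃)

/-- Cohomology of `i_* G` is cohomology of `G`. -/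
theorem subsingleton_H_push (G : EtCoh.Ab Z) (p : ℕ) (h : Subsingleton (EtCoh.H Z G p)) :
    Subsingleton (EtCoh.H X ((EtCoh.push i).obj G) p) := by
  have := Groth.Agent.S0101.main i
  have hb := Groth.Agent.S14451.result i G (fun q hq => by
    obtain ⟨n, rfl⟩ : ∃ n, q = n + 1 := ⟨q - 1, by omega⟩
    exact isZero_Rpush_succ i n G) p
  exact hb.1.subsingleton

end Groth.Agent.Lib.Helper22.EtStalk.ClosedCoh
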