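import Groth.Agent.Lib.Helper22.EtStalk.Basic

/-!
# Mono/epi of étale sheaves of sets via geometric stalks (helper22)
-/

set_option autoImplicit false
universe u
open CategoryTheory CategoryTheory.Limits AlgebraicGeometry Opposite

namespace Groth.Agent.Lib.Helper22.EtStalk.Sets

open Groth.Agent.Lib.Helper22.EtStalk
open Groth.Agent.Lib.Helper22.CechU.Etale

noncomputable section

variable {X : Scheme.{u}}

/-- Sheaves of sets on the small étale site (in the universe of the Prelude). -/
abbrev Sh (X : Scheme.{u}) : Type (u + 2) := Sheaf X.smallEtaleTopology (Type (u + 1))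

instance presFiltType : PreservesFilteredColimitsOfSize.{u, u} (forget (Type (u + 1))) :=
  preservesFilteredColimitsOfSize_shrink.{u, u + 1, u, u + 1} _

lemma isSheaf_type (F : Sh X) : Presieve.IsSheaf X.smallEtaleTopology F.obj :=
  (isSheaf_iff_isSheaf_of_type _ _).1 F.property

/-- Sections agreeing étale-locally around every point agree. -/
lemma eq_of_locally_eq {F : Sh X} {U : X.Etale} (s s' : F.obj.obj (op U))
    (h : ∀ y : U.left, ∃ (V : X.Etale) (f : V ⟶ U), y ∈ Set.range f.left ∧
      F.obj.map f.op s = F.obj.map f.op s') : s = s' := by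
  let R : Sieve U := ⟨fun V f => F.obj.map f.op s = F.obj.map f.op s', by
    intro V W f hf g
    rw [op_comp, Functor.map_comp]
    exact congrArg (F.obj.map g.op) hf⟩
  have hR : R ∈ X.smallEtaleTopology U := by
    rw [mem_smallEtaleTopology_iff]
    intro y
    obtain ⟨V, f, ⟨v, hv⟩, hf⟩ := h y
    exact ⟨V, f, v, hf, hv⟩
  refine ((isSheaf_type F) R hR).isSeparatedFor.ext ?_
  intro V f hf
  exact hf

theorem mono_iff_stalks {F G : Sh X} (v : F ⟶ G) :
    Mono v ↔ ∀ (Ω : Type u) [Field Ω] [IsSepClosed Ω] (ξ : Spec (CommRingCat.of Ω) ⟶ X),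
      Function.Injective (((Scheme.pointSmallEtale ξ).sheafFiber (A := Type (u + 1))).map v) := by
  constructor
  · intro h Ω _ _ ξ
    have h1 : Mono v.hom := (inferInstance : Mono ((sheafToPresheaf _ _).map v))
    have h2 : ∀ U, Function.Injective (v.hom.app U) := fun U =>
      (mono_iff_injective _).1 inferInstance
    have : Presheaf.IsLocallyInjective X.smallEtaleTopology v.hom :=
      Presheaf.isLocallyInjective_of_injective _ _ h2
    exact (Scheme.pointSmallEtale ξ).toPresheafFiber_map_injective v.hom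
  · intro h
    refine Sheaf.mono_of_injective v fun U s s' hs => ?_
    refine eq_of_locally_eq s s' ?_
    intro y
    obtain ⟨Ω, _, _, ξ, x, hx⟩ := exists_geomPoint U.unop y
    let Φ := Scheme.pointSmallEtale ξ
    have h1 : Φ.toPresheafFiber U.unop x F.obj s = Φ.toPresheafFiber U.unop x F.obj s' := by
      apply h Ω ξ
      have n1 := Φ.toPresheafFiber_naturality_apply v.hom U.unop x s
      have n2 := Φ.toPresheafFiber_naturality_apply v.hom U.unop x s'
      refine n1.trans (Eq.trans ?_ n2.symm)
      exact congrArg _ hs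
    obtain ⟨V, f, w, hw, hf⟩ := (Φ.toPresheafFiber_eq_iff' (P := F.obj) U.unop x s s').1 h1
    refine ⟨V, f, ⟨w.left (default : Spec (CommRingCat.of Ω)), ?_⟩, hf⟩
    rw [← hx, ← hw]
    rfl

theorem epi_iff_stalks {F G : Sh X} (v : F ⟶ G) :
    Epi v ↔ ∀ (Ω : Type u) [Field Ω] [IsSepClosed Ω] (ξ : Spec (CommRingCat.of Ω) ⟶ X),
      Function.Surjective (((Scheme.pointSmallEtale ξ).sheafFiber (A := Type (u + 1))).map v) := by
  constructor
  · intro h Ω _ _ ξ
    have : Presheaf.IsLocallySurjective X.smallEtaleTopology v.hom :=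
      (Sheaf.isLocallySurjective_iff_epi v).2 h
    exact (Scheme.pointSmallEtale ξ).toPresheafFiber_map_surjective v.hom
  · intro h
    have : Sheaf.IsLocallySurjective v := by
      constructor
      intro U s
      rw [mem_smallEtaleTopology_iff]
      intro y
      obtain ⟨Ω, _, _, ξ, x, hx⟩ := exists_geomPoint U y
      let Φ := Scheme.pointSmallEtale ξ
      obtain ⟨p, hp⟩ := h Ω ξ (Φ.toPresheafFiber U x G.obj s)
      obtain ⟨V, w, z, rfl⟩ := Φ.toPresheafFiber_jointly_surjective (P := F.obj) p
      let eV : Φ.fiber.Elements := ⟨V, w⟩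
      let eU : Φ.fiber.Elements := ⟨U, x⟩
      let eW := IsCofiltered.min eV eU
      let g₁ : eW ⟶ eV := IsCofiltered.minToLeft eV eU
      let g₂ : eW ⟶ eU := IsCofiltered.minToRight eV eU
      have e1 : Φ.fiber.map g₁.1 eW.2 = w := g₁.2
      have e2 : Φ.fiber.map g₂.1 eW.2 = x := g₂.2
      have h1 : Φ.toPresheafFiber eW.1 eW.2 G.obj (G.obj.map g₁.1.op (v.hom.app (op V) z)) =
          Φ.toPresheafFiber eW.1 eW.2 G.obj (G.obj.map g₂.1.op s) := by
        have a1 := Φ.toPresheafFiber_w_apply g₁.1 eW.2 G.obj (v.hom.app (op V) z)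
        have a2 := Φ.toPresheafFiber_w_apply g₂.1 eW.2 G.obj s
        rw [e1] at a1
        rw [e2] at a2
        refine a1.trans (Eq.trans ?_ a2.symm)
        refine Eq.trans ?_ hp
        exact (Φ.toPresheafFiber_naturality_apply v.hom V w z).symm
      obtain ⟨W', f, w', hw', hf⟩ := (Φ.toPresheafFiber_eq_iff' (P := G.obj) eW.1 eW.2 _ _).1 h1
      refine ⟨W', f ≫ g₂.1, w'.left (default : Spec (CommRingCat.of Ω)), ?_, ?_⟩
      · refine ⟨F.obj.map (f ≫ g₁.1).op z, ?_⟩
        have n1 := NatTrans.naturality_apply v.hom (f ≫ g₁.1).op z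
        refine n1.trans ?_
        rw [op_comp, Functor.map_comp, op_comp, Functor.map_comp]
        exact hf
      · have e3 : Φ.fiber.map (f ≫ g₂.1) w' = x := by
          rw [Functor.map_comp]
          exact (congrArg (Φ.fiber.map g₂.1) hw').trans e2
        rw [← hx, ← e3]
        rfl
    exact (Sheaf.isLocallySurjective_iff_epi v).1 this

end

end Groth.Agent.Lib.Helper22.EtStalk.Sets
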