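import Groth.Agent.Lib.Helper22.EtStalk.StrictHens
import Groth.Agent.Lib.Helper22.EtStalk.Sets

/-!
# Étale sheaves of sets on the spectrum of a strictly henselian local ring (helper22)
-/

set_option autoImplicit false
universe u
open CategoryTheory CategoryTheory.Limits AlgebraicGeometry Opposite

namespace Groth.Agent.Lib.Helper22.EtStalk.StrictHens

open Groth.Agent.Lib.Helper22.EtStalk Groth.Agent.Lib.Helper22.EtStalk.Sets

noncomputable section

variable (R : Type u) [CommRing R] [HenselianLocalRing R]
  [IsSepClosed (IsLocalRing.ResidueField R)]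

/-- Global sections map bijectively onto the stalk at the closed geometric point (sets). -/
theorem bijective_germ_type (F : Sets.Sh (Spec (CommRingCat.of R))) :
    Function.Bijective ((Scheme.pointSmallEtale (ρ R)).toPresheafFiber (A := Type (u + 1))
      (EtCoh.top (Spec (CommRingCat.of R))) (x₀ R) F.obj) := by
  let Φ := Scheme.pointSmallEtale (ρ R)
  constructor
  · intro s s' h
    obtain ⟨V, f, v, hv, hf⟩ := (Φ.toPresheafFiber_eq_iff' (P := F.obj) _ (x₀ R) s s').1 h
    obtain ⟨u, -⟩ := exists_hom_from_top R V v
    have e : u ≫ f = 𝟙 _ := Subsingleton.elim _ _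
    have h1 := congrArg (F.obj.map u.op) hf
    have h2 : ∀ t : F.obj.obj (op (EtCoh.top (Spec (CommRingCat.of R)))),
        F.obj.map u.op (F.obj.map f.op t) = t := by
      intro t
      rw [← Functor.map_comp_apply, ← op_comp, e]
      exact Functor.map_id_apply _ _ _
    rw [h2, h2] at h1
    exact h1
  · intro p
    obtain ⟨V, v, z, rfl⟩ := Φ.toPresheafFiber_jointly_surjective (P := F.obj) p
    obtain ⟨u, hu⟩ := exists_hom_from_top R V v
    refine ⟨F.obj.map u.op z, ?_⟩
    have := Φ.toPresheafFiber_w_apply u (x₀ R) F.obj z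
    rw [hu] at this
    exact this

end

end Groth.Agent.Lib.Helper22.EtStalk.StrictHens
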