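import Groth.Agent.Lib.Helper22.EtStalk.Pull
import Groth.Agent.Lib.Helper22.EtStalk.StrictHensSets
import Groth.Prelude.Def_SGA4b

/-!
# Stalks of inverse images of étale sheaves of sets; sections over a strictly henselian ring
-/

set_option autoImplicit false
universe u
open CategoryTheory CategoryTheory.Limits AlgebraicGeometry Opposite

namespace Groth.Agent.Lib.Helper22.EtStalk

noncomputable section

variable {X Y : Scheme.{u}} (f : X ⟶ Y) {Ω : Type u} [Field Ω] [IsSepClosed Ω]
  (ξ : Spec (CommRingCat.of Ω) ⟶ X)

/-- Isomorphic points have isomorphic stalk functors (sets). -/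
def sheafFiberIsoOfIsoType {Φ₁ Φ₂ : GrothendieckTopology.Point.{u} Y.smallEtaleTopology}
    (e : Φ₁ ≅ Φ₂) :
    Φ₂.sheafFiber (A := Type (u + 1)) ≅ Φ₁.sheafFiber where
  hom := GrothendieckTopology.Point.Hom.sheafFiber e.hom
  inv := GrothendieckTopology.Point.Hom.sheafFiber e.inv
  hom_inv_id := by
    rw [← GrothendieckTopology.Point.Hom.sheafFiber_comp, e.inv_hom_id,
      GrothendieckTopology.Point.Hom.sheafFiber_id]
  inv_hom_id := by
    rw [← GrothendieckTopology.Point.Hom.sheafFiber_comp, e.hom_inv_id,
      GrothendieckTopology.Point.Hom.sheafFiber_id]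

/-- The stalk of `f⁻¹ G` at `ξ` is the stalk of `G` at `ξ ≫ f`, naturally in `G` (sets). -/
def stalkPullIsoType : EtDesc.pullSh f ⋙ (Scheme.pointSmallEtale ξ).sheafFiber (A := Type (u + 1)) ≅
    (Scheme.pointSmallEtale (ξ ≫ f)).sheafFiber (A := Type (u + 1)) :=
  ((Scheme.pointSmallEtale ξ).sheafFiberComapIso (EtCoh.bc f) (EtCoh.coverPreserving_bc f)
      (Type (u + 1))).symm ≪≫
    (sheafFiberIsoOfIsoType (comapPointIso f ξ)).symm

section StrictHens

open StrictHens

variable (R : Type u) [CommRing R] [HenselianLocalRing R]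
  [IsSepClosed (IsLocalRing.ResidueField R)]

/-- Over a strictly henselian local ring, global sections are the stalk at the closed geometric
point. -/
def sectionsIsoStalkType :
    (sheafSections (Spec (CommRingCat.of R)).smallEtaleTopology (Type (u + 1))).obj
        (op (EtCoh.top (Spec (CommRingCat.of R)))) ≅
      (Scheme.pointSmallEtale (ρ R)).sheafFiber (A := Type (u + 1)) :=
  NatIso.ofComponents
    (fun F => (Equiv.ofBijective _ (bijective_germ_type R F)).toIso)
    (by
      intro F G a
      exact ((Scheme.pointSmallEtale (ρ R)).toPresheafFiber_naturality a.hom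
        (EtCoh.top (Spec (CommRingCat.of R))) (x₀ R)).symm)

end StrictHens

end

end Groth.Agent.Lib.Helper22.EtStalk
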