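import Groth.Agent.Lib.Helper22.EtStalk.SetsFamily
import Groth.Agent.Lib.Helper22.EtStalk.PullSets

/-!
# Étale sheaves of sets over a separably closed field (helper22)

For `k` separably closed, the stalk functor at the point of `Spec k` (equivalently global sections)
is an equivalence `Sh(Spec k) ≌ Type`, with inverse the skyscraper sheaf functor.
-/

set_option autoImplicit false
universe u
open CategoryTheory CategoryTheory.Limits AlgebraicGeometry Opposite

namespace Groth.Agent.Lib.Helper22.EtStalk.SepField

open Groth.Agent.Lib.Helper22.EtStalk Groth.Agent.Lib.Helper22.EtStalk.Sets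
  Groth.Agent.Lib.Helper22.EtStalk.StrictHens

theorem isSepClosed_of_ringEquiv (k k' : Type*) [Field k] [Field k'] [IsSepClosed k]
    (e : k ≃+* k') : IsSepClosed k' := by
  refine IsSepClosed.of_exists_root k' fun p hm hirr hsep => ?_
  have hsep' : (p.map (e.symm : k' →+* k)).Separable := hsep.map
  have hdeg : (p.map (e.symm : k' →+* k)).degree ≠ 0 := by
    rw [Polynomial.degree_map]
    exact (Polynomial.degree_pos_of_irreducible hirr).ne'
  obtain ⟨x, hx⟩ := IsSepClosed.exists_root _ hdeg hsep'
  refine ⟨e x, ?_⟩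
  have h2 : Polynomial.eval₂ (e.symm : k' →+* k) x p = 0 := by
    rw [← Polynomial.eval_map]; exact hx
  have h3 := congrArg (e : k →+* k') h2
  rw [Polynomial.hom_eval₂ p (e.symm : k' →+* k) (e : k →+* k') x] at h3
  have h4 : ((e : k →+* k').comp (e.symm : k' →+* k)) = RingHom.id k' := by
    ext y; simp
  rw [h4, map_zero] at h3
  simpa [Polynomial.eval₂_id] using h3

variable (k : Type u) [Field k] [IsSepClosed k]

noncomputable def residueEquiv : k ≃+* IsLocalRing.ResidueField k :=
  RingEquiv.ofBijective (IsLocalRing.residue k)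
    ⟨(IsLocalRing.residue k).injective, IsLocalRing.residue_surjective⟩

instance : IsSepClosed (IsLocalRing.ResidueField k) :=
  isSepClosed_of_ringEquiv k _ (residueEquiv k)

noncomputable section

abbrev Xk : Scheme.{u} := Spec (CommRingCat.of k)

/-- The point of the small étale site of `Spec k`. -/
abbrev Φ : GrothendieckTopology.Point.{u} (Xk k).smallEtaleTopology := Scheme.pointSmallEtale (ρ k)

/-- Every point of an étale `Spec k`-scheme is rational. -/
lemma exists_lift (U : (Xk k).Etale) (y : U.left) :
    ∃ x : (Φ k).fiber.obj U, x.left (default : Spec (CommRingCat.of (IsLocalRing.ResidueField k))) = y := by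
  have hs : (ρ k) default = U.hom y := Subsingleton.elim _ _
  obtain ⟨x, hx⟩ := Scheme.pointSmallEtaleFiberObjToPreimage_surjective (ρ k) hs U ⟨y, rfl⟩
  exact ⟨x, congrArg Subtype.val hx⟩

/-- The stalk functor at the point of `Spec k` reflects isomorphisms. -/
lemma isIso_of_isIso_stalk {F G : Sh (Xk k)} (a : F ⟶ G)
    (h : IsIso (((Φ k).sheafFiber (A := Type (u + 1))).map a)) : IsIso a := by
  refine isIso_of_stalks (X := Xk k)
    (P := fun Ω _ _ ξ => Function.Bijective
      (((Scheme.pointSmallEtale ξ).sheafFiber (A := Type (u + 1))).map a)) ?_ a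
    (fun Ω _ _ ξ hξ => hξ)
  intro U y
  obtain ⟨x, hx⟩ := exists_lift k U y
  exact ⟨_, inferInstance, inferInstance, ρ k, (isIso_iff_bijective _).1 h, x, hx⟩

instance subsingleton_fiber_top : Subsingleton ((Φ k).fiber.obj (EtCoh.top (Xk k))) := by
  constructor
  intro a b
  apply Over.OverMorphism.ext
  have ha : a.left ≫ 𝟙 _ = ρ k := Over.w a
  have hb : b.left ≫ 𝟙 _ = ρ k := Over.w b
  rw [Category.comp_id] at ha hb
  exact ha.trans hb.symm

lemma isIso_pi_π (M : Type (u + 1)) :
    IsIso (Pi.π (fun _ : (Φ k).fiber.obj (EtCoh.top (Xk k)) => M) (x₀ k)) := by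
  refine ⟨Pi.lift (fun _ => 𝟙 M), ?_, ?_⟩
  · apply Pi.hom_ext
    intro x
    rw [Category.assoc, Pi.lift_π, Category.comp_id, Category.id_comp,
      Subsingleton.elim x (x₀ k)]
  · rw [Pi.lift_π]

/-- The counit of `stalk ⊣ skyscraper` is an isomorphism. -/
instance isIso_counit (M : Type (u + 1)) :
    IsIso ((Φ k).skyscraperSheafAdjunction.counit.app M) := by
  have h1 : (Φ k).toPresheafFiber (EtCoh.top (Xk k)) (x₀ k) ((Φ k).skyscraperPresheaf M) ≫
      (Φ k).skyscraperSheafAdjunction.counit.app M =
      Pi.π (fun _ : (Φ k).fiber.obj (EtCoh.top (Xk k)) => M) (x₀ k) := by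
    have h2 : (Φ k).skyscraperSheafAdjunction.counit.app M =
        (Φ k).skyscraperPresheafHomEquiv.symm (𝟙 ((Φ k).skyscraperPresheaf M)) := by
      have h3 := (Φ k).skyscraperSheafAdjunction_homEquiv_symm_apply
        (F := (Φ k).skyscraperSheaf M) (M := M) (𝟙 _)
      refine Eq.trans ?_ h3
      have h6 := (Φ k).skyscraperSheafAdjunction.homEquiv_counit
        (g := 𝟙 ((Φ k).skyscraperSheafFunctor.obj M))
      rw [CategoryTheory.Functor.map_id, Category.id_comp] at h6
      exact h6.symm
    rw [h2, GrothendieckTopology.Point.toPresheafFiber_skyscraperPresheafHomEquiv_symm]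
    exact Category.id_comp _
  have h4 : IsIso ((Φ k).toPresheafFiber (EtCoh.top (Xk k)) (x₀ k)
      ((Φ k).skyscraperPresheaf M)) :=
    (isIso_iff_bijective _).2 (bijective_germ_type k ((Φ k).skyscraperSheaf M))
  have h5 := isIso_pi_π k M
  rw [← h1] at h5
  exact @IsIso.of_isIso_comp_left _ _ _ _ _ ((Φ k).toPresheafFiber (EtCoh.top (Xk k)) (x₀ k)
      ((Φ k).skyscraperPresheaf M)) ((Φ k).skyscraperSheafAdjunction.counit.app M) h4 h5

/-- The unit of `stalk ⊣ skyscraper` is an isomorphism. -/
instance isIso_unit (F : Sh (Xk k)) :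
    IsIso ((Φ k).skyscraperSheafAdjunction.unit.app F) := by
  apply isIso_of_isIso_stalk
  have h := (Φ k).skyscraperSheafAdjunction.left_triangle_components F
  have h2 : IsIso (((Φ k).sheafFiber (A := Type (u + 1))).map
      ((Φ k).skyscraperSheafAdjunction.unit.app F) ≫
      (Φ k).skyscraperSheafAdjunction.counit.app (((Φ k).sheafFiber (A := Type (u + 1))).obj F)) := by
    rw [h]
    exact IsIso.id _
  exact @IsIso.of_isIso_comp_right _ _ _ _ _ _
    ((Φ k).skyscraperSheafAdjunction.counit.app (((Φ k).sheafFiber (A := Type (u + 1))).obj F))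
    (isIso_counit k _) h2

/-- The stalk functor is an equivalence. -/
instance isEquivalence_sheafFiber : ((Φ k).sheafFiber (A := Type (u + 1))).IsEquivalence :=
  (Φ k).skyscraperSheafAdjunction.toEquivalence.isEquivalence_functor

/-- Global sections are an equivalence over a separably closed field. -/
theorem isEquivalence_sections :
    ((sheafSections (Xk k).smallEtaleTopology (Type (u + 1))).obj
      (op (EtCoh.top (Xk k)))).IsEquivalence :=
  Functor.isEquivalence_of_iso (sectionsIsoStalkType k).symm

end

end Groth.Agent.Lib.Helper22.EtStalk.SepField
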