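import Groth.Agent.Lib.Helper22.EtStalk.StrictHens
import Groth.Agent.Lib.Helper4.HensSection2
import Groth.Agent.Lib.Helper22.EtLoc.Acyclic

/-!
# Vanishing of étale cohomology on the spectrum of a strictly henselian local ring (helper22)
-/

set_option autoImplicit false
universe u
open CategoryTheory CategoryTheory.Limits AlgebraicGeometry Opposite

namespace Groth.Agent.Lib.Helper22.EtStalk.StrictHens

open Groth.Agent.Lib.Helper22.EtStalk Groth.Agent.Lib.Helper22.EtLoc
open Groth.Agent.Lib.Helper22.CechU.Etale Groth.Agent.Lib.Helper22.DimShift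

noncomputable section

variable (R : Type u) [CommRing R] [HenselianLocalRing R]
  [IsSepClosed (IsLocalRing.ResidueField R)]

set_option backward.isDefEq.respectTransparency.types false in
/-- Global sections are exact on the right over a strictly henselian local ring. -/
theorem sections_surjective_of_epi {F G : EtCoh.Ab (Spec (CommRingCat.of R))} (g : F ⟶ G) [Epi g] :
    Function.Surjective (g.hom.app (op (EtCoh.top (Spec (CommRingCat.of R))))) := by
  intro t
  have hls : Sheaf.IsLocallySurjective g := (Sheaf.isLocallySurjective_iff_epi' _ g).2 inferInstance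
  have hmem := Presheaf.imageSieve_mem (Spec (CommRingCat.of R)).smallEtaleTopology g.hom t
  rw [mem_smallEtaleTopology_iff] at hmem
  obtain ⟨V, f, y, ⟨z, hz⟩, hy⟩ := hmem (IsLocalRing.closedPoint R)
  have : Etale (V.hom : V.left ⟶ Spec (CommRingCat.of R)) := V.prop
  have hy' : (V.hom : V.left ⟶ Spec (CommRingCat.of R)).base y = IsLocalRing.closedPoint R := by
    have e : f.left ≫ (EtCoh.top (Spec (CommRingCat.of R))).hom = V.hom := Over.w f.hom
    rw [← hy, ← e]
    rfl
  obtain ⟨s, hs1, -⟩ := Groth.Agent.Lib.Helper4.HensSection.exists_section_through R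
    (V.hom : V.left ⟶ Spec (CommRingCat.of R)) y hy'
  let u : EtCoh.top (Spec (CommRingCat.of R)) ⟶ V := MorphismProperty.Over.homMk s hs1 trivial
  have e : u ≫ f = 𝟙 _ := Subsingleton.elim _ _
  refine ⟨F.obj.map u.op z, ?_⟩
  have n1 := congrArg (fun φ => φ z)
    (congrArg AddCommGrpCat.Hom.hom (g.hom.naturality u.op))
  simp only [AddCommGrpCat.hom_comp, AddMonoidHom.coe_comp, Function.comp_apply] at n1
  refine n1.trans ?_
  erw [hz]
  have := congrArg (fun φ => φ t)
    (congrArg AddCommGrpCat.Hom.hom ((G.obj.map_comp f.op u.op).symm.trans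
      ((congrArg (fun k => G.obj.map k) (by rw [← op_comp, e]; rfl)).trans
        (G.obj.map_id _))))
  simpa using this

/-- Higher étale cohomology vanishes over a strictly henselian local ring. -/
theorem H_succ_eq_zero (F : EtCoh.Ab (Spec (CommRingCat.of R))) (n : ℕ)
    (x : EtCoh.H (Spec (CommRingCat.of R)) F (n + 1)) : x = 0 := by
  refine ext_succ_eq_zero_of_class _ (fun _ : EtCoh.Ab (Spec (CommRingCat.of R)) => True)
    ?_ (fun _ _ => trivial) n F trivial x
  intro G _ x₃
  have hS := injSC_shortExact G
  have : Epi (injSC G).g := hS.epi_g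
  obtain ⟨s, hs⟩ := sections_surjective_of_epi R (injSC G).g
    (Sheaf.H.equiv₀ _ (EtCore.topIsTerminal _) x₃)
  refine ⟨(Sheaf.H.equiv₀ _ (EtCore.topIsTerminal _)).symm s, ?_⟩
  have h := Sheaf.H.equiv₀_symm_naturality (hT := EtCore.topIsTerminal _) (injSC G).g s
  rw [hs, AddEquiv.symm_apply_apply] at h
  exact h

end

end Groth.Agent.Lib.Helper22.EtStalk.StrictHens
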