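import Groth.Agent.Lib.Helper22.EtStalk.Conservative
import Groth.Prelude.Def_EtShriek2
import Mathlib.CategoryTheory.Sites.Point.Skyscraper

/-!
# Stalks of extension by zero along an étale morphism (helper22)
-/

set_option autoImplicit false
universe w v u
open CategoryTheory CategoryTheory.Limits AlgebraicGeometry Opposite

namespace Groth.Agent.Lib.Helper22.EtStalk

noncomputable section

section Generic

variable {C : Type u} [Category.{v} C] [HasProducts.{w} C]

/-- A product indexed by a disjoint union is the product of the partial products. -/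
def isLimitFanReindex {I : Type*} {S : I → Type w} {T : Type w} (e : (Σ i, S i) ≃ T) (M : C) :
    IsLimit (Fan.mk (∏ᶜ fun _ : T => M)
      (fun i => Pi.map' (fun s : S i => e ⟨i, s⟩) (fun _ => 𝟙 M))) := by
  have key : ∀ (c : Fan (fun i => ∏ᶜ fun _ : S i => M)) (p : Σ i, S i) (t : T) (_ : e.symm t = p),
      c.proj (e.symm t).1 ≫ Pi.π (fun _ : S (e.symm t).1 => M) (e.symm t).2 =
        c.proj p.1 ≫ Pi.π (fun _ : S p.1 => M) p.2 := by
    intro c p t h
    subst h
    rfl
  refine Fan.IsLimit.mk _
    (fun c => Pi.lift (fun t => c.proj (e.symm t).1 ≫ Pi.π (fun _ : S (e.symm t).1 => M) (e.symm t).2))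
    ?_ ?_
  · intro c i
    refine Pi.hom_ext (f := fun _ : S i => M) _ _ fun s => ?_
    rw [fan_mk_proj, Category.assoc, Pi.map'_comp_π, Category.comp_id, Pi.lift_π]
    exact key c ⟨i, s⟩ (e ⟨i, s⟩) (e.symm_apply_apply _)
  · intro c m hm
    refine Pi.hom_ext (f := fun _ : T => M) _ _ fun t => ?_
    obtain ⟨⟨i, s⟩, rfl⟩ := e.surjective t
    rw [Pi.lift_π, key c ⟨i, s⟩ (e ⟨i, s⟩) (e.symm_apply_apply _), ← hm i]
    rw [fan_mk_proj, Category.assoc, Pi.map'_comp_π, Category.comp_id]

lemma pimap_square (M : C) {A B A' B' : Type w} (a : A' → A) (b : B' → B) (p : B → A)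
    (p' : B' → A') (h : ∀ y, a (p' y) = p (b y)) :
    Pi.map' (f := fun _ : A => M) (g := fun _ : A' => M) a (fun _ => 𝟙 M) ≫
        Pi.map' (f := fun _ : A' => M) (g := fun _ : B' => M) p' (fun _ => 𝟙 M) =
      Pi.map' (f := fun _ : A => M) (g := fun _ : B => M) p (fun _ => 𝟙 M) ≫
        Pi.map' (f := fun _ : B => M) (g := fun _ : B' => M) b (fun _ => 𝟙 M) := by
  refine Pi.hom_ext (f := fun _ : B' => M) _ _ fun y => ?_
  simp only [Category.assoc, Pi.map'_comp_π, Category.comp_id]
  rw [h]

end Generic

section Etale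

variable {U X : Scheme.{u}} (j : U ⟶ X) [Etale j]
  {Ω : Type u} [Field Ω] [IsSepClosed Ω] (ξ : Spec (CommRingCat.of Ω) ⟶ X)

/-- Geometric points of `U` over `ξ`. -/
abbrev Lifts : Type u := {u : Spec (CommRingCat.of Ω) ⟶ U // u ≫ j = ξ}

variable {j ξ}

set_option backward.isDefEq.respectTransparency.types false in
/-- An étale neighbourhood of a lift of `ξ` is an étale neighbourhood of `ξ`. -/
def incl (u : Lifts j ξ) (V : U.Etale) (y : (Scheme.pointSmallEtale u.1).fiber.obj V) :
    (Scheme.pointSmallEtale ξ).fiber.obj ((EtShriek.compEtale j).obj V) :=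
  Over.homMk y.left (by
    change y.left ≫ V.hom ≫ j = ξ
    have h : y.left ≫ V.hom = u.1 := Over.w y
    rw [← Category.assoc, h]
    exact u.2)

set_option backward.isDefEq.respectTransparency.types false in
lemma incl_left (u : Lifts j ξ) (V : U.Etale) (y : (Scheme.pointSmallEtale u.1).fiber.obj V) :
    (incl u V y).left = y.left := rfl

set_option backward.isDefEq.respectTransparency.types false in
lemma incl_bijective (V : U.Etale) :
    Function.Bijective (fun p : Σ u : Lifts j ξ, (Scheme.pointSmallEtale u.1).fiber.obj V =>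
      incl p.1 V p.2) := by
  constructor
  · rintro ⟨u, y⟩ ⟨u', y'⟩ h
    have h1 : y.left = y'.left := congrArg (fun t => t.left) h
    have hu : u = u' := by
      apply Subtype.ext
      have a : y.left ≫ V.hom = u.1 := Over.w y
      have a' : y'.left ≫ V.hom = u'.1 := Over.w y'
      rw [← a, ← a', h1]
    subst hu
    have : y = y' := Over.OverMorphism.ext h1
    rw [this]
  · intro x
    have hx : x.left ≫ V.hom ≫ j = ξ := Over.w x
    refine ⟨⟨⟨x.left ≫ V.hom, by rw [Category.assoc]; exact hx⟩, Over.homMk x.left rfl⟩, ?_⟩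
    exact Over.OverMorphism.ext rfl

/-- The étale neighbourhoods of `ξ` factoring through `U` are the neighbourhoods of its lifts. -/
def fiberEquiv (V : U.Etale) :
    (Σ u : Lifts j ξ, (Scheme.pointSmallEtale u.1).fiber.obj V) ≃
      (Scheme.pointSmallEtale ξ).fiber.obj ((EtShriek.compEtale j).obj V) :=
  Equiv.ofBijective _ (incl_bijective V)

set_option backward.isDefEq.respectTransparency.types false in
lemma incl_naturality (u : Lifts j ξ) {V V' : U.Etale} (f : V ⟶ V')
    (y : (Scheme.pointSmallEtale u.1).fiber.obj V) :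
    (Scheme.pointSmallEtale ξ).fiber.map ((EtShriek.compEtale j).map f) (incl u V y) =
      incl u V' ((Scheme.pointSmallEtale u.1).fiber.map f y) :=
  Over.OverMorphism.ext rfl

variable (j ξ) [EtShriek.JCont j]

/-- The projection from the restriction of the skyscraper sheaf at `ξ` to the skyscraper sheaf at a
lift of `ξ`. -/
def projApp (u : Lifts j ξ) (M : AddCommGrpCat.{u + 1}) :
    (EtShriek.restrAlong j).obj ((Scheme.pointSmallEtale ξ).skyscraperSheaf M) ⟶
      (Scheme.pointSmallEtale u.1).skyscraperSheaf M :=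
  ⟨{ app := fun V => Pi.map' (incl u V.unop) (fun _ => 𝟙 M)
     naturality := by
      intro V V' f
      exact pimap_square M _ _ _ _ (fun y => incl_naturality u f.unop y) }⟩

/-- The restriction of the skyscraper sheaf at `ξ` is the product of the skyscraper sheaves at the
lifts of `ξ`. -/
def isLimitFan (M : AddCommGrpCat.{u + 1}) :
    IsLimit (Fan.mk ((EtShriek.restrAlong j).obj ((Scheme.pointSmallEtale ξ).skyscraperSheaf M))
      (fun u : Lifts j ξ => projApp j ξ u M)) := by
  have h1 : ∀ V : U.Etaleᵒᵖ, IsLimit ((sheafToPresheaf U.smallEtaleTopology AddCommGrpCat.{u + 1} ⋙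
      (evaluation U.Etaleᵒᵖ AddCommGrpCat.{u + 1}).obj V).mapCone
      (Fan.mk ((EtShriek.restrAlong j).obj ((Scheme.pointSmallEtale ξ).skyscraperSheaf M))
      (fun u : Lifts j ξ => projApp j ξ u M))) := by
    intro V
    refine (isLimitMapConeFanMkEquiv
      (sheafToPresheaf U.smallEtaleTopology AddCommGrpCat.{u + 1} ⋙
        (evaluation U.Etaleᵒᵖ AddCommGrpCat.{u + 1}).obj V) _ _).symm ?_
    exact isLimitFanReindex (fiberEquiv (j := j) (ξ := ξ) V.unop) M
  have h2 : IsLimit ((sheafToPresheaf U.smallEtaleTopology AddCommGrpCat.{u + 1}).mapCone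
      (Fan.mk ((EtShriek.restrAlong j).obj ((Scheme.pointSmallEtale ξ).skyscraperSheaf M))
      (fun u : Lifts j ξ => projApp j ξ u M))) :=
    evaluationJointlyReflectsLimits _ h1
  exact isLimitOfReflects (sheafToPresheaf U.smallEtaleTopology AddCommGrpCat.{u + 1}) h2

/-- The restriction to `U` of the skyscraper sheaf at `ξ` with injective value is injective. -/
lemma injective_res_skyscraper (M : AddCommGrpCat.{u + 1}) [Injective M] :
    Injective ((EtShriek.restrAlong j).obj ((Scheme.pointSmallEtale ξ).skyscraperSheaf M)) := by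
  have : ∀ u : Lifts j ξ, Injective ((Scheme.pointSmallEtale u.1).skyscraperSheaf M) := fun u =>
    Injective.injective_of_adjoint (Scheme.pointSmallEtale u.1).skyscraperSheafAdjunction M
  have h : Injective (∏ᶜ fun u : Lifts j ξ => (Scheme.pointSmallEtale u.1).skyscraperSheaf M) :=
    inferInstance
  exact Injective.of_iso
    ((limit.isLimit _).conePointUniqueUpToIso (isLimitFan j ξ M)) h

instance preservesInjectiveObjects_res_skyscraper :
    ((Scheme.pointSmallEtale ξ).skyscraperSheafFunctor (A := AddCommGrpCat.{u + 1}) ⋙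
      EtShriek.restrAlong j).PreservesInjectiveObjects :=
  ⟨fun {M} _ => injective_res_skyscraper j ξ M⟩

/-- The adjunction `(j_! -)_ξ ⊣ (sky_ξ -)|_U`. -/
def adjL : EtShriek.extZero j ⋙ EtCoh.stalk ξ ⊣
    (Scheme.pointSmallEtale ξ).skyscraperSheafFunctor (A := AddCommGrpCat.{u + 1}) ⋙
      EtShriek.restrAlong j :=
  (EtShriek.extZeroAdj j).comp (Scheme.pointSmallEtale ξ).skyscraperSheafAdjunction

instance preservesMono_extZero_stalk :
    (EtShriek.extZero j ⋙ EtCoh.stalk ξ).PreservesMonomorphisms :=
  Functor.preservesMonomorphisms_of_adjunction_of_preservesInjectiveObjects (adjL j ξ)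

end Etale

section Exact

variable {U X : Scheme.{u}} (j : U ⟶ X) [Etale j] [EtShriek.JCont j]

instance preservesMono_extZero : (EtShriek.extZero j).PreservesMonomorphisms where
  preserves {F G} a _ := by
    rw [mono_iff_stalks]
    intro Ω _ _ ξ
    have : Mono ((EtShriek.extZero j ⋙ EtCoh.stalk ξ).map a) := inferInstance
    exact (AddCommGrpCat.mono_iff_injective _).1 this

instance restrAlong_additive : (EtShriek.restrAlong j).Additive where

instance extZero_additive : (EtShriek.extZero j).Additive :=
  (EtShriek.extZeroAdj j).left_adjoint_additive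

instance extZero_preservesFiniteColimits : PreservesFiniteColimits (EtShriek.extZero j) := by
  have := (EtShriek.extZeroAdj j).leftAdjoint_preservesColimits
  exact ⟨fun _ _ _ => inferInstance⟩

/-- Extension by zero along an étale morphism is exact. -/
theorem preservesFiniteLimits_extZero : PreservesFiniteLimits (EtShriek.extZero j) := by
  refine ((Functor.preservesFiniteLimits_tfae (EtShriek.extZero j)).out 0 3).1 ?_
  intro S hS
  have hc := ((Functor.preservesFiniteColimits_tfae (EtShriek.extZero j)).out 3 0).1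
    (extZero_preservesFiniteColimits j)
  have : Mono S.f := hS.mono_f
  exact ⟨(hc S hS).1, inferInstance⟩

end Exact

end

end Groth.Agent.Lib.Helper22.EtStalk
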