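import Groth.Agent.Lib.Helper22.EtStalk.Conservative

/-!
# Conservativity of the geometric points with algebraically closed fields (helper22)
-/

set_option autoImplicit false
set_option linter.unusedSectionVars false
universe u
open CategoryTheory CategoryTheory.Limits AlgebraicGeometry Opposite

namespace Groth.Agent.Lib.Helper22.EtStalk.AC

open Groth.Agent.Lib.Helper22.CechU.Etale Groth.Agent.Lib.Helper22.EtStalk

noncomputable section

variable {X : Scheme.{u}}

/-- Every point of an étale `X`-scheme is hit by a geometric point with algebraically closed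
field. -/
lemma exists_geomPoint (U : X.Etale) (y : U.left) :
    ∃ (Ω : Type u) (_ : Field Ω) (_ : IsAlgClosed Ω) (ξ : Spec (CommRingCat.of Ω) ⟶ X)
      (x : (Scheme.pointSmallEtale ξ).fiber.obj U),
      x.left (default : Spec (CommRingCat.of Ω)) = y := by
  let x₀ : X := U.hom y
  let Ω := AlgebraicClosure (X.residueField x₀)
  let ξ : Spec (CommRingCat.of Ω) ⟶ X := (Scheme.SpecToEquivOfField Ω X).symm
    ⟨x₀, CommRingCat.ofHom (algebraMap (X.residueField x₀) Ω)⟩
  have hξ : ξ default = x₀ := by simp [ξ]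
  obtain ⟨x, hx⟩ := Scheme.pointSmallEtaleFiberObjToPreimage_surjective ξ hξ U ⟨y, rfl⟩
  refine ⟨Ω, inferInstance, inferInstance, ξ, x, ?_⟩
  exact congrArg Subtype.val hx

/-- Conservativity: a section all of whose germs at algebraically closed points vanish is zero. -/
lemma eq_zero_of_germs {F : EtCoh.Ab X} {U : X.Etale} (s : F.obj.obj (op U))
    (h : ∀ (Ω : Type u) [Field Ω] [IsAlgClosed Ω] (ξ : Spec (CommRingCat.of Ω) ⟶ X)
      (x : (Scheme.pointSmallEtale ξ).fiber.obj U), germ ξ F U x s = 0) : s = 0 := by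
  refine eq_of_locally_eq s 0 ?_
  intro y
  obtain ⟨Ω, _, _, ξ, x, hx⟩ := exists_geomPoint U y
  have h1 : germ ξ F U x s = germ ξ F U x 0 := by rw [h Ω ξ x, map_zero]
  obtain ⟨V, f, v, hv, hf⟩ := ((Scheme.pointSmallEtale ξ).toPresheafFiber_eq_iff' U x s 0).1 h1
  refine ⟨V, f, ⟨v.left (default : Spec (CommRingCat.of Ω)), ?_⟩, hf⟩
  rw [← hx, ← hv]
  rfl

theorem mono_iff_stalks {F G : EtCoh.Ab X} (a : F ⟶ G) :
    Mono a ↔ ∀ (Ω : Type u) [Field Ω] [IsAlgClosed Ω] (ξ : Spec (CommRingCat.of Ω) ⟶ X),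
      Function.Injective ((EtCoh.stalk ξ).map a) := by
  constructor
  · intro h Ω _ _ ξ
    exact (AddCommGrpCat.mono_iff_injective _).1 inferInstance
  · intro h
    have : Mono a.hom := by
      refine @NatTrans.mono_of_mono_app _ _ _ _ _ _ a.hom (fun U => ?_)
      rw [AddCommGrpCat.mono_iff_injective]
      refine (injective_iff_map_eq_zero _).2 fun s hs => ?_
      refine eq_zero_of_germs s ?_
      intro Ω _ _ ξ x
      apply h Ω ξ
      rw [germ_naturality]
      erw [hs]
      rw [map_zero, map_zero]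
    exact Sheaf.Hom.mono_of_presheaf_mono _ _ a

theorem epi_iff_stalks {F G : EtCoh.Ab X} (a : F ⟶ G) :
    Epi a ↔ ∀ (Ω : Type u) [Field Ω] [IsAlgClosed Ω] (ξ : Spec (CommRingCat.of Ω) ⟶ X),
      Function.Surjective ((EtCoh.stalk ξ).map a) := by
  constructor
  · intro h Ω _ _ ξ
    exact (AddCommGrpCat.epi_iff_surjective _).1 inferInstance
  · intro h
    have : Sheaf.IsLocallySurjective a := by
      constructor
      intro U s
      rw [mem_smallEtaleTopology_iff]
      intro y
      obtain ⟨Ω, _, _, ξ, x, hx⟩ := exists_geomPoint U y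
      let Φ := Scheme.pointSmallEtale ξ
      obtain ⟨p, hp⟩ := h Ω ξ (germ ξ G U x s)
      obtain ⟨V, v, z, rfl⟩ := Φ.toPresheafFiber_jointly_surjective p
      let eV : Φ.fiber.Elements := ⟨V, v⟩
      let eU : Φ.fiber.Elements := ⟨U, x⟩
      let eW := IsCofiltered.min eV eU
      let g₁ : eW ⟶ eV := IsCofiltered.minToLeft eV eU
      let g₂ : eW ⟶ eU := IsCofiltered.minToRight eV eU
      have h1 : germ ξ G eW.1 eW.2 (G.obj.map g₁.1.op (a.hom.app (op V) z)) =
          germ ξ G eW.1 eW.2 (G.obj.map g₂.1.op s) := by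
        rw [germ_map, germ_map]
        have e1 : Φ.fiber.map g₁.1 eW.2 = v := g₁.2
        have e2 : Φ.fiber.map g₂.1 eW.2 = x := g₂.2
        rw [e1, e2, ← germ_naturality]
        exact hp
      obtain ⟨W', f, w', hw', hf⟩ := (Φ.toPresheafFiber_eq_iff' eW.1 eW.2 _ _).1 h1
      refine ⟨W', f ≫ g₂.1, w'.left (default : Spec (CommRingCat.of Ω)), ?_, ?_⟩
      · refine ⟨F.obj.map (f ≫ g₁.1).op z, ?_⟩
        have n1 := congrArg (fun φ => φ z)
          (congrArg AddCommGrpCat.Hom.hom (a.hom.naturality (f ≫ g₁.1).op))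
        simp only [AddCommGrpCat.hom_comp, AddMonoidHom.coe_comp, Function.comp_apply] at n1
        refine n1.trans ?_
        rw [op_comp, Functor.map_comp, op_comp, Functor.map_comp]
        exact hf
      · have e2 : Φ.fiber.map g₂.1 eW.2 = x := g₂.2
        have e3 : Φ.fiber.map (f ≫ g₂.1) w' = x := by
          rw [Functor.map_comp]
          exact (congrArg (Φ.fiber.map g₂.1) hw').trans e2
        rw [← hx, ← e3]
        rfl
    exact Sheaf.epi_of_isLocallySurjective a

theorem isIso_iff_stalks {F G : EtCoh.Ab X} (a : F ⟶ G) :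
    IsIso a ↔ ∀ (Ω : Type u) [Field Ω] [IsAlgClosed Ω] (ξ : Spec (CommRingCat.of Ω) ⟶ X),
      Function.Bijective ((EtCoh.stalk ξ).map a) := by
  constructor
  · intro h Ω _ _ ξ
    exact ConcreteCategory.bijective_of_isIso ((EtCoh.stalk ξ).map a)
  · intro h
    have h1 : Mono a := (mono_iff_stalks a).2 fun Ω _ _ ξ => (h Ω ξ).1
    have h2 : Epi a := (epi_iff_stalks a).2 fun Ω _ _ ξ => (h Ω ξ).2
    exact isIso_of_mono_of_epi a

theorem isZero_of_stalks (H : EtCoh.Ab X)
    (h : ∀ (Ω : Type u) [Field Ω] [IsAlgClosed Ω] (ξ : Spec (CommRingCat.of Ω) ⟶ X),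
      IsZero ((EtCoh.stalk ξ).obj H)) : IsZero H := by
  have : Mono (0 : H ⟶ H) := by
    rw [mono_iff_stalks]
    intro Ω _ _ ξ p q _
    have := AddCommGrpCat.isZero_iff_subsingleton.1 (h Ω ξ)
    exact Subsingleton.elim _ _
  rw [IsZero.iff_id_eq_zero]
  exact (cancel_mono (0 : H ⟶ H)).1 (by simp)

end

end Groth.Agent.Lib.Helper22.EtStalk.AC
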