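import Groth.Prelude.Def_SGA4b
import Groth.Agent.Lib.Helper10.LanFlat

/-!
# Exactness of inverse image of étale sheaves of sets, and naturality of `secPull` (helper22)
-/

set_option autoImplicit false
universe u
open CategoryTheory CategoryTheory.Limits AlgebraicGeometry Opposite

namespace Groth.Agent.Lib.Helper22.EtStalk.PullShExact

open Groth.Agent.Lib.Helper10.LanFlat in
/-- Inverse image of étale sheaves of sets is left exact. -/
instance preservesFiniteLimits_pullSh {X Y : Scheme.{u}} (f : X ⟶ Y) :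
    PreservesFiniteLimits (EtDesc.pullSh f) := by
  have h1 : ∀ K : (X.Etale)ᵒᵖ, HasColimitsOfShape (CostructuredArrow (EtCoh.bc f).op K)
      (Type (u + 1)) := fun K => inferInstance
  have h4 : ∀ K : (X.Etale)ᵒᵖ, IsFiltered (CostructuredArrow (EtCoh.bc f).op K) := fun K =>
    IsFiltered.of_equivalence (structuredArrowOpEquivalence (EtCoh.bc f) (Opposite.unop K))
  have h5 : ∀ K : (X.Etale)ᵒᵖ, HasExactColimitsOfShape (CostructuredArrow (EtCoh.bc f).op K)
      (Type (u + 1)) := by
    intro K
    let e := (ShrinkHoms.equivalence.{u + 1} (CostructuredArrow (EtCoh.bc f).op K)).trans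
      (Shrink.equivalence.{u + 1, u + 1} (ShrinkHoms.{u + 1} (CostructuredArrow (EtCoh.bc f).op K)))
    have := IsFiltered.of_equivalence e
    exact HasExactColimitsOfShape.of_domain_equivalence _ e.symm
  have h2 : PreservesFiniteLimits ((EtCoh.bc f).op.lan :
      ((Y.Etale)ᵒᵖ ⥤ Type (u + 1)) ⥤ ((X.Etale)ᵒᵖ ⥤ Type (u + 1))) :=
    lan_preservesFiniteLimits_of_flat (Type (u + 1)) (EtCoh.bc f)
  exact Functor.sheafPullbackConstruction.preservesFiniteLimits (EtCoh.bc f) (Type (u + 1))
    Y.smallEtaleTopology X.smallEtaleTopology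

/-- A monomorphism of sheaves of sets is injective on sections. -/
lemma injective_of_mono {X : Scheme.{u}} {F G : EtDesc.Sh X} (a : F ⟶ G) [Mono a] (U : X.Etale) :
    Function.Injective (a.hom.app (op U)) := by
  have h1 : Mono a.hom := (Sheaf.Hom.mono_iff_presheaf_mono _ _ a).1 inferInstance
  have h2 := (NatTrans.mono_iff_mono_app a.hom).1 h1 (op U)
  exact (mono_iff_injective _).1 h2

/-- Naturality of `secPull`. -/
lemma secPull_naturality {X Y : Scheme.{u}} (f : X ⟶ Y) {F G : EtDesc.Sh Y} (a : F ⟶ G)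
    (s : EtDesc.sect F (EtCoh.top Y)) :
    ((EtDesc.pullSh f).map a).hom.app (op (EtCoh.top X)) (EtDesc.secPull f F s) =
      EtDesc.secPull f G (a.hom.app (op (EtCoh.top Y)) s) := by
  unfold EtDesc.secPull
  have n1 := NatTrans.naturality_apply ((EtDesc.pullSh f).map a).hom (EtCore.bcTopIso f).inv.op
    (((EtDesc.adjSh f).unit.app F).hom.app (op (EtCoh.top Y)) s)
  refine n1.trans ?_
  congr 1
  have n2 := (EtDesc.adjSh f).unit.naturality a
  have n3 := congrArg (fun φ => φ.hom.app (op (EtCoh.top Y))) n2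
  exact (congrArg (fun ψ => (ConcreteCategory.hom ψ) s) n3).symm

end Groth.Agent.Lib.Helper22.EtStalk.PullShExact
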