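import Groth.Agent.Lib.Helper22.EtStalk.PullSets

/-!
# Conservative families of geometric points for étale sheaves of sets (helper22)
-/

set_option autoImplicit false
universe u
open CategoryTheory CategoryTheory.Limits AlgebraicGeometry Opposite

namespace Groth.Agent.Lib.Helper22.EtStalk.Sets

open Groth.Agent.Lib.Helper22.EtStalk
open Groth.Agent.Lib.Helper22.CechU.Etale

noncomputable section

variable {X : Scheme.{u}}

instance hasSheafCompose_forget_type :
    X.smallEtaleTopology.HasSheafCompose (forget (Type (u + 1))) := by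
  have : PreservesLimitsOfSize.{u, u + 1} (forget (Type (u + 1))) :=
    preservesLimitsOfSize_shrink.{u + 1, u + 1, u, u + 1} _
  infer_instance

/-- A family of geometric points of `X` through which every point of every étale `X`-scheme
lifts. -/
def CoveringFamily (X : Scheme.{u})
    (P : ∀ (Ω : Type u) [Field Ω] [IsSepClosed Ω], (Spec (CommRingCat.of Ω) ⟶ X) → Prop) : Prop :=
  ∀ (U : X.Etale) (y : U.left), ∃ (Ω : Type u) (_ : Field Ω) (_ : IsSepClosed Ω)
    (ξ : Spec (CommRingCat.of Ω) ⟶ X), P Ω ξ ∧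
      ∃ x : (Scheme.pointSmallEtale ξ).fiber.obj U, x.left (default : Spec (CommRingCat.of Ω)) = y

variable {P : ∀ (Ω : Type u) [Field Ω] [IsSepClosed Ω], (Spec (CommRingCat.of Ω) ⟶ X) → Prop}
  (hP : CoveringFamily X P)

include hP

/-- Sections with the same germs at all points of a covering family agree. -/
lemma eq_of_germs {F : Sh X} {U : X.Etale} (s s' : F.obj.obj (op U))
    (h : ∀ (Ω : Type u) [Field Ω] [IsSepClosed Ω] (ξ : Spec (CommRingCat.of Ω) ⟶ X), P Ω ξ →
      ∀ x : (Scheme.pointSmallEtale ξ).fiber.obj U,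
        (Scheme.pointSmallEtale ξ).toPresheafFiber U x F.obj s =
          (Scheme.pointSmallEtale ξ).toPresheafFiber U x F.obj s') : s = s' := by
  refine eq_of_locally_eq s s' ?_
  intro y
  obtain ⟨Ω, _, _, ξ, hξ, x, hx⟩ := hP U y
  obtain ⟨V, f, w, hw, hf⟩ :=
    ((Scheme.pointSmallEtale ξ).toPresheafFiber_eq_iff' (P := F.obj) U x s s').1 (h Ω ξ hξ x)
  refine ⟨V, f, ⟨w.left (default : Spec (CommRingCat.of Ω)), ?_⟩, hf⟩
  rw [← hx, ← hw]
  rfl

/-- Morphisms inducing the same maps on stalks at a covering family agree. -/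
theorem hom_ext_of_stalks {F G : Sh X} (a b : F ⟶ G)
    (h : ∀ (Ω : Type u) [Field Ω] [IsSepClosed Ω] (ξ : Spec (CommRingCat.of Ω) ⟶ X), P Ω ξ →
      ((Scheme.pointSmallEtale ξ).sheafFiber (A := Type (u + 1))).map a =
        ((Scheme.pointSmallEtale ξ).sheafFiber (A := Type (u + 1))).map b) : a = b := by
  apply Sheaf.hom_ext
  ext U s
  refine eq_of_germs hP _ _ ?_
  intro Ω _ _ ξ hξ x
  have n1 := (Scheme.pointSmallEtale ξ).toPresheafFiber_naturality_apply a.hom U.unop x s
  have n2 := (Scheme.pointSmallEtale ξ).toPresheafFiber_naturality_apply b.hom U.unop x s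
  refine n1.symm.trans (Eq.trans ?_ n2)
  exact congrArg (fun φ => φ ((Scheme.pointSmallEtale ξ).toPresheafFiber U.unop x F.obj s)) (h Ω ξ hξ)

/-- A morphism injective on stalks at a covering family is injective on sections. -/
theorem injective_of_stalks {F G : Sh X} (a : F ⟶ G)
    (h : ∀ (Ω : Type u) [Field Ω] [IsSepClosed Ω] (ξ : Spec (CommRingCat.of Ω) ⟶ X), P Ω ξ →
      Function.Injective (((Scheme.pointSmallEtale ξ).sheafFiber (A := Type (u + 1))).map a))
    (U : X.Etaleᵒᵖ) : Function.Injective (a.hom.app U) := by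
  intro s s' hs
  refine eq_of_germs hP s s' ?_
  intro Ω _ _ ξ hξ x
  apply h Ω ξ hξ
  have n1 := (Scheme.pointSmallEtale ξ).toPresheafFiber_naturality_apply a.hom U.unop x s
  have n2 := (Scheme.pointSmallEtale ξ).toPresheafFiber_naturality_apply a.hom U.unop x s'
  refine n1.trans (Eq.trans ?_ n2.symm)
  exact congrArg _ hs

/-- A morphism surjective on stalks at a covering family is locally surjective. -/
theorem isLocallySurjective_of_stalks {F G : Sh X} (a : F ⟶ G)
    (h : ∀ (Ω : Type u) [Field Ω] [IsSepClosed Ω] (ξ : Spec (CommRingCat.of Ω) ⟶ X), P Ω ξ →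
      Function.Surjective (((Scheme.pointSmallEtale ξ).sheafFiber (A := Type (u + 1))).map a)) :
    Sheaf.IsLocallySurjective a := by
  constructor
  intro U s
  rw [mem_smallEtaleTopology_iff]
  intro y
  obtain ⟨Ω, _, _, ξ, hξ, x, hx⟩ := hP U y
  let Φ := Scheme.pointSmallEtale ξ
  obtain ⟨p, hp⟩ := h Ω ξ hξ (Φ.toPresheafFiber U x G.obj s)
  obtain ⟨V, w, z, rfl⟩ := Φ.toPresheafFiber_jointly_surjective (P := F.obj) p
  let eV : Φ.fiber.Elements := ⟨V, w⟩
  let eU : Φ.fiber.Elements := ⟨U, x⟩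
  let eW := IsCofiltered.min eV eU
  let g₁ : eW ⟶ eV := IsCofiltered.minToLeft eV eU
  let g₂ : eW ⟶ eU := IsCofiltered.minToRight eV eU
  have e1 : Φ.fiber.map g₁.1 eW.2 = w := g₁.2
  have e2 : Φ.fiber.map g₂.1 eW.2 = x := g₂.2
  have h1 : Φ.toPresheafFiber eW.1 eW.2 G.obj (G.obj.map g₁.1.op (a.hom.app (op V) z)) =
      Φ.toPresheafFiber eW.1 eW.2 G.obj (G.obj.map g₂.1.op s) := by
    have a1 := Φ.toPresheafFiber_w_apply g₁.1 eW.2 G.obj (a.hom.app (op V) z)
    have a2 := Φ.toPresheafFiber_w_apply g₂.1 eW.2 G.obj s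
    rw [e1] at a1
    rw [e2] at a2
    refine a1.trans (Eq.trans ?_ a2.symm)
    refine Eq.trans ?_ hp
    exact (Φ.toPresheafFiber_naturality_apply a.hom V w z).symm
  obtain ⟨W', f, w', hw', hf⟩ := (Φ.toPresheafFiber_eq_iff' (P := G.obj) eW.1 eW.2 _ _).1 h1
  refine ⟨W', f ≫ g₂.1, w'.left (default : Spec (CommRingCat.of Ω)), ?_, ?_⟩
  · refine ⟨F.obj.map (f ≫ g₁.1).op z, ?_⟩
    have n1 := NatTrans.naturality_apply a.hom (f ≫ g₁.1).op z
    refine n1.trans ?_
    rw [op_comp, Functor.map_comp, op_comp, Functor.map_comp]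
    exact hf
  · have e3 : Φ.fiber.map (f ≫ g₂.1) w' = x := by
      rw [Functor.map_comp]
      exact (congrArg (Φ.fiber.map g₂.1) hw').trans e2
    rw [← hx, ← e3]
    rfl

/-- A morphism bijective on stalks at a covering family is an isomorphism. -/
theorem isIso_of_stalks {F G : Sh X} (a : F ⟶ G)
    (h : ∀ (Ω : Type u) [Field Ω] [IsSepClosed Ω] (ξ : Spec (CommRingCat.of Ω) ⟶ X), P Ω ξ →
      Function.Bijective (((Scheme.pointSmallEtale ξ).sheafFiber (A := Type (u + 1))).map a)) :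
    IsIso a := by
  have h1 : Sheaf.IsLocallySurjective a :=
    isLocallySurjective_of_stalks hP a (fun Ω _ _ ξ hξ => (h Ω ξ hξ).2)
  have h2 : Sheaf.IsLocallyInjective a :=
    (Sheaf.isLocallyInjective_iff_injective a).2
      (injective_of_stalks hP a (fun Ω _ _ ξ hξ => (h Ω ξ hξ).1))
  have h3 := hasSheafCompose_forget_type (X := X)
  exact (Sheaf.isLocallyBijective_iff_isIso a).1 ⟨h2, h1⟩

omit hP

section Surjective

variable {X' : Scheme.{u}} (f : X' ⟶ X)

/-- Geometric points of `X` factoring through `f`. -/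
def PThrough : ∀ (Ω : Type u) [Field Ω] [IsSepClosed Ω], (Spec (CommRingCat.of Ω) ⟶ X) → Prop :=
  fun Ω _ _ ξ => ∃ ξ' : Spec (CommRingCat.of Ω) ⟶ X', ξ' ≫ f = ξ

/-- Every point of a scheme is the image of a geometric point. -/
lemma exists_geomPoint_scheme (S : Scheme.{u}) (z : S) :
    ∃ (Ω : Type u) (_ : Field Ω) (_ : IsSepClosed Ω) (zbar : Spec (CommRingCat.of Ω) ⟶ S),
      zbar (default : Spec (CommRingCat.of Ω)) = z := by
  obtain ⟨Ω, i1, i2, ξ, x, hx⟩ := exists_geomPoint (EtCoh.top S) z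
  exact ⟨Ω, i1, i2, x.left, hx⟩

set_option backward.isDefEq.respectTransparency.types false in
lemma covering_through [Surjective f] : CoveringFamily X (PThrough f) := by
  intro U y
  obtain ⟨x', hx'⟩ := f.surjective ((U.hom : U.left ⟶ X) y)
  obtain ⟨z, hz1, -⟩ := Scheme.Pullback.exists_preimage_pullback
    (f := (U.hom : U.left ⟶ X)) (g := f) y x' hx'.symm
  obtain ⟨Ω, i1, i2, zbar, hzbar⟩ := exists_geomPoint_scheme (pullback (U.hom : U.left ⟶ X) f) z
  refine ⟨Ω, i1, i2, (zbar ≫ pullback.snd _ _) ≫ f, ⟨zbar ≫ pullback.snd _ _, rfl⟩, ?_⟩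
  refine ⟨Over.homMk (zbar ≫ pullback.fst _ _) ?_, ?_⟩
  · change (zbar ≫ pullback.fst _ _) ≫ U.hom = (zbar ≫ pullback.snd _ _) ≫ f
    rw [Category.assoc, Category.assoc, pullback.condition]
  · change (zbar ≫ pullback.fst _ _) (default : Spec (CommRingCat.of Ω)) = y
    rw [Scheme.Hom.comp_apply, hzbar, hz1]

end Surjective

end

end Groth.Agent.Lib.Helper22.EtStalk.Sets
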