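import Groth.Agent.Lib.Helper22.EtStalk.Conservative
import Mathlib.CategoryTheory.Sites.Point.Comap

/-!
# Stalks of inverse images of abelian étale sheaves (helper22)
-/

set_option autoImplicit false
universe u
open CategoryTheory CategoryTheory.Limits AlgebraicGeometry Opposite

namespace Groth.Agent.Lib.Helper22.EtStalk

noncomputable section

variable {X Y : Scheme.{u}} (f : X ⟶ Y) {Ω : Type u} [Field Ω] [IsSepClosed Ω]
  (ξ : Spec (CommRingCat.of Ω) ⟶ X)

set_option backward.isDefEq.respectTransparency.types false in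
/-- The fibre functor of `ξ ≫ f` is the fibre functor of `ξ` precomposed with base change. -/
def fiberIso : (Scheme.pointSmallEtale (ξ ≫ f)).fiber ≅
    EtCoh.bc f ⋙ (Scheme.pointSmallEtale ξ).fiber :=
  Functor.isoWhiskerLeft (Scheme.Etale.forget Y)
      ((Over.mapPullbackAdj f).compCoyonedaIso.app (op (Over.mk ξ))) ≪≫
    (Functor.associator _ _ _).symm ≪≫
    Functor.isoWhiskerRight
      (MorphismProperty.Over.pullbackCompForgetIso (P := EtCoh.etaleMP) (Q := ⊤) f).symm
      (coyoneda.obj (op (Over.mk ξ))) ≪≫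
    Functor.associator _ _ _

instance initiallySmall_comap :
    InitiallySmall.{u} (EtCoh.bc f ⋙ (Scheme.pointSmallEtale ξ).fiber).Elements := by
  let E : (Scheme.pointSmallEtale (ξ ≫ f)).fiber.Elements ≌
      (EtCoh.bc f ⋙ (Scheme.pointSmallEtale ξ).fiber).Elements :=
    Cat.equivOfIso (Functor.elementsFunctor.mapIso (fiberIso f ξ))
  exact initiallySmall_of_initial_of_initiallySmall E.functor

/-- The point of `Y_ét` obtained from the geometric point `ξ` of `X` by precomposing with base
change. -/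
def comapPoint : GrothendieckTopology.Point.{u} Y.smallEtaleTopology :=
  (Scheme.pointSmallEtale ξ).comap (EtCoh.bc f) (EtCoh.coverPreserving_bc f)

/-- It is isomorphic to the point attached to `ξ ≫ f`. -/
def comapPointIso : comapPoint f ξ ≅ Scheme.pointSmallEtale (ξ ≫ f) where
  hom := ⟨(fiberIso f ξ).hom⟩
  inv := ⟨(fiberIso f ξ).inv⟩
  hom_inv_id := by
    apply GrothendieckTopology.Point.hom_ext
    exact (fiberIso f ξ).inv_hom_id
  inv_hom_id := by
    apply GrothendieckTopology.Point.hom_ext
    exact (fiberIso f ξ).hom_inv_id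

/-- Isomorphic points have isomorphic stalk functors. -/
def sheafFiberIsoOfIso {Φ₁ Φ₂ : GrothendieckTopology.Point.{u} Y.smallEtaleTopology}
    (e : Φ₁ ≅ Φ₂) :
    Φ₂.sheafFiber (A := AddCommGrpCat.{u + 1}) ≅ Φ₁.sheafFiber where
  hom := GrothendieckTopology.Point.Hom.sheafFiber e.hom
  inv := GrothendieckTopology.Point.Hom.sheafFiber e.inv
  hom_inv_id := by
    rw [← GrothendieckTopology.Point.Hom.sheafFiber_comp, e.inv_hom_id,
      GrothendieckTopology.Point.Hom.sheafFiber_id]
  inv_hom_id := by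
    rw [← GrothendieckTopology.Point.Hom.sheafFiber_comp, e.hom_inv_id,
      GrothendieckTopology.Point.Hom.sheafFiber_id]

/-- The stalk of `f⁻¹ G` at `ξ` is the stalk of `G` at `ξ ≫ f`, naturally in `G`. -/
def stalkPullIso : EtCoh.pull f ⋙ EtCoh.stalk ξ ≅ EtCoh.stalk (ξ ≫ f) :=
  ((Scheme.pointSmallEtale ξ).sheafFiberComapIso (EtCoh.bc f) (EtCoh.coverPreserving_bc f)
      AddCommGrpCat.{u + 1}).symm ≪≫
    (sheafFiberIsoOfIso (comapPointIso f ξ)).symm

end

end Groth.Agent.Lib.Helper22.EtStalk
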