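import Groth.Prelude.Def_EtBase
import Mathlib.CategoryTheory.Sites.EpiMono
import Groth.Agent.Lib.Helper22.CechU.EtaleCov

/-!
# Geometric stalks of abelian étale sheaves: conservativity (helper22)

Direct use of Mathlib's `GrothendieckTopology.Point` API for `Scheme.pointSmallEtale`, with
coefficients `AddCommGrpCat.{u+1}` (the universe of the Prelude's `EtCoh.Ab`).
-/

set_option autoImplicit false
universe u
open CategoryTheory CategoryTheory.Limits AlgebraicGeometry Opposite

namespace Groth.Agent.Lib.Helper22.EtStalk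

noncomputable section

variable {X : Scheme.{u}}

instance ab5Small : AB5OfSize.{u, u} AddCommGrpCat.{u + 1} :=
  AB5OfSize_of_univLE.{u, u, u + 1, u + 1} AddCommGrpCat.{u + 1}

instance presFilt : PreservesFilteredColimitsOfSize.{u, u} (forget AddCommGrpCat.{u + 1}) :=
  preservesFilteredColimitsOfSize_shrink.{u, u + 1, u, u + 1} _

/-- Every point of an étale `X`-scheme is hit by a geometric point. -/
lemma exists_geomPoint (U : X.Etale) (y : U.left) :
    ∃ (Ω : Type u) (_ : Field Ω) (_ : IsSepClosed Ω) (ξ : Spec (CommRingCat.of Ω) ⟶ X)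
      (x : (Scheme.pointSmallEtale ξ).fiber.obj U), x.left (default : Spec (CommRingCat.of Ω)) = y := by
  let x₀ : X := U.hom y
  let Ω := SeparableClosure (X.residueField x₀)
  let ξ : Spec (CommRingCat.of Ω) ⟶ X := (Scheme.SpecToEquivOfField Ω X).symm
    ⟨x₀, CommRingCat.ofHom (algebraMap (X.residueField x₀) Ω)⟩
  have hξ : ξ default = x₀ := by simp [ξ]
  obtain ⟨x, hx⟩ := Scheme.pointSmallEtaleFiberObjToPreimage_surjective ξ hξ U ⟨y, rfl⟩
  refine ⟨Ω, inferInstance, inferInstance, ξ, x, ?_⟩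
  exact congrArg Subtype.val hx

open Groth.Agent.Lib.Helper22.CechU.Etale

/-- A section vanishing étale-locally around every point vanishes. -/
lemma eq_of_locally_eq {F : EtCoh.Ab X} {U : X.Etale} (s s' : F.obj.obj (op U))
    (h : ∀ y : U.left, ∃ (V : X.Etale) (f : V ⟶ U), y ∈ Set.range f.left ∧
      F.obj.map f.op s = F.obj.map f.op s') : s = s' := by
  let R : Sieve U := ⟨fun V f => F.obj.map f.op s = F.obj.map f.op s', by
    intro V W f hf g
    rw [op_comp, Functor.map_comp]
    exact congrArg (F.obj.map g.op) hf⟩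
  have hR : R ∈ X.smallEtaleTopology U := by
    rw [mem_smallEtaleTopology_iff]
    intro y
    obtain ⟨V, f, ⟨v, hv⟩, hf⟩ := h y
    exact ⟨V, f, v, hf, hv⟩
  refine ((isSheaf_forget F) R hR).isSeparatedFor.ext ?_
  intro V f hf
  exact hf

/-- The germ map at a geometric point. -/
abbrev germ {Ω : Type u} [Field Ω] [IsSepClosed Ω] (ξ : Spec (CommRingCat.of Ω) ⟶ X)
    (F : EtCoh.Ab X) (U : X.Etale) (x : (Scheme.pointSmallEtale ξ).fiber.obj U) :
    F.obj.obj (op U) ⟶ (EtCoh.stalk ξ).obj F :=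
  (Scheme.pointSmallEtale ξ).toPresheafFiber U x F.obj

/-- Conservativity: a section all of whose germs vanish is zero. -/
lemma eq_zero_of_germs {F : EtCoh.Ab X} {U : X.Etale} (s : F.obj.obj (op U))
    (h : ∀ (Ω : Type u) [Field Ω] [IsSepClosed Ω] (ξ : Spec (CommRingCat.of Ω) ⟶ X)
      (x : (Scheme.pointSmallEtale ξ).fiber.obj U), germ ξ F U x s = 0) : s = 0 := by
  refine eq_of_locally_eq s 0 ?_
  intro y
  obtain ⟨Ω, _, _, ξ, x, hx⟩ := exists_geomPoint U y
  have h1 : germ ξ F U x s = germ ξ F U x 0 := by rw [h Ω ξ x, map_zero]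
  obtain ⟨V, f, v, hv, hf⟩ := ((Scheme.pointSmallEtale ξ).toPresheafFiber_eq_iff' U x s 0).1 h1
  refine ⟨V, f, ⟨v.left (default : Spec (CommRingCat.of Ω)), ?_⟩, hf⟩
  rw [← hx, ← hv]
  rfl

end

end Groth.Agent.Lib.Helper22.EtStalk
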