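import Groth.Agent.Lib.Helper22.EtStalk.Conservative

/-!
# Stalks of direct images along a closed immersion at points outside the closed subscheme
-/

set_option autoImplicit false
universe u
open CategoryTheory CategoryTheory.Limits AlgebraicGeometry Opposite

namespace Groth.Agent.Lib.Helper22.EtStalk

open Groth.Agent.Lib.Helper22.CechU.Etale

noncomputable section

variable {X : Scheme.{u}}

/-- Sections of an abelian étale sheaf over an empty étale scheme vanish. -/
lemma subsingleton_sections_of_isEmpty (G : EtCoh.Ab X) (E : X.Etale) [IsEmpty E.left] :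
    Subsingleton (G.obj.obj (op E)) := by
  constructor
  intro s s'
  refine eq_of_locally_eq s s' ?_
  intro y
  exact (IsEmpty.false y).elim

/-- The open subscheme of an étale `X`-scheme lying over an open of `X`, as an étale `X`-scheme. -/
def restrictOpen (V : X.Etale) (O : X.Opens) : X.Etale :=
  MorphismProperty.Over.mk ⊤ (((V.hom : V.left ⟶ X) ⁻¹ᵁ O).ι ≫ V.hom) (by
    have : Etale (V.hom : V.left ⟶ X) := V.prop
    exact (inferInstance : Etale (((V.hom : V.left ⟶ X) ⁻¹ᵁ O).ι ≫ V.hom)))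

/-- The inclusion of the restricted étale scheme. -/
def restrictOpenι (V : X.Etale) (O : X.Opens) : restrictOpen V O ⟶ V :=
  MorphismProperty.Over.homMk ((V.hom : V.left ⟶ X) ⁻¹ᵁ O).ι rfl trivial

section Lift

variable {Ω : Type u} [Field Ω] [IsSepClosed Ω] (ξ : Spec (CommRingCat.of Ω) ⟶ X)

omit [IsSepClosed Ω] in
lemma lift_core (V : X.Etale) (O : X.Opens) (hξ : Set.range ξ.base ⊆ (O : Set X))
    (xl : Spec (CommRingCat.of Ω) ⟶ V.left) (hx : xl ≫ (V.hom : V.left ⟶ X) = ξ) :
    ∃ l : Spec (CommRingCat.of Ω) ⟶ ((V.hom : V.left ⟶ X) ⁻¹ᵁ O : V.left.Opens),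
      l ≫ ((V.hom : V.left ⟶ X) ⁻¹ᵁ O).ι = xl := by
  have hrange : Set.range xl ⊆ Set.range ((V.hom : V.left ⟶ X) ⁻¹ᵁ O).ι := by
    rw [Scheme.Opens.range_ι]
    rintro _ ⟨p, rfl⟩
    change (V.hom : V.left ⟶ X) (xl p) ∈ O
    rw [← Scheme.Hom.comp_apply, hx]
    exact hξ ⟨p, rfl⟩
  exact ⟨IsOpenImmersion.lift _ xl hrange, IsOpenImmersion.lift_fac _ _ _⟩

set_option backward.isDefEq.respectTransparency.types false in
/-- A geometric point of `V` lying over an open `O` of `X` lifts to the restriction of `V`. -/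
lemma exists_lift_restrictOpen (V : X.Etale) (O : X.Opens)
    (hξ : Set.range ξ.base ⊆ (O : Set X))
    (x : (Scheme.pointSmallEtale ξ).fiber.obj V) :
    ∃ x' : (Scheme.pointSmallEtale ξ).fiber.obj (restrictOpen V O),
      (Scheme.pointSmallEtale ξ).fiber.map (restrictOpenι V O) x' = x := by
  obtain ⟨l, hl⟩ := lift_core ξ V O hξ x.left (Over.w x)
  refine ⟨Over.homMk l ?_, ?_⟩
  · change l ≫ ((V.hom : V.left ⟶ X) ⁻¹ᵁ O).ι ≫ V.hom = ξ
    exact ((Category.assoc _ _ _).symm.trans (congrArg (· ≫ (V.hom : V.left ⟶ X)) hl)).trans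
      (Over.w x)
  · apply Over.OverMorphism.ext
    exact hl

end Lift

section Closed

variable {Z : Scheme.{u}} (i : Z ⟶ X) [IsClosedImmersion i]

/-- The open complement of a closed immersion. -/
def complOpen : X.Opens :=
  ⟨(Set.range i.base)ᶜ, i.isClosedEmbedding.isClosed_range.isOpen_compl⟩

omit [IsClosedImmersion i] in
lemma isEmpty_aux {P A : Scheme.{u}} (a : P ⟶ A) (b : P ⟶ Z) (g : A ⟶ X)
    (hc : a ≫ g = b ≫ i) (O : Set X) (hO : ∀ y, g y ∈ O) (hi : ∀ z, i z ∉ O) : IsEmpty P := by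
  constructor
  intro p
  have h1 : g (a p) = i (b p) := by
    have := congrArg (fun f : P ⟶ X => f p) hc
    simpa only [Scheme.Hom.comp_apply] using this
  exact hi (b p) (h1 ▸ hO (a p))

set_option backward.isDefEq.respectTransparency.types false in
instance isEmpty_bc_restrictOpen (V : X.Etale) :
    IsEmpty ((EtCoh.bc i).obj (restrictOpen V (complOpen i))).left := by
  let V' := restrictOpen V (complOpen i)
  refine isEmpty_aux i (pullback.fst V'.hom i : ((EtCoh.bc i).obj V').left ⟶ V'.left)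
    (pullback.snd V'.hom i : ((EtCoh.bc i).obj V').left ⟶ Z) (V'.hom : V'.left ⟶ X)
    pullback.condition (complOpen i : Set X) ?_ ?_
  · intro y
    change (((V.hom : V.left ⟶ X) ⁻¹ᵁ complOpen i).ι ≫ V.hom) y ∈ complOpen i
    rw [Scheme.Hom.comp_apply]
    exact y.2
  · intro z hz
    exact hz ⟨z, rfl⟩

/-- The stalk of `i_* G` vanishes at geometric points outside the closed subscheme. -/
theorem isZero_stalk_push_of_disjoint [EtCoh.BCCont i] (G : EtCoh.Ab Z)
    {Ω : Type u} [Field Ω] [IsSepClosed Ω] (ξ : Spec (CommRingCat.of Ω) ⟶ X)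
    (hξ : Disjoint (Set.range ξ.base) (Set.range i.base)) :
    IsZero ((EtCoh.stalk ξ).obj ((EtCoh.push i).obj G)) := by
  rw [AddCommGrpCat.isZero_iff_subsingleton]
  refine subsingleton_of_forall_eq 0 fun t => ?_
  let Φ := Scheme.pointSmallEtale ξ
  obtain ⟨V, x, s, rfl⟩ := Φ.toPresheafFiber_jointly_surjective
    (P := ((EtCoh.push i).obj G).obj) t
  have hξ' : Set.range ξ.base ⊆ (complOpen i : Set X) := fun a ha hb =>
    Set.disjoint_left.1 hξ ha hb
  obtain ⟨x', hx'⟩ := exists_lift_restrictOpen ξ V (complOpen i) hξ' x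
  have e1 := germ_map ξ ((EtCoh.push i).obj G) (restrictOpenι V (complOpen i)) x' s
  rw [hx'] at e1
  have hsub : Subsingleton (((EtCoh.push i).obj G).obj.obj (op (restrictOpen V (complOpen i)))) :=
    subsingleton_sections_of_isEmpty G ((EtCoh.bc i).obj (restrictOpen V (complOpen i)))
  have e2 : ((EtCoh.push i).obj G).obj.map (restrictOpenι V (complOpen i)).op s = 0 :=
    Subsingleton.elim _ _
  change germ ξ ((EtCoh.push i).obj G) V x s = 0
  rw [← e1, e2, map_zero]

end Closed

end

end Groth.Agent.Lib.Helper22.EtStalk
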