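import Groth.Agent.Lib.Helper22.EtStalk.ClosedStalk
import Groth.Agent.Lib.Helper22.EtStalk.ClosedPush

/-!
# Sheaves supported on a closed subscheme (helper22)

`factors_or_disjoint_closed`, `SupportedOn i F`, `isIso_unit_of_supportedOn`,
`essImage_push_iff : (push i).essImage F ↔ SupportedOn i F`.
-/

set_option autoImplicit false
universe u
open CategoryTheory CategoryTheory.Limits AlgebraicGeometry Opposite

namespace Groth.Agent.Lib.Helper22.EtStalk.ClosedOpen

open Groth.Agent.Lib.Helper22.CechU.Etale Groth.Agent.Lib.Helper22.EtStalk.ClosedStalk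

noncomputable section

variable {Z X : Scheme.{u}} (i : Z ⟶ X) [IsClosedImmersion i]
  {Ω : Type u} [Field Ω] [IsSepClosed Ω]

omit [IsSepClosed Ω] in
/-- A geometric point of `X` either factors through the closed immersion `i` or misses it. -/
lemma factors_or_disjoint_closed (ξ : Spec (CommRingCat.of Ω) ⟶ X) :
    (∃ ζ : Spec (CommRingCat.of Ω) ⟶ Z, ζ ≫ i = ξ) ∨
      Disjoint (Set.range ξ.base) (Set.range i.base) := by
  by_cases h : ξ.base default ∈ Set.range i.base
  · left
    obtain ⟨z, hz⟩ := h
    obtain ⟨p, hp1, -⟩ := Scheme.Pullback.exists_preimage_pullback (f := ξ) (g := i) default z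
      hz.symm
    have hsurj : Surjective (pullback.fst ξ i) := by
      constructor
      intro y
      exact ⟨p, hp1.trans (Subsingleton.elim _ _)⟩
    have : IsIso (pullback.fst ξ i) := isIso_of_isClosedImmersion_of_surjective _
    refine ⟨inv (pullback.fst ξ i) ≫ pullback.snd ξ i, ?_⟩
    rw [Category.assoc, ← pullback.condition, IsIso.inv_hom_id_assoc]
  · right
    rw [Set.disjoint_left]
    rintro _ ⟨y, rfl⟩ hy
    rw [Subsingleton.elim y default] at hy
    exact h hy

/-- Sheaves supported on `Z`: sections vanish over étale schemes missing `Z`. -/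
def SupportedOn (F : EtCoh.Ab X) : Prop :=
  ∀ U : X.Etale, Disjoint (Set.range U.hom.base) (Set.range i.base) → IsZero (F.obj.obj (op U))

omit [IsClosedImmersion i] in
set_option backward.isDefEq.respectTransparency.types false in
/-- Direct images from `Z` are supported on `Z`. -/
lemma supportedOn_push (G : EtCoh.Ab Z) : SupportedOn i ((EtCoh.push i).obj G) := by
  intro U hU
  have hE : IsEmpty ((EtCoh.bc i).obj U).left := by
    refine isEmpty_aux i (pullback.fst U.hom i : ((EtCoh.bc i).obj U).left ⟶ U.left)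
      (pullback.snd U.hom i : ((EtCoh.bc i).obj U).left ⟶ Z) (U.hom : U.left ⟶ X)
      pullback.condition (Set.range U.hom.base) (fun y => ⟨y, rfl⟩) ?_
    intro z hz
    exact Set.disjoint_left.1 hU hz ⟨z, rfl⟩
  rw [AddCommGrpCat.isZero_iff_subsingleton]
  exact subsingleton_sections_of_isEmpty G ((EtCoh.bc i).obj U)

set_option backward.isDefEq.respectTransparency.types false in
/-- The stalks of a sheaf supported on `Z` vanish outside `Z`. -/
lemma isZero_stalk_of_supportedOn (F : EtCoh.Ab X) (hF : SupportedOn i F)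
    (ξ : Spec (CommRingCat.of Ω) ⟶ X)
    (hξ : Disjoint (Set.range ξ.base) (Set.range i.base)) :
    IsZero ((EtCoh.stalk ξ).obj F) := by
  rw [AddCommGrpCat.isZero_iff_subsingleton]
  refine subsingleton_of_forall_eq 0 fun t => ?_
  let Φ := Scheme.pointSmallEtale ξ
  obtain ⟨V, x, s, rfl⟩ := Φ.toPresheafFiber_jointly_surjective (P := F.obj) t
  have hξ' : Set.range ξ.base ⊆ (complOpen i : Set X) := fun a ha hb =>
    Set.disjoint_left.1 hξ ha hb
  obtain ⟨x', hx'⟩ := exists_lift_restrictOpen ξ V (complOpen i) hξ' x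
  have e1 := germ_map ξ F (restrictOpenι V (complOpen i)) x' s
  rw [hx'] at e1
  have hdis : Disjoint (Set.range (restrictOpen V (complOpen i)).hom.base) (Set.range i.base) := by
    rw [Set.disjoint_left]
    rintro _ ⟨y, rfl⟩ hz
    have hy : (restrictOpen V (complOpen i)).hom.base y ∈ (complOpen i : Set X) := by
      change (((V.hom : V.left ⟶ X) ⁻¹ᵁ complOpen i).ι ≫ V.hom) y ∈ complOpen i
      rw [Scheme.Hom.comp_apply]
      exact y.2
    exact hy hz
  have hsub := AddCommGrpCat.isZero_iff_subsingleton.1 (hF _ hdis)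
  have e2 : F.obj.map (restrictOpenι V (complOpen i)).op s = 0 := Subsingleton.elim _ _
  change germ ξ F V x s = 0
  rw [← e1, e2, map_zero]

/-- `i^*` of the unit is an isomorphism. -/
lemma isIso_pull_unit (F : EtCoh.Ab X) :
    IsIso ((EtCoh.pull i).map ((EtCoh.pullPushAdj i).unit.app F)) := by
  have h := (EtCoh.pullPushAdj i).left_triangle_components F
  have h2 : IsIso ((EtCoh.pull i).map ((EtCoh.pullPushAdj i).unit.app F) ≫
      (EtCoh.pullPushAdj i).counit.app ((EtCoh.pull i).obj F)) := by
    rw [h]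
    exact IsIso.id _
  exact IsIso.of_isIso_comp_right _
    ((EtCoh.pullPushAdj i).counit.app ((EtCoh.pull i).obj F))

/-- The unit `F ⟶ i_* i^* F` is an isomorphism on stalks at the geometric points of `Z`. -/
lemma isIso_stalk_unit (F : EtCoh.Ab X) (ζ : Spec (CommRingCat.of Ω) ⟶ Z) :
    IsIso ((EtCoh.stalk (ζ ≫ i)).map ((EtCoh.pullPushAdj i).unit.app F)) := by
  rw [← NatIso.isIso_map_iff (stalkPullIso i ζ) ((EtCoh.pullPushAdj i).unit.app F)]
  have := isIso_pull_unit i F
  change IsIso ((EtCoh.stalk ζ).map ((EtCoh.pull i).map ((EtCoh.pullPushAdj i).unit.app F)))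
  infer_instance

/-- For a sheaf supported on `Z`, the unit `F ⟶ i_* i^* F` is an isomorphism. -/
lemma isIso_unit_of_supportedOn (F : EtCoh.Ab X) (hF : SupportedOn i F) :
    IsIso ((EtCoh.pullPushAdj i).unit.app F) := by
  apply isIso_of_stalks
  intro Ω _ _ ξ
  rcases factors_or_disjoint_closed i ξ with ⟨ζ, rfl⟩ | hdis
  · exact isIso_stalk_unit i F ζ
  · have hz1 := isZero_stalk_of_supportedOn i F hF ξ hdis
    have hz2 := isZero_stalk_push_of_disjoint i ((EtCoh.pull i).obj F) ξ hdis
    exact ⟨0, hz1.eq_of_src _ _, hz2.eq_of_src _ _⟩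

/-- The essential image of `i_*` consists of the sheaves supported on `Z`. -/
theorem essImage_push_iff (F : EtCoh.Ab X) : (EtCoh.push i).essImage F ↔ SupportedOn i F := by
  constructor
  · rintro ⟨G, ⟨e⟩⟩ U hU
    exact (supportedOn_push i G U hU).of_iso
      (((sheafSections _ _).obj (op U)).mapIso e.symm)
  · intro hF
    have := isIso_unit_of_supportedOn i F hF
    exact ⟨(EtCoh.pull i).obj F, ⟨(asIso ((EtCoh.pullPushAdj i).unit.app F)).symm⟩⟩

end

end Groth.Agent.Lib.Helper22.EtStalk.ClosedOpen
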