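import Groth.Agent.Lib.Helper22.EtStalk.ExtZero

/-!
# The stalk of an extension by zero is the direct sum of the stalks at the lifts (helper22)
-/

set_option autoImplicit false
universe w v u
open CategoryTheory CategoryTheory.Limits AlgebraicGeometry Opposite

namespace Groth.Agent.Lib.Helper22.EtStalk

noncomputable section

section Generic

variable {C : Type u} [Category.{v} C] [HasProducts.{w} C]

lemma pimap_natural {M M' : C} (d : M ⟶ M') {A B : Type w} (p : B → A) :
    Limits.Pi.map (f := fun _ : A => M) (g := fun _ : A => M') (fun _ => d) ≫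
        Pi.map' (f := fun _ : A => M') (g := fun _ : B => M') p (fun _ => 𝟙 M') =
      Pi.map' (f := fun _ : A => M) (g := fun _ : B => M) p (fun _ => 𝟙 M) ≫
        Limits.Pi.map (f := fun _ : B => M) (g := fun _ : B => M') (fun _ => d) := by
  refine Pi.hom_ext (f := fun _ : B => M') _ _ fun y => ?_
  simp

end Generic

variable {U X : Scheme.{u}} (j : U ⟶ X) [Etale j] [EtShriek.JCont j]
  {Ω : Type u} [Field Ω] [IsSepClosed Ω] (ξ : Spec (CommRingCat.of Ω) ⟶ X)

lemma projApp_naturality (u : Lifts j ξ) {M M' : AddCommGrpCat.{u + 1}} (d : M ⟶ M') :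
    (EtShriek.restrAlong j).map ((Scheme.pointSmallEtale ξ).skyscraperSheafFunctor.map d) ≫
        projApp j ξ u M' =
      projApp j ξ u M ≫ (Scheme.pointSmallEtale u.1).skyscraperSheafFunctor.map d := by
  apply Sheaf.hom_ext
  ext V : 2
  exact pimap_natural d _

variable (F : EtCoh.Ab U)

/-- The inclusion of the stalk at a lift into the stalk of the extension by zero. -/
def ιLift (u : Lifts j ξ) :
    (EtCoh.stalk u.1).obj F ⟶ (EtCoh.stalk ξ).obj ((EtShriek.extZero j).obj F) :=
  ((Scheme.pointSmallEtale u.1).skyscraperSheafAdjunction.homEquiv F _).symm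
    ((adjL j ξ).unit.app F ≫ projApp j ξ u _)

lemma ιLift_comp (u : Lifts j ξ) {M : AddCommGrpCat.{u + 1}}
    (d : (EtCoh.stalk ξ).obj ((EtShriek.extZero j).obj F) ⟶ M) :
    ιLift j ξ F u ≫ d =
      ((Scheme.pointSmallEtale u.1).skyscraperSheafAdjunction.homEquiv F M).symm
        ((adjL j ξ).homEquiv F M d ≫ projApp j ξ u M) := by
  rw [ιLift, ← Adjunction.homEquiv_naturality_right_symm, Adjunction.homEquiv_unit,
    Category.assoc, Category.assoc]
  congr 2
  exact (projApp_naturality j ξ u d).symm

/-- The stalk of `j_! F` at `ξ` is the coproduct of the stalks of `F` at the lifts of `ξ`. -/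
def isColimitCofan :
    IsColimit (Cofan.mk ((EtCoh.stalk ξ).obj ((EtShriek.extZero j).obj F)) (ιLift j ξ F)) := by
  refine Cofan.IsColimit.mk _
    (fun s => ((adjL j ξ).homEquiv F s.pt).symm
      (Fan.IsLimit.lift (isLimitFan j ξ s.pt)
        (fun u => (Scheme.pointSmallEtale u.1).skyscraperSheafAdjunction.homEquiv F s.pt (s.inj u))))
    ?_ ?_
  · intro s u
    rw [cofan_mk_inj, ιLift_comp, Equiv.apply_symm_apply]
    erw [Fan.IsLimit.fac]
    exact Equiv.symm_apply_apply _ _
  · intro s m hm
    apply ((adjL j ξ).homEquiv F s.pt).injective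
    rw [Equiv.apply_symm_apply]
    refine Fan.IsLimit.hom_ext (isLimitFan j ξ s.pt) _ _ fun u => ?_
    erw [Fan.IsLimit.fac]
    rw [← hm u, cofan_mk_inj, ιLift_comp, Equiv.apply_symm_apply]
    rfl

end

end Groth.Agent.Lib.Helper22.EtStalk
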