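import Groth.Agent.Lib.Helper22.EtStalk.Conservative
import Groth.Agent.Lib.Helper22.EtStalk.Pull
import Groth.Agent.Lib.Helper22.EtStalk.ExtZeroStalk
import Groth.Agent.Lib.Helper22.EtLoc.MonoLoc

/-!
# Isomorphisms of abelian étale sheaves are detected on geometric stalks (helper22)

Also: stalks of `j_! F` and of `G` at points inside/outside an open immersion `j`.
-/

set_option autoImplicit false
universe u
open CategoryTheory CategoryTheory.Limits AlgebraicGeometry Opposite

namespace Groth.Agent.Lib.Helper22.EtStalk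

variable {X : Scheme.{u}}

/-- A morphism of abelian étale sheaves is an isomorphism iff it is so on all geometric stalks. -/
theorem isIso_of_stalks {F G : EtCoh.Ab X} (a : F ⟶ G)
    (h : ∀ (Ω : Type u) [Field Ω] [IsSepClosed Ω] (ξ : Spec (CommRingCat.of Ω) ⟶ X),
      IsIso ((EtCoh.stalk ξ).map a)) : IsIso a := by
  have h1 : Mono a := (mono_iff_stalks a).2 fun Ω _ _ ξ =>
    (AddCommGrpCat.mono_iff_injective _).1 (by have := h Ω ξ; infer_instance)
  have h2 : Epi a := (epi_iff_stalks a).2 fun Ω _ _ ξ =>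
    (AddCommGrpCat.epi_iff_surjective _).1 (by have := h Ω ξ; infer_instance)
  exact isIso_of_mono_of_epi a

section Open

variable {U : Scheme.{u}} (j : U ⟶ X) [IsOpenImmersion j]
  {Ω : Type u} [Field Ω] [IsSepClosed Ω]

omit [IsSepClosed Ω] in
/-- A geometric point of `X` either factors through the open immersion `j` or misses it. -/
lemma factors_or_disjoint (ξ : Spec (CommRingCat.of Ω) ⟶ X) :
    (∃ ξ' : Spec (CommRingCat.of Ω) ⟶ U, ξ' ≫ j = ξ) ∨
      Set.range ξ.base ⊆ (Set.range j.base)ᶜ := by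
  by_cases h : ξ.base default ∈ Set.range j.base
  · left
    have hr : Set.range ξ.base ⊆ Set.range j.base := by
      rintro _ ⟨y, rfl⟩
      rw [Subsingleton.elim y default]
      exact h
    exact ⟨IsOpenImmersion.lift j ξ hr, IsOpenImmersion.lift_fac _ _ _⟩
  · right
    rintro _ ⟨y, rfl⟩
    rw [Subsingleton.elim y default]
    exact h

omit [IsOpenImmersion j] in
/-- The stalk of `j_! F` vanishes at geometric points missing `U`. -/
lemma isZero_stalk_extZero_of_disjoint [Etale j] [EtShriek.JCont j] (F : EtCoh.Ab U)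
    (ξ : Spec (CommRingCat.of Ω) ⟶ X) (hξ : Set.range ξ.base ⊆ (Set.range j.base)ᶜ) :
    IsZero ((EtCoh.stalk ξ).obj ((EtShriek.extZero j).obj F)) := by
  have hempty : IsEmpty (Lifts j ξ) := by
    constructor
    rintro ⟨u, hu⟩
    have h1 : ξ.base default ∈ (Set.range j.base)ᶜ := hξ ⟨default, rfl⟩
    apply h1
    refine ⟨u.base default, ?_⟩
    rw [← hu]
    rfl
  have hc := isColimitCofan j ξ F
  rw [IsZero.iff_id_eq_zero]
  refine Cofan.IsColimit.hom_ext hc _ _ fun u => ?_
  exact (hempty.false u).elim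

omit [IsOpenImmersion j] in
/-- A morphism whose restriction to `U` is an isomorphism is an isomorphism on stalks at the
geometric points of `U`. -/
lemma isIso_stalk_of_isIso_restr [Etale j] [EtShriek.JCont j] {A B : EtCoh.Ab X} (φ : A ⟶ B)
    (h : IsIso ((EtShriek.restrAlong j).map φ)) (ξ' : Spec (CommRingCat.of Ω) ⟶ U) :
    IsIso ((EtCoh.stalk (ξ' ≫ j)).map φ) := by
  let α : EtLoc.res j ⋙ EtCoh.stalk ξ' ≅ EtCoh.stalk (ξ' ≫ j) :=
    Functor.isoWhiskerRight (EtLoc.pullIsoRes j).symm (EtCoh.stalk ξ') ≪≫ stalkPullIso j ξ'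
  rw [← NatIso.isIso_map_iff α φ]
  have h' : IsIso ((EtLoc.res j).map φ) := h
  change IsIso ((EtCoh.stalk ξ').map ((EtLoc.res j).map φ))
  infer_instance

end Open

end Groth.Agent.Lib.Helper22.EtStalk
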