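import Groth.Agent.Lib.Helper22.EtStalk.ClosedStalkSets
import Groth.Agent.Lib.Helper22.EtStalk.ClosedOpen
import Groth.Agent.Lib.Helper22.EtStalk.IsoStalks
import Groth.Agent.Lib.Helper22.EtLoc.MonoLocA

/-!
# Sheaves of sets supported on a closed subscheme (helper22)
-/

set_option autoImplicit false
universe u
open CategoryTheory CategoryTheory.Limits AlgebraicGeometry Opposite

namespace Groth.Agent.Lib.Helper22.EtStalk.ClosedOpenSets

open Groth.Agent.Lib.Helper22.CechU.Etale Groth.Agent.Lib.Helper22.EtStalk.ClosedStalk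
  Groth.Agent.Lib.Helper22.EtStalk.Sets Groth.Agent.Lib.Helper22.EtLoc
  Groth.Agent.Lib.Helper22.EtStalk.ClosedOpen

noncomputable section

variable {X : Scheme.{u}}

/-- Sections of a sheaf of sets over an empty étale scheme form a singleton. -/
lemma unique_sections_of_isEmpty (G : Sh X) (E : X.Etale) [IsEmpty E.left] :
    Nonempty (Unique (G.obj.obj (op E))) := by
  have hR : (⊥ : Sieve E) ∈ X.smallEtaleTopology E := by
    rw [mem_smallEtaleTopology_iff]
    intro y
    exact (IsEmpty.false y).elim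
  have hs := (isSheaf_type G) (⊥ : Sieve E) hR
  let x : Presieve.FamilyOfElements G.obj (⊥ : Sieve E).arrows := fun Y f hf => hf.elim
  have hx : x.Compatible := by
    intro Y₁ Y₂ Z g₁ g₂ f₁ f₂ h₁ h₂ _
    exact h₁.elim
  obtain ⟨t, -, ht⟩ := hs x hx
  refine ⟨⟨⟨t⟩, fun s => ht s ?_⟩⟩
  intro Y f hf
  exact hf.elim

/-- A sheaf of sets all of whose sections are singletons is terminal. -/
def isTerminalOfUnique (T : Sh X) (h : ∀ W : X.Etale, Nonempty (Unique (T.obj.obj (op W)))) :
    IsTerminal T := by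
  have hu : ∀ W : (X.Etale)ᵒᵖ, Unique (T.obj.obj W) := fun W => (h W.unop).some
  refine IsTerminal.ofUniqueHom (fun H => ⟨⟨fun W => ↾(fun _ => (hu W).default), ?_⟩⟩) ?_
  · intro W W' f
    ext s
    exact (hu W').eq_default _ |>.trans ((hu W').eq_default _).symm
  · intro H m
    ext W s
    exact (hu W).eq_default _

section

variable {U : Scheme.{u}} (j : U ⟶ X) [Etale j]

/-- Inverse image along an étale morphism is restriction (sheaves of sets). -/
def pullIsoResSh : EtDesc.pullSh j ≅ resA j (Type (u + 1)) :=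
  Adjunction.leftAdjointUniq (EtDesc.adjSh j) (resPushAdjA j (Type (u + 1)))

variable {Z : Scheme.{u}} (i : Z ⟶ X)

/-- `j^* i_* G` is terminal when the image of `j` misses the image of `i`. -/
def isTerminalPullPush (hU : Set.range j.base ⊆ (Set.range i.base)ᶜ) (G : Sh Z) :
    IsTerminal ((EtDesc.pullSh j).obj ((EtDesc.pushSh i).obj G)) := by
  refine IsTerminal.ofIso (isTerminalOfUnique ((resA j (Type (u + 1))).obj ((EtDesc.pushSh i).obj G)) ?_)
    ((pullIsoResSh j).app _).symm
  intro W
  have hE : IsEmpty ((EtCoh.bc i).obj ((pj j).obj W)).left := by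
    refine isEmpty_aux i (pullback.fst ((pj j).obj W).hom i :
        ((EtCoh.bc i).obj ((pj j).obj W)).left ⟶ ((pj j).obj W).left)
      (pullback.snd ((pj j).obj W).hom i : ((EtCoh.bc i).obj ((pj j).obj W)).left ⟶ Z)
      (((pj j).obj W).hom : ((pj j).obj W).left ⟶ X)
      pullback.condition (Set.range j.base) ?_ ?_
    · intro y
      change ((W.hom : W.left ⟶ U) ≫ j) y ∈ Set.range j.base
      rw [Scheme.Hom.comp_apply]
      exact ⟨_, rfl⟩
    · intro z hz
      exact hU hz ⟨z, rfl⟩
  exact unique_sections_of_isEmpty G ((EtCoh.bc i).obj ((pj j).obj W))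

end

section Stalks

variable {Y : Scheme.{u}} (f : Y ⟶ X) {Ω : Type u} [Field Ω] [IsSepClosed Ω]

/-- If `f^* φ` is an isomorphism then `φ` is an isomorphism on stalks at geometric points
factoring through `f`. -/
lemma isIso_stalk_of_isIso_pull {A B : Sh X} (φ : A ⟶ B) (ξ' : Spec (CommRingCat.of Ω) ⟶ Y)
    [IsIso ((EtDesc.pullSh f).map φ)] :
    IsIso (((Scheme.pointSmallEtale (ξ' ≫ f)).sheafFiber (A := Type (u + 1))).map φ) := by
  rw [← NatIso.isIso_map_iff (stalkPullIsoType f ξ') φ]
  change IsIso (((Scheme.pointSmallEtale ξ').sheafFiber (A := Type (u + 1))).map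
    ((EtDesc.pullSh f).map φ))
  infer_instance

end Stalks

section Main

variable {Z U : Scheme.{u}} (i : Z ⟶ X) [IsClosedImmersion i] (j : U ⟶ X) [IsOpenImmersion j]

/-- `i^*` of the unit is an isomorphism. -/
instance isIso_pull_unit (F : Sh X) :
    IsIso ((EtDesc.pullSh i).map ((EtDesc.adjSh i).unit.app F)) := by
  have h := (EtDesc.adjSh i).left_triangle_components F
  have h2 : IsIso ((EtDesc.pullSh i).map ((EtDesc.adjSh i).unit.app F) ≫
      (EtDesc.adjSh i).counit.app ((EtDesc.pullSh i).obj F)) := by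
    rw [h]
    exact IsIso.id _
  exact IsIso.of_isIso_comp_right _
    ((EtDesc.adjSh i).counit.app ((EtDesc.pullSh i).obj F))

/-- If `j^* F` is terminal, the unit `F ⟶ i_* i^* F` is an isomorphism. -/
theorem isIso_unit_of_isTerminal (hU : Set.range j.base = (Set.range i.base)ᶜ) (F : Sh X)
    (hF : IsTerminal ((EtDesc.pullSh j).obj F)) : IsIso ((EtDesc.adjSh i).unit.app F) := by
  refine Sets.isIso_of_stalks (ClosedStalkSets.covering_all X) _ fun Ω _ _ ξ _ => ?_
  rw [← isIso_iff_bijective]
  rcases factors_or_disjoint_closed i ξ with ⟨ζ, rfl⟩ | hdis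
  · exact isIso_stalk_of_isIso_pull i _ ζ
  · rcases factors_or_disjoint j ξ with ⟨ξ', rfl⟩ | hmiss
    · have : IsIso ((EtDesc.pullSh j).map ((EtDesc.adjSh i).unit.app F)) :=
        isIso_of_isTerminal hF (isTerminalPullPush j i hU.le _) _
      exact isIso_stalk_of_isIso_pull j _ ξ'
    · exfalso
      have h1 : ξ.base default ∈ (Set.range j.base)ᶜ := hmiss ⟨default, rfl⟩
      rw [hU, compl_compl] at h1
      exact Set.disjoint_left.1 hdis ⟨default, rfl⟩ h1

/-- The essential image of `i_*` on sheaves of sets. -/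
theorem essImage_pushSh_iff (hU : Set.range j.base = (Set.range i.base)ᶜ) (F : Sh X) :
    (EtDesc.pushSh i).essImage F ↔ IsIso (terminal.from ((EtDesc.pullSh j).obj F)) := by
  constructor
  · rintro ⟨G, ⟨e⟩⟩
    have hT : IsTerminal ((EtDesc.pullSh j).obj F) :=
      IsTerminal.ofIso (isTerminalPullPush j i hU.le G) ((EtDesc.pullSh j).mapIso e)
    exact isIso_of_isTerminal hT terminalIsTerminal _
  · intro h
    have hT : IsTerminal ((EtDesc.pullSh j).obj F) :=
      IsTerminal.ofIso terminalIsTerminal (asIso (terminal.from ((EtDesc.pullSh j).obj F))).symm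
    have := isIso_unit_of_isTerminal i j hU F hT
    exact ⟨(EtDesc.pullSh i).obj F, ⟨(asIso ((EtDesc.adjSh i).unit.app F)).symm⟩⟩

end Main

end

end Groth.Agent.Lib.Helper22.EtStalk.ClosedOpenSets
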