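import Groth.Agent.Lib.Helper22.PointComap.Basic
import Groth.Agent.Lib.Helper22.EtStalk.Pull
import Groth.Agent.S0633
import Groth.Agent.Lib.Helper22.EtStalk.IsoStalks

/-!
# Direct images along closed immersions (helper22)

For a closed immersion `i : Z ⟶ X`: every étale neighbourhood of a geometric point of `Z` is refined
by some `U ×_X Z` (`exists_bc_nbhd`, from S0633); sections over `U ×_X Z` with the same germ agree on
some `U'' ×_X Z` (`exists_bc_refinement`); the comparison `(i_* G)_{iζ} ⟶ G_ζ` is an isomorphism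
(`cmpAb_bijective`); hence the counit `i^* i_* G ⟶ G` is an isomorphism (`isIso_counit_app`), `i_*`
is fully faithful (`fullyFaithfulPush`) and `stalkPushIso : i_* ⋙ stalk (ζ ≫ i) ≅ stalk ζ`.
-/

set_option autoImplicit false
universe u
open CategoryTheory CategoryTheory.Limits AlgebraicGeometry Opposite

namespace Groth.Agent.Lib.Helper22.EtStalk.ClosedStalk

open Groth.Agent.Lib.Helper22.CechU.Etale

noncomputable section

variable {Z X : Scheme.{u}} (i : Z ⟶ X)
  {Ω : Type u} [Field Ω] [IsSepClosed Ω] (ζ : Spec (CommRingCat.of Ω) ⟶ Z)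

lemma bc_obj_hom (U : X.Etale) : ((EtCoh.bc i).obj U).hom = pullback.snd U.hom i := rfl

set_option backward.isDefEq.respectTransparency.types false in
/-- Every étale neighbourhood of a geometric point of a closed subscheme `Z` is refined by the
restriction to `Z` of an étale `X`-scheme. -/
lemma exists_bc_nbhd [IsClosedImmersion i] (V : Z.Etale)
    (v : (Scheme.pointSmallEtale ζ).fiber.obj V) :
    ∃ (U : X.Etale) (H : (EtCoh.bc i).obj U ⟶ V)
      (v' : (Scheme.pointSmallEtale ζ).fiber.obj ((EtCoh.bc i).obj U)),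
      (Scheme.pointSmallEtale ζ).fiber.map H v' = v := by
  obtain ⟨κ, W, h, h1, h2, h3⟩ := Groth.Agent.S0633.result i V
  let xl : Spec (CommRingCat.of Ω) ⟶ V.left := v.left
  have hvw : xl ≫ (V.hom : V.left ⟶ Z) = ζ := Over.w v
  obtain ⟨j, y, hy⟩ := h3 (xl (default : Spec (CommRingCat.of Ω)))
  have := h2 j
  have hr : Set.range xl ⊆ Set.range (h j) := by
    rintro _ ⟨p, rfl⟩
    rw [Subsingleton.elim p default]
    exact ⟨y, hy⟩
  let l : Spec (CommRingCat.of Ω) ⟶ pullback (W j).hom i := IsOpenImmersion.lift (h j) xl hr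
  have hl : l ≫ h j = xl := IsOpenImmersion.lift_fac _ _ _
  refine ⟨W j, MorphismProperty.Over.homMk (h j) (h1 j) trivial, Over.homMk l ?_, ?_⟩
  · change l ≫ pullback.snd (W j).hom i = ζ
    calc l ≫ pullback.snd (W j).hom i = l ≫ (h j ≫ V.hom) := by rw [h1 j]
      _ = (l ≫ h j) ≫ V.hom := (Category.assoc _ _ _).symm
      _ = xl ≫ V.hom := by rw [hl]
      _ = ζ := hvw
  · apply Over.OverMorphism.ext
    exact hl

/-- An open subscheme of an étale `X`-scheme, as an étale `X`-scheme. -/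
def subOpen {S : Scheme.{u}} (U : S.Etale) (O : U.left.Opens) : S.Etale :=
  MorphismProperty.Over.mk ⊤ (O.ι ≫ (U.hom : U.left ⟶ S)) (by
    have : Etale (U.hom : U.left ⟶ S) := U.prop
    exact (inferInstance : Etale (O.ι ≫ (U.hom : U.left ⟶ S))))

/-- The inclusion of an open subscheme. -/
def subOpenι {S : Scheme.{u}} (U : S.Etale) (O : U.left.Opens) : subOpen U O ⟶ U :=
  MorphismProperty.Over.homMk O.ι rfl trivial

lemma subOpenι_left {S : Scheme.{u}} (U : S.Etale) (O : U.left.Opens) :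
    (subOpenι U O).left = O.ι := rfl

set_option backward.isDefEq.respectTransparency.types false in
/-- A morphism of étale schemes whose image lies in an open factors through it. -/
lemma exists_fac_subOpen {S : Scheme.{u}} (U : S.Etale) (O : U.left.Opens) {T : S.Etale}
    (a : T ⟶ U) (ha : ∀ y : T.left, a.left y ∈ O) :
    ∃ a' : T ⟶ subOpen U O, a' ≫ subOpenι U O = a := by
  have hr : Set.range a.left ⊆ Set.range O.ι := by
    rw [Scheme.Opens.range_ι]
    rintro _ ⟨y, rfl⟩
    exact ha y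
  let l : T.left ⟶ (O : Scheme.{u}) := IsOpenImmersion.lift O.ι a.left hr
  have hl : l ≫ O.ι = a.left := IsOpenImmersion.lift_fac _ _ _
  have hw : a.left ≫ (U.hom : U.left ⟶ S) = T.hom := MorphismProperty.Over.w a
  refine ⟨MorphismProperty.Over.homMk l ?_ trivial, MorphismProperty.Over.Hom.ext hl⟩
  change l ≫ O.ι ≫ U.hom = T.hom
  rw [← Category.assoc, hl, hw]

/-- Two sections of a sheaf of types which agree on an étale scheme `V ⟶ B` agree on the open
image of `V`. -/
lemma eq_on_image {S : Scheme.{u}} {P : S.Etaleᵒᵖ ⥤ Type (u + 1)}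
    (hP : Presieve.IsSheaf S.smallEtaleTopology P) {B V : S.Etale} (f : V ⟶ B)
    (O : B.left.Opens) (hO : (O : Set B.left) = Set.range f.left)
    (t₁ t₂ : P.obj (op B)) (hf : P.map f.op t₁ = P.map f.op t₂) :
    P.map (subOpenι B O).op t₁ = P.map (subOpenι B O).op t₂ := by
  obtain ⟨f', hf'⟩ := exists_fac_subOpen B O f (fun y => by
    change f.left y ∈ (O : Set B.left)
    rw [hO]
    exact ⟨y, rfl⟩)
  let R : Sieve (subOpen B O) := ⟨fun T a => P.map a.op (P.map (subOpenι B O).op t₁) =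
      P.map a.op (P.map (subOpenι B O).op t₂), by
    intro T T' a ha b
    rw [op_comp, Functor.map_comp]
    exact congrArg (P.map b.op) ha⟩
  have hR : R ∈ S.smallEtaleTopology (subOpen B O) := by
    rw [mem_smallEtaleTopology_iff]
    intro y
    have hy : O.ι y ∈ Set.range f.left := by
      rw [← hO]
      exact y.2
    obtain ⟨w, hw⟩ := hy
    refine ⟨V, f', w, ?_, ?_⟩
    · change P.map f'.op (P.map (subOpenι B O).op t₁) = P.map f'.op (P.map (subOpenι B O).op t₂)
      rw [← Functor.map_comp_apply, ← Functor.map_comp_apply, ← op_comp, hf']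
      exact hf
    · apply O.ι.isOpenEmbedding.injective
      have h1 : f'.left ≫ O.ι = f.left := congrArg (fun φ => φ.left) hf'
      have h2 := congrArg (fun φ : V.left ⟶ B.left => φ w) h1
      exact h2.trans hw
  refine (hP R hR).isSeparatedFor.ext ?_
  intro T a ha
  exact ha

set_option backward.isDefEq.respectTransparency.types false in
lemma bc_map_left_fst {U' U : X.Etale} (g : U' ⟶ U) :
    ((EtCoh.bc i).map g).left ≫ pullback.fst U.hom i = pullback.fst U'.hom i ≫ g.left := by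
  dsimp [EtCoh.bc]
  exact pullback.lift_fst _ _ _

set_option backward.isDefEq.respectTransparency.types false in
lemma bc_map_left_snd {U' U : X.Etale} (g : U' ⟶ U) :
    ((EtCoh.bc i).map g).left ≫ pullback.snd U.hom i = pullback.snd U'.hom i := by
  dsimp [EtCoh.bc]
  exact pullback.lift_snd _ _ _

set_option backward.isDefEq.respectTransparency.types false in
/-- If two sections of a sheaf over `U ×_X Z` have the same germ at a geometric point, they agree
on `U'' ×_X Z` for some étale neighbourhood `U''` of the point in `X`. -/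
lemma exists_bc_refinement [IsClosedImmersion i] {P : Z.Etaleᵒᵖ ⥤ Type (u + 1)}
    (hP : Presieve.IsSheaf Z.smallEtaleTopology P) (U : X.Etale)
    (u₀ : (Scheme.pointSmallEtale ζ).fiber.obj ((EtCoh.bc i).obj U))
    (t₁ t₂ : P.obj (op ((EtCoh.bc i).obj U))) {V : Z.Etale} (f : V ⟶ (EtCoh.bc i).obj U)
    (v : (Scheme.pointSmallEtale ζ).fiber.obj V)
    (hv : (Scheme.pointSmallEtale ζ).fiber.map f v = u₀)
    (hf : P.map f.op t₁ = P.map f.op t₂) :
    ∃ (U'' : X.Etale) (g : U'' ⟶ U)
      (u'' : (Scheme.pointSmallEtale ζ).fiber.obj ((EtCoh.bc i).obj U'')),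
      (Scheme.pointSmallEtale ζ).fiber.map ((EtCoh.bc i).map g) u'' = u₀ ∧
      P.map ((EtCoh.bc i).map g).op t₁ = P.map ((EtCoh.bc i).map g).op t₂ := by
  subst hv
  let B := (EtCoh.bc i).obj U
  let pr : B.left ⟶ U.left := pullback.fst (U.hom : U.left ⟶ X) i
  have hpr : IsClosedImmersion (pullback.fst (U.hom : U.left ⟶ X) i) := inferInstance
  -- the open image of `f`
  have hopen : IsOpen (Set.range f.left) := f.left.isOpenMap.isOpen_range
  let O' : B.left.Opens := ⟨Set.range f.left, hopen⟩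
  have hprE : Topology.IsClosedEmbedding pr :=
    @Scheme.Hom.isClosedEmbedding _ _ (pullback.fst (U.hom : U.left ⟶ X) i) hpr
  obtain ⟨O, hO, hOO'⟩ := hprE.isInducing.isOpen_iff.1 hopen
  let Oo : U.left.Opens := ⟨O, hO⟩
  let g : subOpen U Oo ⟶ U := subOpenι U Oo
  let k := (EtCoh.bc i).map g
  have hk1 : k.left ≫ pr = pullback.fst (subOpen U Oo).hom i ≫ Oo.ι := bc_map_left_fst i g
  have hk2 : k.left ≫ pullback.snd U.hom i = pullback.snd (subOpen U Oo).hom i :=
    bc_map_left_snd i g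
  -- `k` lands in `O'`
  have hkO : ∀ y : ((EtCoh.bc i).obj (subOpen U Oo)).left, k.left y ∈ O' := by
    intro y
    change k.left y ∈ Set.range f.left
    rw [← hOO']
    change pr (k.left y) ∈ O
    have h := congrArg (fun φ : ((EtCoh.bc i).obj (subOpen U Oo)).left ⟶ U.left => φ y) hk1
    change pr (k.left y) = Oo.ι (pullback.fst (subOpen U Oo).hom i y) at h
    rw [h]
    exact (pullback.fst (subOpen U Oo).hom i y).2
  obtain ⟨k', hk'⟩ := exists_fac_subOpen B O' k hkO
  have heq := eq_on_image hP f O' rfl t₁ t₂ hf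
  -- the point
  let ul : Spec (CommRingCat.of Ω) ⟶ B.left :=
    ((Scheme.pointSmallEtale ζ).fiber.map f v).left
  have hul : ul ≫ pullback.snd U.hom i = ζ := Over.w ((Scheme.pointSmallEtale ζ).fiber.map f v)
  have hulO : ∀ p : Spec (CommRingCat.of Ω), (ul ≫ pr) p ∈ Oo := by
    intro p
    have h1 : ul = v.left ≫ f.left := rfl
    change pr (ul p) ∈ O
    have : ul p ∈ pr ⁻¹' O := by
      rw [hOO', h1]
      exact ⟨v.left p, rfl⟩
    exact this
  have hr : Set.range (ul ≫ pr) ⊆ Set.range Oo.ι := by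
    rw [Scheme.Opens.range_ι]
    rintro _ ⟨p, rfl⟩
    exact hulO p
  let l : Spec (CommRingCat.of Ω) ⟶ (Oo : Scheme.{u}) := IsOpenImmersion.lift Oo.ι (ul ≫ pr) hr
  have hl : l ≫ Oo.ι = ul ≫ pr := IsOpenImmersion.lift_fac _ _ _
  have hcond : l ≫ (subOpen U Oo).hom = (ul ≫ pullback.snd U.hom i) ≫ i := by
    change l ≫ Oo.ι ≫ U.hom = _
    rw [← Category.assoc, hl, Category.assoc, Category.assoc]
    exact congrArg (ul ≫ ·) pullback.condition
  let ul'' : Spec (CommRingCat.of Ω) ⟶ ((EtCoh.bc i).obj (subOpen U Oo)).left :=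
    pullback.lift l (ul ≫ pullback.snd U.hom i) hcond
  have hul''1 : ul'' ≫ pullback.fst (subOpen U Oo).hom i = l := pullback.lift_fst _ _ _
  have hul''2 : ul'' ≫ pullback.snd (subOpen U Oo).hom i = ul ≫ pullback.snd U.hom i :=
    pullback.lift_snd _ _ _
  have hul''k : ul'' ≫ k.left = ul := by
    apply pullback.hom_ext
    · exact (Category.assoc _ _ _).trans ((congrArg (ul'' ≫ ·) hk1).trans
        ((Category.assoc _ _ _).symm.trans ((congrArg (· ≫ Oo.ι) hul''1).trans hl)))
    · exact (Category.assoc _ _ _).trans ((congrArg (ul'' ≫ ·) hk2).trans hul''2)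
  refine ⟨subOpen U Oo, g, Over.homMk ul'' ?_, ?_, ?_⟩
  · change ul'' ≫ pullback.snd (subOpen U Oo).hom i = ζ
    rw [hul''2, hul]
  · apply Over.OverMorphism.ext
    exact hul''k
  · change P.map k.op t₁ = P.map k.op t₂
    rw [← hk', op_comp, Functor.map_comp_apply, Functor.map_comp_apply, heq]

section Cmp

open Groth.Agent.Lib.Helper22.PointComap

variable [IsClosedImmersion i]

/-- The comparison map `(i_* G)_{i ζ} ⟶ G_ζ`. -/
abbrev cmpAb (G : EtCoh.Ab Z) :
    (comapPoint i ζ).presheafFiber.obj ((EtCoh.bc i).op ⋙ G.obj) ⟶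
      (Scheme.pointSmallEtale ζ).presheafFiber.obj G.obj :=
  cmp (Scheme.pointSmallEtale ζ) (EtCoh.bc i) (EtCoh.coverPreserving_bc i) G.obj

omit [IsClosedImmersion i] in
lemma cmpAb_germ (G : EtCoh.Ab Z) (U : X.Etale)
    (u₀ : (Scheme.pointSmallEtale ζ).fiber.obj ((EtCoh.bc i).obj U))
    (t : G.obj.obj (op ((EtCoh.bc i).obj U))) :
    cmpAb i ζ G ((comapPoint i ζ).toPresheafFiber U u₀ ((EtCoh.bc i).op ⋙ G.obj) t) =
      (Scheme.pointSmallEtale ζ).toPresheafFiber ((EtCoh.bc i).obj U) u₀ G.obj t :=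
  congrArg (fun φ => (ConcreteCategory.hom φ) t)
    (toPresheafFiber_cmp (Scheme.pointSmallEtale ζ) (EtCoh.bc i) (EtCoh.coverPreserving_bc i)
      G.obj U u₀)

theorem cmpAb_bijective (G : EtCoh.Ab Z) : Function.Bijective (cmpAb i ζ G) := by
  let Φ := Scheme.pointSmallEtale ζ
  let Φ' := comapPoint i ζ
  constructor
  · intro a b hab
    obtain ⟨U, u₀, t₁, t₂, rfl, rfl⟩ :=
      Φ'.toPresheafFiber_jointly_surjective₂ (P := (EtCoh.bc i).op ⋙ G.obj) a b
    have hab' : Φ.toPresheafFiber ((EtCoh.bc i).obj U) u₀ G.obj t₁ =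
        Φ.toPresheafFiber ((EtCoh.bc i).obj U) u₀ G.obj t₂ :=
      (cmpAb_germ i ζ G U u₀ t₁).symm.trans (hab.trans (cmpAb_germ i ζ G U u₀ t₂))
    obtain ⟨V, f, v, hv, hf⟩ := (Φ.toPresheafFiber_eq_iff' (P := G.obj) _ u₀ t₁ t₂).1 hab'
    obtain ⟨U'', g, u'', hu'', hg⟩ := exists_bc_refinement i ζ
      (P := G.obj ⋙ forget AddCommGrpCat.{u + 1}) (isSheaf_forget G) U u₀ t₁ t₂ f v hv hf
    have e1 := Φ'.toPresheafFiber_w_apply g u'' ((EtCoh.bc i).op ⋙ G.obj) t₁
    have e2 := Φ'.toPresheafFiber_w_apply g u'' ((EtCoh.bc i).op ⋙ G.obj) t₂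
    have hu''' : Φ'.fiber.map g u'' = u₀ := hu''
    rw [hu'''] at e1 e2
    rw [← e1, ← e2]
    exact congrArg _ hg
  · intro p
    obtain ⟨V, v, s, rfl⟩ := Φ.toPresheafFiber_jointly_surjective (P := G.obj) p
    obtain ⟨U, H, v', hv'⟩ := exists_bc_nbhd i ζ V v
    refine ⟨Φ'.toPresheafFiber U v' ((EtCoh.bc i).op ⋙ G.obj) (G.obj.map H.op s), ?_⟩
    refine (cmpAb_germ i ζ G U v' (G.obj.map H.op s)).trans ?_
    have e := Φ.toPresheafFiber_w_apply H v' G.obj s
    rw [hv'] at e
    exact e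

instance isIso_cmpAb (G : EtCoh.Ab Z) : IsIso (cmpAb i ζ G) :=
  (ConcreteCategory.isIso_iff_bijective _).2 (cmpAb_bijective i ζ G)

/-- The counit `i^* i_* G ⟶ G` is an isomorphism on stalks. -/
lemma isIso_stalk_counit (G : EtCoh.Ab Z) :
    IsIso ((EtCoh.stalk ζ).map ((EtCoh.pullPushAdj i).counit.app G)) :=
  have : IsIso (cmp (Scheme.pointSmallEtale ζ) (EtCoh.bc i) (EtCoh.coverPreserving_bc i)
      G.obj) := isIso_cmpAb i ζ G
  isIso_sheafFiber_map_counit (Scheme.pointSmallEtale ζ) (EtCoh.bc i)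
    (EtCoh.coverPreserving_bc i) G

end Cmp

section Main

variable [IsClosedImmersion i]

/-- For a closed immersion, the counit `i^* i_* G ⟶ G` is an isomorphism. -/
instance isIso_counit_app (G : EtCoh.Ab Z) : IsIso ((EtCoh.pullPushAdj i).counit.app G) :=
  isIso_of_stalks _ fun _ _ _ ζ => isIso_stalk_counit i ζ G

instance isIso_counit : IsIso (EtCoh.pullPushAdj i).counit :=
  NatIso.isIso_of_isIso_app _

/-- Direct image along a closed immersion is fully faithful. -/
def fullyFaithfulPush : (EtCoh.push i).FullyFaithful :=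
  (EtCoh.pullPushAdj i).fullyFaithfulROfIsIsoCounit

instance full_push : (EtCoh.push i).Full := (fullyFaithfulPush i).full
instance faithful_push : (EtCoh.push i).Faithful := (fullyFaithfulPush i).faithful

/-- The stalk of `i_* G` at `ζ ≫ i` is the stalk of `G` at `ζ`, naturally in `G`. -/
def stalkPushIso : EtCoh.push i ⋙ EtCoh.stalk (ζ ≫ i) ≅ EtCoh.stalk ζ :=
  Functor.isoWhiskerLeft (EtCoh.push i) (stalkPullIso i ζ).symm ≪≫
    (Functor.associator _ _ _).symm ≪≫
    Functor.isoWhiskerRight (asIso (EtCoh.pullPushAdj i).counit) (EtCoh.stalk ζ) ≪≫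
    Functor.leftUnitor _

end Main

end

end Groth.Agent.Lib.Helper22.EtStalk.ClosedStalk
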