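import Groth.Agent.Lib.Helper22.EtStalk.ClosedStalk
import Groth.Agent.Lib.Helper22.EtStalk.SetsFamily
import Groth.Agent.Lib.Helper22.EtStalk.PullSets

/-!
# Direct images of sheaves of sets along closed immersions (helper22)

Sets-valued analogue of `ClosedStalk`: `cmpSets_bijective`, `isIso_counit_app`, `fullyFaithfulPushSh`.
-/

set_option autoImplicit false
universe u
open CategoryTheory CategoryTheory.Limits AlgebraicGeometry Opposite

namespace Groth.Agent.Lib.Helper22.EtStalk.ClosedStalkSets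

open Groth.Agent.Lib.Helper22.CechU.Etale Groth.Agent.Lib.Helper22.EtStalk.ClosedStalk
  Groth.Agent.Lib.Helper22.EtStalk.Sets Groth.Agent.Lib.Helper22.PointComap

noncomputable section

variable {Z X : Scheme.{u}} (i : Z ⟶ X)
  {Ω : Type u} [Field Ω] [IsSepClosed Ω] (ζ : Spec (CommRingCat.of Ω) ⟶ Z)

/-- All geometric points form a covering family. -/
lemma covering_all (S : Scheme.{u}) : CoveringFamily S (fun _ _ _ _ => True) := by
  intro U y
  obtain ⟨Ω, i1, i2, ξ, x, hx⟩ := exists_geomPoint U y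
  exact ⟨Ω, i1, i2, ξ, trivial, x, hx⟩

/-- The comparison map `(i_* G)_{i ζ} ⟶ G_ζ` for sheaves of sets. -/
abbrev cmpSets (G : Sh Z) :
    (comapPoint i ζ).presheafFiber.obj ((EtCoh.bc i).op ⋙ G.obj) ⟶
      (Scheme.pointSmallEtale ζ).presheafFiber.obj G.obj :=
  cmp (Scheme.pointSmallEtale ζ) (EtCoh.bc i) (EtCoh.coverPreserving_bc i) G.obj

lemma cmpSets_germ (G : Sh Z) (U : X.Etale)
    (u₀ : (Scheme.pointSmallEtale ζ).fiber.obj ((EtCoh.bc i).obj U))
    (t : G.obj.obj (op ((EtCoh.bc i).obj U))) :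
    cmpSets i ζ G ((comapPoint i ζ).toPresheafFiber U u₀ ((EtCoh.bc i).op ⋙ G.obj) t) =
      (Scheme.pointSmallEtale ζ).toPresheafFiber ((EtCoh.bc i).obj U) u₀ G.obj t :=
  congrArg (fun φ => (ConcreteCategory.hom φ) t)
    (toPresheafFiber_cmp (Scheme.pointSmallEtale ζ) (EtCoh.bc i) (EtCoh.coverPreserving_bc i)
      G.obj U u₀)

variable [IsClosedImmersion i]

theorem cmpSets_bijective (G : Sh Z) : Function.Bijective (cmpSets i ζ G) := by
  let Φ := Scheme.pointSmallEtale ζ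
  let Φ' := comapPoint i ζ
  constructor
  · intro a b hab
    obtain ⟨U, u₀, t₁, t₂, rfl, rfl⟩ :=
      Φ'.toPresheafFiber_jointly_surjective₂ (P := (EtCoh.bc i).op ⋙ G.obj) a b
    have hab' : Φ.toPresheafFiber ((EtCoh.bc i).obj U) u₀ G.obj t₁ =
        Φ.toPresheafFiber ((EtCoh.bc i).obj U) u₀ G.obj t₂ :=
      (cmpSets_germ i ζ G U u₀ t₁).symm.trans (hab.trans (cmpSets_germ i ζ G U u₀ t₂))
    obtain ⟨V, f, v, hv, hf⟩ := (Φ.toPresheafFiber_eq_iff' (P := G.obj) _ u₀ t₁ t₂).1 hab'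
    obtain ⟨U'', g, u'', hu'', hg⟩ := exists_bc_refinement i ζ
      (P := G.obj) (isSheaf_type G) U u₀ t₁ t₂ f v hv hf
    have e1 := Φ'.toPresheafFiber_w_apply g u'' ((EtCoh.bc i).op ⋙ G.obj) t₁
    have e2 := Φ'.toPresheafFiber_w_apply g u'' ((EtCoh.bc i).op ⋙ G.obj) t₂
    have hu''' : Φ'.fiber.map g u'' = u₀ := hu''
    rw [hu'''] at e1 e2
    rw [← e1, ← e2]
    exact congrArg _ hg
  · intro p
    obtain ⟨V, v, s, rfl⟩ := Φ.toPresheafFiber_jointly_surjective (P := G.obj) p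
    obtain ⟨U, H, v', hv'⟩ := exists_bc_nbhd i ζ V v
    refine ⟨Φ'.toPresheafFiber U v' ((EtCoh.bc i).op ⋙ G.obj) (G.obj.map H.op s), ?_⟩
    refine (cmpSets_germ i ζ G U v' (G.obj.map H.op s)).trans ?_
    have e := Φ.toPresheafFiber_w_apply H v' G.obj s
    rw [hv'] at e
    exact e

instance isIso_cmpSets (G : Sh Z) : IsIso (cmpSets i ζ G) :=
  (isIso_iff_bijective _).2 (cmpSets_bijective i ζ G)

/-- The counit `i^* i_* G ⟶ G` is an isomorphism on stalks. -/
lemma isIso_stalk_counit (G : Sh Z) :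
    IsIso (((Scheme.pointSmallEtale ζ).sheafFiber (A := Type (u + 1))).map
      ((EtDesc.adjSh i).counit.app G)) :=
  have : IsIso (cmp (Scheme.pointSmallEtale ζ) (EtCoh.bc i) (EtCoh.coverPreserving_bc i)
      G.obj) := isIso_cmpSets i ζ G
  isIso_sheafFiber_map_counit (Scheme.pointSmallEtale ζ) (EtCoh.bc i)
    (EtCoh.coverPreserving_bc i) G

/-- For a closed immersion, the counit `i^* i_* G ⟶ G` is an isomorphism (sheaves of sets). -/
instance isIso_counit_app (G : Sh Z) : IsIso ((EtDesc.adjSh i).counit.app G) :=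
  Sets.isIso_of_stalks (covering_all Z) _ fun _ _ _ ζ _ =>
    (isIso_iff_bijective _).1 (isIso_stalk_counit i ζ G)

instance isIso_counit : IsIso (EtDesc.adjSh i).counit :=
  NatIso.isIso_of_isIso_app _

/-- Direct image of sheaves of sets along a closed immersion is fully faithful. -/
def fullyFaithfulPushSh : (EtDesc.pushSh i).FullyFaithful :=
  (EtDesc.adjSh i).fullyFaithfulROfIsIsoCounit

end

end Groth.Agent.Lib.Helper22.EtStalk.ClosedStalkSets
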