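import Groth.Prelude.Def_EtCore
import Mathlib.CategoryTheory.Sites.Point.Skyscraper
import Mathlib.CategoryTheory.Limits.Connected

set_option autoImplicit false

universe u

open CategoryTheory CategoryTheory.Limits Opposite AlgebraicGeometry

namespace Groth.Agent.Lib.Helper22.EtStalk.ConstStalk

noncomputable section

variable {X : Scheme.{u}} {Ω : Type u} [Field Ω] [IsSepClosed Ω]
  (ξ : Spec (CommRingCat.of Ω) ⟶ X)

/-- The fibre of a constant presheaf at a point is its value. -/
def presheafFiberConstIso (M : AddCommGrpCat.{u + 1}) :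
    (Scheme.pointSmallEtale ξ).presheafFiber.obj ((Functor.const (X.Etale)ᵒᵖ).obj M) ≅ M :=
  haveI : IsConnected ((Scheme.pointSmallEtale ξ).fiber.Elementsᵒᵖ) := IsFiltered.isConnected _
  ((Scheme.pointSmallEtale ξ).isColimitPresheafFiberCocone
    ((Functor.const (X.Etale)ᵒᵖ).obj M)).coconePointUniqueUpToIso
      (isColimitConstCocone ((Scheme.pointSmallEtale ξ).fiber.Elementsᵒᵖ) M)

/-- The stalk of a constant sheaf at a geometric point is its value. -/
def stalkConstIso (M : AddCommGrpCat.{u + 1}) :
    (EtCoh.stalk ξ).obj ((constantSheaf X.smallEtaleTopology AddCommGrpCat.{u + 1}).obj M) ≅ M :=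
  ((Scheme.pointSmallEtale ξ).presheafToSheafCompSheafFiberIso AddCommGrpCat.{u + 1}).app
    ((Functor.const (X.Etale)ᵒᵖ).obj M) ≪≫ presheafFiberConstIso ξ M

end

end Groth.Agent.Lib.Helper22.EtStalk.ConstStalk
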