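import Groth.Agent.Lib.Helper22.EtStalk.FinitePushFormula
import Groth.Agent.Lib.Helper22.EtStalk.AlgClosedPoints
import Groth.Agent.Lib.Helper22.EtStalk.Pull
import Groth.Agent.Lib.Helper22.EtLoc.MonoLoc

/-!
# Sheaves on a finite disjoint union of clopen subschemes (helper22)
-/

set_option autoImplicit false
set_option linter.unusedSectionVars false

universe u

open CategoryTheory CategoryTheory.Limits AlgebraicGeometry Opposite

namespace Groth.Agent.Lib.Helper22.EtStalk.DisjointDecomp

open Groth.Agent.Lib.Helper22.EtStalk Groth.Agent.Lib.Helper22.EtLoc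

noncomputable section

variable {X' : Scheme.{u}} {J : Type} [Fintype J] (V : J → Scheme.{u}) (i : ∀ j, V j ⟶ X')
  [∀ j, IsOpenImmersion (i j)] [∀ j, IsFinite (i j)] (G : EtCoh.Ab X')

/-- The summands. -/
abbrev A (j : J) : EtCoh.Ab X' := (EtCoh.push (i j)).obj ((EtCoh.pull (i j)).obj G)

/-- The comparison map from a sheaf to the sum of its pieces. -/
def Φ : G ⟶ ⨁ (A V i G) :=
  biproduct.lift fun j => (EtCoh.pullPushAdj (i j)).unit.app G

lemma Φ_π (j : J) : Φ V i G ≫ biproduct.π (A V i G) j = (EtCoh.pullPushAdj (i j)).unit.app G :=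
  biproduct.lift_π _ _

/-- The pullback of the unit along an étale monomorphism is an isomorphism. -/
lemma isIso_pull_unit (j : J) :
    IsIso ((EtCoh.pull (i j)).map ((EtCoh.pullPushAdj (i j)).unit.app G)) := by
  have h1 : IsIso ((EtCoh.pullPushAdj (i j)).counit.app ((EtCoh.pull (i j)).obj G)) :=
    isIso_pullPushAdj_counit_app (i j) _
  have h2 := (EtCoh.pullPushAdj (i j)).left_triangle_components G
  have h3 : IsIso ((EtCoh.pull (i j)).map ((EtCoh.pullPushAdj (i j)).unit.app G) ≫
      (EtCoh.pullPushAdj (i j)).counit.app ((EtCoh.pull (i j)).obj G)) := by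
    rw [h2]; exact IsIso.id _
  exact IsIso.of_isIso_comp_right _ ((EtCoh.pullPushAdj (i j)).counit.app _)

variable {Ω : Type u} [Field Ω] [IsAlgClosed Ω] (ξ : Spec (CommRingCat.of Ω) ⟶ X')

/-- The unit is bijective on stalks at points of the piece. -/
lemma bijective_stalk_unit (j : J) (ξ' : Spec (CommRingCat.of Ω) ⟶ V j) (h : ξ' ≫ i j = ξ) :
    Function.Bijective ((EtCoh.stalk ξ).map ((EtCoh.pullPushAdj (i j)).unit.app G)) := by
  subst h
  have h1 := isIso_pull_unit V i G j
  have hnat := (stalkPullIso (i j) ξ').hom.naturality ((EtCoh.pullPushAdj (i j)).unit.app G)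
  have h2 : IsIso ((EtCoh.pull (i j) ⋙ EtCoh.stalk ξ').map
      ((EtCoh.pullPushAdj (i j)).unit.app G)) := by
    change IsIso ((EtCoh.stalk ξ').map ((EtCoh.pull (i j)).map _))
    infer_instance
  have h3 : IsIso ((EtCoh.stalk (ξ' ≫ i j)).map ((EtCoh.pullPushAdj (i j)).unit.app G)) := by
    have : (EtCoh.stalk (ξ' ≫ i j)).map ((EtCoh.pullPushAdj (i j)).unit.app G) =
        (stalkPullIso (i j) ξ').inv.app _ ≫ (EtCoh.pull (i j) ⋙ EtCoh.stalk ξ').map
          ((EtCoh.pullPushAdj (i j)).unit.app G) ≫ (stalkPullIso (i j) ξ').hom.app _ := by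
      rw [hnat, ← Category.assoc, Iso.inv_hom_id_app, Category.id_comp]
    rw [this]
    infer_instance
  exact ConcreteCategory.bijective_of_isIso _

/-- The stalk of a pushforward along a finite morphism vanishes at points with no lift. -/
lemma subsingleton_stalk_push {Z : Scheme.{u}} (f : Z ⟶ X') [IsFinite f] (H : EtCoh.Ab Z)
    (h : IsEmpty (Lifts f ξ)) :
    Subsingleton ((EtCoh.stalk ξ).obj ((EtCoh.push f).obj H)) := by
  refine ⟨fun a b => ?_⟩
  have ha : a - b = 0 :=
    FinitePush.eq_zero_of_retr_eq_zero f H (a - b) (fun u => (h.false u).elim)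
  exact sub_eq_zero.1 ha

/-- A geometric point lifts uniquely to the piece containing its image. -/
lemma exists_lift (j : J) (h : ξ default ∈ Set.range (i j)) :
    ∃ ξ' : Spec (CommRingCat.of Ω) ⟶ V j, ξ' ≫ i j = ξ := by
  have hr : Set.range ξ ⊆ Set.range (i j) := by
    rintro _ ⟨p, rfl⟩
    have : p = default := Subsingleton.elim _ _
    rw [this]
    exact h
  exact ⟨IsOpenImmersion.lift (i j) ξ hr, IsOpenImmersion.lift_fac _ _ _⟩

lemma isEmpty_lifts (j : J) (h : ξ default ∉ Set.range (i j)) : IsEmpty (Lifts (i j) ξ) := by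
  refine ⟨fun u => h ?_⟩
  refine ⟨u.1 default, ?_⟩
  rw [← Scheme.Hom.comp_apply, u.2]

/-- **Decomposition**: a sheaf on a finite disjoint union of clopen pieces is the sum of the
pushforwards of its restrictions. -/
theorem isIso_Φ (hcov : ∀ x : X', ∃ j, x ∈ Set.range (i j))
    (hdis : ∀ j k, j ≠ k → Disjoint (Set.range (i j)) (Set.range (i k))) :
    IsIso (Φ V i G) := by
  classical
  rw [AC.isIso_iff_stalks]
  intro Ω _ _ ξ
  obtain ⟨j₀, hj₀⟩ := hcov (ξ default)
  obtain ⟨ξ', hξ'⟩ := exists_lift V i ξ j₀ hj₀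
  have hbij := bijective_stalk_unit V i G ξ j₀ ξ' hξ'
  have hsub : ∀ j, j ≠ j₀ → Subsingleton ((EtCoh.stalk ξ).obj (A V i G j)) := by
    intro j hj
    apply subsingleton_stalk_push
    apply isEmpty_lifts
    intro hmem
    exact Set.disjoint_left.1 (hdis j j₀ hj) hmem hj₀
  let S := EtCoh.stalk ξ
  have hπ : ∀ j (x : S.obj G), S.map (biproduct.π (A V i G) j) (S.map (Φ V i G) x) =
      S.map ((EtCoh.pullPushAdj (i j)).unit.app G) x := by
    intro j x
    rw [← Φ_π V i G j, Functor.map_comp]
    rfl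
  have hext : ∀ z z' : S.obj (⨁ (A V i G)),
      (∀ j, S.map (biproduct.π (A V i G) j) z = S.map (biproduct.π (A V i G) j) z') → z = z' := by
    intro z z' h
    have htot : S.map (𝟙 (⨁ (A V i G))) =
        ∑ j, S.map (biproduct.π (A V i G) j) ≫ S.map (biproduct.ι (A V i G) j) := by
      rw [← biproduct.total, Functor.map_sum]
      exact Finset.sum_congr rfl fun j _ => Functor.map_comp _ _ _
    have hz : ∀ w : S.obj (⨁ (A V i G)),
        w = ∑ j, S.map (biproduct.ι (A V i G) j) (S.map (biproduct.π (A V i G) j) w) := by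
      intro w
      let ev : (S.obj (⨁ (A V i G)) ⟶ S.obj (⨁ (A V i G))) →+ S.obj (⨁ (A V i G)) :=
        { toFun := fun φ => φ.hom w, map_zero' := rfl, map_add' := fun _ _ => rfl }
      have h1 := congrArg ev htot
      rw [map_sum] at h1
      have h2 : ev (S.map (𝟙 (⨁ (A V i G)))) = w := by
        change (S.map (𝟙 _)).hom w = w
        rw [CategoryTheory.Functor.map_id]
        rfl
      rw [h2] at h1
      exact h1
    rw [hz z, hz z']
    exact Finset.sum_congr rfl fun j _ => by rw [h j]
  constructor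
  · intro x x' hxx'
    apply hbij.1
    rw [← hπ j₀ x, ← hπ j₀ x', hxx']
  · intro y
    obtain ⟨x, hx⟩ := hbij.2 (S.map (biproduct.π (A V i G) j₀) y)
    refine ⟨x, hext _ _ fun j => ?_⟩
    by_cases hj : j = j₀
    · subst hj
      rw [hπ, hx]
    · have := hsub j hj
      exact Subsingleton.elim _ _

end

end Groth.Agent.Lib.Helper22.EtStalk.DisjointDecomp
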