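import Groth.Agent.Lib.Helper22.EtStalk.LTorsion

/-!
# Gluing sections of an étale sheaf with prescribed germs
-/

set_option autoImplicit false
universe u
open CategoryTheory CategoryTheory.Limits AlgebraicGeometry Opposite

namespace Groth.Agent.Lib.Helper22.EtStalk

open Groth.Agent.Lib.Helper22.CechU.Etale

noncomputable section

variable {X : Scheme.{u}}

/-- A family of prescribed germs at all geometric points. -/
abbrev GermFamily (F : EtCoh.Ab X) : Type (u + 1) :=
  ∀ (Ω : Type u) [Field Ω] [IsSepClosed Ω] (ξ : Spec (CommRingCat.of Ω) ⟶ X),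
    (EtCoh.stalk ξ).obj F

/-- The section `s` has the prescribed germs. -/
def HasGerms (F : EtCoh.Ab X) (γ : GermFamily F) (V : X.Etale) (s : F.obj.obj (op V)) : Prop :=
  ∀ (Ω : Type u) [Field Ω] [IsSepClosed Ω] (ξ : Spec (CommRingCat.of Ω) ⟶ X)
    (x : (Scheme.pointSmallEtale ξ).fiber.obj V), germ ξ F V x s = γ Ω ξ

variable {F : EtCoh.Ab X} {γ : GermFamily F}

lemma HasGerms.map {V V' : X.Etale} (g : V' ⟶ V) {s : F.obj.obj (op V)} (hs : HasGerms F γ V s) :
    HasGerms F γ V' (F.obj.map g.op s) := by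
  intro Ω _ _ ξ x
  rw [germ_map]
  exact hs Ω ξ _

lemma HasGerms.unique {V : X.Etale} {s s' : F.obj.obj (op V)} (hs : HasGerms F γ V s)
    (hs' : HasGerms F γ V s') : s = s' := by
  rw [← sub_eq_zero]
  apply eq_zero_of_germs
  intro Ω _ _ ξ x
  rw [map_sub, hs Ω ξ x, hs' Ω ξ x, sub_self]

/-- Sections with prescribed germs which exist étale locally glue to a global section. -/
theorem exists_global_section_of_germs
    (hloc : ∀ x : X, ∃ (W : X.Etale) (w : W.left), (W.hom : W.left ⟶ X) w = x ∧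
      ∃ s : F.obj.obj (op W), HasGerms F γ W s) :
    ∃ t : F.obj.obj (op (EtCoh.top X)), HasGerms F γ (EtCoh.top X) t := by
  let R : Sieve (EtCoh.top X) :=
    { arrows := fun V _ => ∃ s : F.obj.obj (op V), HasGerms F γ V s
      downward_closed := by
        rintro V V' f ⟨s, hs⟩ g
        exact ⟨_, hs.map g⟩ }
  have hR : R ∈ X.smallEtaleTopology (EtCoh.top X) := by
    rw [mem_smallEtaleTopology_iff]
    intro x
    obtain ⟨W, w, hw, hs⟩ := hloc x
    refine ⟨W, (EtCore.topIsTerminal X).from W, w, hs, ?_⟩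
    let tl : W.left ⟶ X := ((EtCore.topIsTerminal X).from W).left
    have h : tl ≫ 𝟙 X = W.hom := Over.w ((EtCore.topIsTerminal X).from W).hom
    have h' : tl = W.hom := by rw [← Category.comp_id tl, h]
    change tl w = x
    rw [h']
    exact hw
  have hsh := (isSheaf_forget F) R hR
  let fam : Presieve.FamilyOfElements (F.obj ⋙ forget AddCommGrpCat.{u + 1}) R.arrows :=
    fun V f hf => hf.choose
  have hfam : ∀ (V : X.Etale) (f : V ⟶ EtCoh.top X) (hf : R.arrows f),
      HasGerms F γ V (fam f hf) := fun V f hf => hf.choose_spec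
  have hcompat : fam.Compatible := by
    intro V₁ V₂ Y g₁ g₂ f₁ f₂ h₁ h₂ _
    exact ((hfam V₁ f₁ h₁).map g₁).unique ((hfam V₂ f₂ h₂).map g₂)
  let t : F.obj.obj (op (EtCoh.top X)) := hsh.amalgamate fam hcompat
  have ht : ∀ (V : X.Etale) (f : V ⟶ EtCoh.top X) (hf : R.arrows f),
      F.obj.map f.op t = fam f hf := fun V f hf => hsh.valid_glue hcompat f hf
  refine ⟨t, ?_⟩
  intro Ω _ _ ξ x
  obtain ⟨W, w, hw, hs⟩ := hloc ((x.left : Spec (CommRingCat.of Ω) ⟶ X)
    (default : Spec (CommRingCat.of Ω)))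
  let g : W ⟶ EtCoh.top X := (EtCore.topIsTerminal X).from W
  let tl : W.left ⟶ X := g.left
  have h : tl ≫ 𝟙 X = W.hom := Over.w g.hom
  have hg : tl = W.hom := by rw [← Category.comp_id tl, h]
  have hgw : g.left w = x.left (default : Spec (CommRingCat.of Ω)) := by
    change tl w = _
    rw [hg]
    exact hw
  obtain ⟨x', hx'⟩ := exists_fiber_lift ξ g x w hgw
  have h1 : germ ξ F W x' (F.obj.map g.op t) = germ ξ F (EtCoh.top X) x t := by
    rw [germ_map, hx']
  rw [← h1]
  have h2 : F.obj.map g.op t = fam g hs := ht W g hs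
  rw [h2]
  exact hfam W g hs Ω ξ x'

end

end Groth.Agent.Lib.Helper22.EtStalk
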