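import Groth.Agent.Lib.Helper22.EtStalk.ExtZeroStalk
import Groth.Agent.Lib.Helper22.EtStalk.GlueGerms
import Groth.Agent.Lib.Helper22.EtLoc.Deg0

/-!
# Germs of sections of an extension by zero
-/

set_option autoImplicit false
set_option linter.unusedSectionVars false
universe u
open CategoryTheory CategoryTheory.Limits AlgebraicGeometry Opposite

namespace Groth.Agent.Lib.Helper22.EtStalk

noncomputable section

variable {U X : Scheme.{u}} (j : U ⟶ X) [Etale j] [EtShriek.JCont j]
  {Ω : Type u} [Field Ω] [IsSepClosed Ω] (ξ : Spec (CommRingCat.of Ω) ⟶ X)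

/-- The unit of `j_! ⊣ j^*` on sections. -/
def unitApp (F : EtCoh.Ab U) (V : U.Etale) :
    F.obj.obj (op V) ⟶ ((EtShriek.extZero j).obj F).obj.obj (op ((EtShriek.compEtale j).obj V)) :=
  ((EtShriek.extZeroAdj j).unit.app F).hom.app (op V)

lemma sky_unit_π (G : EtCoh.Ab X) (W : X.Etale) (x : (Scheme.pointSmallEtale ξ).fiber.obj W) :
    ((Scheme.pointSmallEtale ξ).skyscraperSheafAdjunction.unit.app G).hom.app (op W) ≫
      Pi.π (fun _ : (Scheme.pointSmallEtale ξ).fiber.obj W => (EtCoh.stalk ξ).obj G) x =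
    germ ξ G W x := by
  have h := (Scheme.pointSmallEtale ξ).skyscraperPresheafHomEquiv_app_π
    (P := G.obj) (𝟙 ((Scheme.pointSmallEtale ξ).presheafFiber.obj G.obj)) W x
  rw [Category.comp_id] at h
  refine Eq.trans ?_ h
  congr 2

lemma comp4_aux {C : Type*} [Category C] {A B P Q M : C} (a : A ⟶ B) (b : B ⟶ P) (c : P ⟶ Q)
    (π : Q ⟶ M) (π' : P ⟶ M) (g : B ⟶ M) (h1 : c ≫ π = π') (h2 : b ≫ π' = g) :
    (a ≫ b ≫ c) ≫ π = a ≫ g := by
  rw [Category.assoc, Category.assoc, h1, h2]

/-- Germ formula for the unit of `j_! ⊣ j^*`. -/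
lemma germ_comp_ιLift (F : EtCoh.Ab U) (u : Lifts j ξ) (V : U.Etale)
    (y : (Scheme.pointSmallEtale u.1).fiber.obj V) :
    germ u.1 F V y ≫ ιLift j ξ F u =
      unitApp j F V ≫
        germ ξ ((EtShriek.extZero j).obj F) ((EtShriek.compEtale j).obj V) (incl u V y) := by
  have h1 := (Scheme.pointSmallEtale u.1).skyscraperSheafAdjunction_homEquiv_symm_apply
    (F := F) ((adjL j ξ).unit.app F ≫ projApp j ξ u _)
  have h2 := (Scheme.pointSmallEtale u.1).toPresheafFiber_skyscraperPresheafHomEquiv_symm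
    ((adjL j ξ).unit.app F ≫ projApp j ξ u _).hom V y
  unfold ιLift
  refine (congrArg (fun z => germ u.1 F V y ≫ z) h1).trans (h2.trans ?_)
  have h3 : ((adjL j ξ).unit.app F ≫ projApp j ξ u _).hom.app (op V) =
      unitApp j F V ≫
        ((Scheme.pointSmallEtale ξ).skyscraperSheafAdjunction.unit.app
          ((EtShriek.extZero j).obj F)).hom.app (op ((EtShriek.compEtale j).obj V)) ≫
        Pi.map' (incl u V) (fun _ => 𝟙 _) := by
    unfold adjL
    rw [Adjunction.comp_unit_app]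
    rfl
  have h4 : Pi.map' (f := fun _ : (Scheme.pointSmallEtale ξ).fiber.obj
        ((EtShriek.compEtale j).obj V) => (EtCoh.stalk ξ).obj ((EtShriek.extZero j).obj F))
        (g := fun _ : (Scheme.pointSmallEtale u.1).fiber.obj V =>
          (EtCoh.stalk ξ).obj ((EtShriek.extZero j).obj F)) (incl u V) (fun _ => 𝟙 _) ≫
      Pi.π _ y = Pi.π _ (incl u V y) := by
    rw [Pi.map'_comp_π, Category.comp_id]
  exact (congrArg (fun z => z ≫ Pi.π _ y) h3).trans
    (comp4_aux _ _ _ _ _ _ h4 (sky_unit_π ξ _ _ (incl u V y)))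

lemma ιLift_germ (F : EtCoh.Ab U) (u : Lifts j ξ) (V : U.Etale)
    (y : (Scheme.pointSmallEtale u.1).fiber.obj V) (s : F.obj.obj (op V)) :
    ιLift j ξ F u (germ u.1 F V y s) =
      germ ξ ((EtShriek.extZero j).obj F) ((EtShriek.compEtale j).obj V) (incl u V y)
        (unitApp j F V s) :=
  congrArg (fun φ => (ConcreteCategory.hom φ) s) (germ_comp_ιLift j ξ F u V y)

section Const

/-- `j_! ℤ_U`. -/
abbrev jZ : EtCoh.Ab X := (EtShriek.extZero j).obj (EtCoh.const U ℤ)

/-- The object `U → X` of the small étale site of `X`. -/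
abbrev jU : X.Etale := (EtShriek.compEtale j).obj (EtCoh.top U)

/-- The universal section of `j_! ℤ_U` over `U → X`. -/
def univSec : (jZ j).obj.obj (op (jU j)) :=
  unitApp j (EtCoh.const U ℤ) (EtCoh.top U) (EtLoc.oneSec U)

variable {j ξ}

/-- The canonical point of the fibre of the terminal object. -/
def ptTop {Y : Scheme.{u}} (u : Spec (CommRingCat.of Ω) ⟶ Y) :
    (Scheme.pointSmallEtale u).fiber.obj (EtCoh.top Y) :=
  Over.homMk u (Category.comp_id u)

/-- The germ of the section `1` of the constant sheaf `ℤ`. -/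
def oneGerm {Y : Scheme.{u}} (u : Spec (CommRingCat.of Ω) ⟶ Y) :
    (EtCoh.stalk u).obj (EtCoh.const Y ℤ) :=
  germ u (EtCoh.const Y ℤ) (EtCoh.top Y) (ptTop u) (EtLoc.oneSec Y)

set_option backward.isDefEq.respectTransparency.types false in
/-- The lift of `ξ` determined by a point of `W` over `ξ` and an `X`-morphism `W → U`. -/
def liftOf {W : X.Etale} (g : W ⟶ jU j) (x : (Scheme.pointSmallEtale ξ).fiber.obj W) :
    Lifts j ξ :=
  ⟨x.left ≫ g.left, by
    let xl : Spec (CommRingCat.of Ω) ⟶ W.left := x.left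
    let gl : W.left ⟶ U := g.left
    have h1 : gl ≫ (𝟙 U ≫ j) = W.hom := MorphismProperty.Over.w g
    have h2 : xl ≫ W.hom = ξ := Over.w x
    change (xl ≫ gl) ≫ j = ξ
    rw [Category.assoc, ← h2, ← h1, Category.id_comp]⟩

set_option backward.isDefEq.respectTransparency.types false in
lemma fiber_map_eq {W : X.Etale} (g : W ⟶ jU j) (x : (Scheme.pointSmallEtale ξ).fiber.obj W) :
    (Scheme.pointSmallEtale ξ).fiber.map g x =
      incl (liftOf g x) (EtCoh.top U) (ptTop (liftOf g x).1) :=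
  Over.OverMorphism.ext rfl

lemma germ_sec {W : X.Etale} (g : W ⟶ jU j) (x : (Scheme.pointSmallEtale ξ).fiber.obj W) :
    germ ξ (jZ j) W x ((jZ j).obj.map g.op (univSec j)) =
      ιLift j ξ (EtCoh.const U ℤ) (liftOf g x) (oneGerm (liftOf g x).1) := by
  rw [germ_map, fiber_map_eq, oneGerm, ιLift_germ]
  rfl

variable (j) in
/-- The germs of the "norm of `1`" section of `j_! ℤ_U`. -/
def normGerms : GermFamily (jZ j) := fun _ _ _ ξ =>
  ∑ᶠ u : Lifts j ξ, ιLift j ξ (EtCoh.const U ℤ) u (oneGerm u.1)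

/-- A finite family of `X`-morphisms `W → U` hitting each lift of each geometric point of `W`
exactly once. -/
def IsCompleteFamily {W : X.Etale} {n : ℕ} (g : Fin n → (W ⟶ jU j)) : Prop :=
  ∀ (Ω : Type u) [Field Ω] [IsSepClosed Ω] (ξ : Spec (CommRingCat.of Ω) ⟶ X)
    (x : (Scheme.pointSmallEtale ξ).fiber.obj W),
    Function.Bijective (fun i : Fin n => liftOf (g i) x)

lemma hasGerms_sum {W : X.Etale} {n : ℕ} (g : Fin n → (W ⟶ jU j)) (hg : IsCompleteFamily g) :
    HasGerms (jZ j) (normGerms j) W (∑ i, (jZ j).obj.map (g i).op (univSec j)) := by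
  intro Ω _ _ ξ x
  rw [map_sum, normGerms, ← finsum_eq_sum_of_fintype]
  refine finsum_eq_of_bijective _ (hg Ω ξ x) fun i => ?_
  exact germ_sec (g i) x

end Const

end

end Groth.Agent.Lib.Helper22.EtStalk
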