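import Groth.Agent.Lib.Helper22.EtStalk.FinitePushSurj

set_option autoImplicit false
set_option linter.unusedSectionVars false
set_option linter.unusedVariables false
set_option linter.style.haveILetI false
universe u
open CategoryTheory CategoryTheory.Limits AlgebraicGeometry Opposite

namespace Groth.Agent.Lib.Helper22.EtStalk.FinitePush

open Groth.Agent.Lib.Helper22.CechU.Etale Groth.Agent.Lib.Helper22.EtStalk
  Groth.Agent.Lib.Helper22.EtStalk.PushRetr

noncomputable section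

set_option backward.isDefEq.respectTransparency.types false in
/-- A geometric point has finitely many lifts along a finite morphism. -/
theorem finite_lifts {X Y : Scheme.{u}} (f : X ⟶ Y) [IsFinite f]
    {Ω : Type u} [Field Ω] (η : Spec (CommRingCat.of Ω) ⟶ Y) : Finite (Lifts f η) := by
  let Z : Scheme.{u} := pullback f η
  let π : Z ⟶ Spec (CommRingCat.of Ω) := pullback.snd f η
  have hπ : IsFinite π := inferInstanceAs (IsFinite (pullback.snd f η))
  have hZ : IsAffine Z := isAffine_of_isAffineHom π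
  let A : CommRingCat.{u} := Γ(Z, ⊤)
  let ι : CommRingCat.of Ω ⟶ A := (Scheme.ΓSpecIso (CommRingCat.of Ω)).inv ≫ π.appTop
  letI : Algebra Ω A := ι.hom.toAlgebra
  have hfin : Module.Finite Ω A := by
    have h1 : π.appTop.hom.Finite := π.finite_appTop
    have h2 : ((Scheme.ΓSpecIso (CommRingCat.of Ω)).inv).hom.Finite :=
      RingHom.Finite.of_surjective _
        (ConcreteCategory.bijective_of_isIso (Scheme.ΓSpecIso (CommRingCat.of Ω)).inv).2
    have h3 : ι.hom.Finite := by
      change (π.appTop.hom.comp ((Scheme.ΓSpecIso (CommRingCat.of Ω)).inv).hom).Finite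
      exact h1.comp h2
    exact h3
  -- the section attached to a lift
  let sec : Lifts f η → (Spec (CommRingCat.of Ω) ⟶ Z) := fun ξ =>
    pullback.lift ξ.1 (𝟙 _) (by rw [Category.id_comp]; exact ξ.2)
  have hsec : ∀ ξ, sec ξ ≫ π = 𝟙 _ := fun ξ => pullback.lift_snd _ _ _
  have hsec1 : ∀ ξ, sec ξ ≫ pullback.fst f η = ξ.1 := fun ξ => pullback.lift_fst _ _ _
  let ψ : Lifts f η → (A →ₐ[Ω] Ω) := fun ξ =>
    { toRingHom := ((sec ξ).appTop ≫ (Scheme.ΓSpecIso (CommRingCat.of Ω)).hom).hom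
      commutes' := by
        intro r
        have h1 : π.appTop ≫ (sec ξ).appTop = 𝟙 _ := by
          rw [← Scheme.Hom.comp_appTop, hsec ξ]
          rfl
        have h2 : ι ≫ (sec ξ).appTop ≫ (Scheme.ΓSpecIso (CommRingCat.of Ω)).hom = 𝟙 _ := by
          change ((Scheme.ΓSpecIso (CommRingCat.of Ω)).inv ≫ π.appTop) ≫ (sec ξ).appTop ≫
            (Scheme.ΓSpecIso (CommRingCat.of Ω)).hom = 𝟙 _
          rw [Category.assoc, ← Category.assoc π.appTop, h1, Category.id_comp, Iso.inv_hom_id]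
        exact congrArg (fun φ => (ConcreteCategory.hom φ) r) h2 }
  have hψ : Function.Injective ψ := by
    intro ξ ξ' h
    have h1 : ((sec ξ).appTop ≫ (Scheme.ΓSpecIso (CommRingCat.of Ω)).hom).hom =
        ((sec ξ').appTop ≫ (Scheme.ΓSpecIso (CommRingCat.of Ω)).hom).hom :=
      congrArg (fun φ : A →ₐ[Ω] Ω => φ.toRingHom) h
    have h2 : (sec ξ).appTop ≫ (Scheme.ΓSpecIso (CommRingCat.of Ω)).hom =
        (sec ξ').appTop ≫ (Scheme.ΓSpecIso (CommRingCat.of Ω)).hom := CommRingCat.hom_ext h1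
    have h3 : (sec ξ).appTop = (sec ξ').appTop := (cancel_mono _).1 h2
    have h4 : sec ξ = sec ξ' := ext_of_isAffine h3
    apply Subtype.ext
    rw [← hsec1 ξ, ← hsec1 ξ', h4]
  exact Finite.of_injective ψ hψ

section Formula

variable {X Y : Scheme.{u}} (f : X ⟶ Y) [IsFinite f]
  {Ω : Type u} [Field Ω] [IsAlgClosed Ω] (η : Spec (CommRingCat.of Ω) ⟶ Y) (F : EtCoh.Ab X)

/-- The comparison map `(f_* F)_η ⟶ ∏_ξ F_ξ`. -/
def toPi : (EtCoh.stalk η).obj ((EtCoh.push f).obj F) →+
    (∀ ξ : Lifts f η, (EtCoh.stalk ξ.1).obj F) :=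
  AddMonoidHom.pi (fun ξ => (retr f ξ F).hom)

lemma toPi_apply (b : (EtCoh.stalk η).obj ((EtCoh.push f).obj F)) (ξ : Lifts f η) :
    toPi f η F b ξ = retr f ξ F b := rfl

theorem toPi_bijective : Function.Bijective (toPi f η F) := by
  classical
  haveI : Finite (Lifts f η) := finite_lifts f η
  haveI : Fintype (Lifts f η) := Fintype.ofFinite _
  constructor
  · rw [injective_iff_map_eq_zero]
    intro b hb
    apply eq_zero_of_retr_eq_zero f F b
    intro ξ
    exact congrFun hb ξ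
  · intro a
    choose b hb1 hb2 using fun ξ : Lifts f η => exists_retr_eq f F ξ (a ξ)
    refine ⟨∑ ξ, b ξ, ?_⟩
    funext ξ'
    rw [toPi_apply, map_sum, Finset.sum_eq_single ξ']
    · exact hb1 ξ'
    · intro ξ _ hne
      exact hb2 ξ ξ' (Ne.symm hne)
    · intro h
      exact (h (Finset.mem_univ _)).elim

/-- **Stalk formula for finite morphisms.** -/
theorem nonempty_stalk_iso_coprod :
    Nonempty ((EtCoh.stalk η).obj ((EtCoh.push f).obj F) ≅
      ∐ fun ξ : Lifts f η => (EtCoh.stalk ξ.1).obj F) := by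
  haveI : Finite (Lifts f η) := finite_lifts f η
  let φ : (EtCoh.stalk η).obj ((EtCoh.push f).obj F) ⟶
      AddCommGrpCat.of (∀ ξ : Lifts f η, (EtCoh.stalk ξ.1).obj F) :=
    AddCommGrpCat.ofHom (toPi f η F)
  haveI : IsIso φ := (ConcreteCategory.isIso_iff_bijective φ).2 (toPi_bijective f η F)
  let e1 := asIso φ
  let G : Lifts f η → AddCommGrpCat.{u + 1} := fun ξ => (EtCoh.stalk ξ.1).obj F
  let e2 : AddCommGrpCat.of (∀ ξ : Lifts f η, (EtCoh.stalk ξ.1).obj F) ≅ ∏ᶜ G :=
    IsLimit.conePointUniqueUpToIso (AddCommGrpCat.HasLimit.productLimitCone.{u, u + 1} G).isLimit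
      (limit.isLimit _)
  let e3 : ∏ᶜ G ≅ ⨁ G := (biproduct.isoProduct G).symm
  let e4 : ⨁ G ≅ ∐ G := biproduct.isoCoproduct G
  exact ⟨e1 ≪≫ e2 ≪≫ e3 ≪≫ e4⟩

end Formula

end

end Groth.Agent.Lib.Helper22.EtStalk.FinitePush
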