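import Groth.Agent.Lib.Helper22.EtStalk.ExtZeroGerm
import Groth.Agent.Lib.Helper22.EtStalk.ClosedStalk

/-!
# The maps `(f_* F)_η ⟶ F_ξ` for lifts `ξ` of a geometric point `η` (helper22)

For an arbitrary morphism `f : X ⟶ Y`, a geometric point `η` of `Y` and a lift `ξ` of `η` to `X`,
the point `(ξ, v)` of `X ×_Y V` attached to an étale neighbourhood `(V, v)` of `η` (`ptPair`) and
the induced map on stalks `retr : (f_* F)_η ⟶ F_ξ`.
-/

set_option autoImplicit false
set_option linter.unusedSectionVars false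
universe u
open CategoryTheory CategoryTheory.Limits AlgebraicGeometry Opposite

namespace Groth.Agent.Lib.Helper22.EtStalk.PushRetr

open Groth.Agent.Lib.Helper22.CechU.Etale Groth.Agent.Lib.Helper22.EtStalk

noncomputable section

variable {X Y : Scheme.{u}} (f : X ⟶ Y)
  {Ω : Type u} [Field Ω] [IsSepClosed Ω] {η : Spec (CommRingCat.of Ω) ⟶ Y}

set_option backward.isDefEq.respectTransparency.types false in
lemma ptPair_cond (ξ : Lifts f η) (V : Y.Etale) (v : (Scheme.pointSmallEtale η).fiber.obj V) :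
    (v.left : Spec (CommRingCat.of Ω) ⟶ V.left) ≫ (V.hom : V.left ⟶ Y) = ξ.1 ≫ f := by
  let vl : Spec (CommRingCat.of Ω) ⟶ V.left := v.left
  have h2 : vl ≫ V.hom = η := Over.w v
  change vl ≫ V.hom = ξ.1 ≫ f
  rw [h2]
  exact ξ.2.symm

set_option backward.isDefEq.respectTransparency.types false in
/-- The geometric point `(v, ξ)` of `V ×_Y X`, on underlying schemes. -/
def ptPairL (ξ : Lifts f η) (V : Y.Etale) (v : (Scheme.pointSmallEtale η).fiber.obj V) :
    Spec (CommRingCat.of Ω) ⟶ pullback (V.hom : V.left ⟶ Y) f :=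
  pullback.lift (f := V.hom) (g := f) v.left ξ.1 (ptPair_cond f ξ V v)

set_option backward.isDefEq.respectTransparency.types false in
lemma ptPairL_fst (ξ : Lifts f η) (V : Y.Etale) (v : (Scheme.pointSmallEtale η).fiber.obj V) :
    ptPairL f ξ V v ≫ pullback.fst V.hom f = v.left := pullback.lift_fst _ _ _

set_option backward.isDefEq.respectTransparency.types false in
lemma ptPairL_snd (ξ : Lifts f η) (V : Y.Etale) (v : (Scheme.pointSmallEtale η).fiber.obj V) :
    ptPairL f ξ V v ≫ pullback.snd V.hom f = ξ.1 := pullback.lift_snd _ _ _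

set_option backward.isDefEq.respectTransparency.types false in
/-- The geometric point `(v, ξ)` of `V ×_Y X`. -/
def ptPair (ξ : Lifts f η) (V : Y.Etale) (v : (Scheme.pointSmallEtale η).fiber.obj V) :
    (Scheme.pointSmallEtale ξ.1).fiber.obj ((EtCoh.bc f).obj V) :=
  Over.homMk (ptPairL f ξ V v) (ptPairL_snd f ξ V v)

set_option backward.isDefEq.respectTransparency.types false in
lemma ptPair_left (ξ : Lifts f η) (V : Y.Etale) (v : (Scheme.pointSmallEtale η).fiber.obj V) :
    (ptPair f ξ V v).left = ptPairL f ξ V v := rfl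

set_option backward.isDefEq.respectTransparency.types false in
lemma ptPairL_natural (ξ : Lifts f η) {V' V : Y.Etale} (g : V' ⟶ V)
    (v' : (Scheme.pointSmallEtale η).fiber.obj V') :
    ptPairL f ξ V' v' ≫ ((EtCoh.bc f).map g).left =
      ptPairL f ξ V ((Scheme.pointSmallEtale η).fiber.map g v') := by
  let Pf : pullback (V'.hom : V'.left ⟶ Y) f ⟶ pullback (V.hom : V.left ⟶ Y) f :=
    ((EtCoh.bc f).map g).left
  have h1 : Pf ≫ pullback.fst V.hom f = pullback.fst V'.hom f ≫ g.left :=
    ClosedStalk.bc_map_left_fst f g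
  have h2 : Pf ≫ pullback.snd V.hom f = pullback.snd V'.hom f :=
    ClosedStalk.bc_map_left_snd f g
  change ptPairL f ξ V' v' ≫ Pf = _
  apply pullback.hom_ext
  · rw [Category.assoc, h1, ← Category.assoc, ptPairL_fst, ptPairL_fst]
    rfl
  · rw [Category.assoc, h2, ptPairL_snd, ptPairL_snd]

set_option backward.isDefEq.respectTransparency.types false in
lemma ptPair_natural (ξ : Lifts f η) {V' V : Y.Etale} (g : V' ⟶ V)
    (v' : (Scheme.pointSmallEtale η).fiber.obj V') :
    (Scheme.pointSmallEtale ξ.1).fiber.map ((EtCoh.bc f).map g) (ptPair f ξ V' v') =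
      ptPair f ξ V ((Scheme.pointSmallEtale η).fiber.map g v') := by
  apply Over.OverMorphism.ext
  exact ptPairL_natural f ξ g v'

/-- The map `(f_* F)_η ⟶ F_ξ` attached to a lift `ξ` of `η`. -/
def retr (ξ : Lifts f η) (F : EtCoh.Ab X) :
    (EtCoh.stalk η).obj ((EtCoh.push f).obj F) ⟶ (EtCoh.stalk ξ.1).obj F :=
  (Scheme.pointSmallEtale η).presheafFiberDesc (P := ((EtCoh.push f).obj F).obj)
    (fun V v => germ ξ.1 F ((EtCoh.bc f).obj V) (ptPair f ξ V v))
    (fun V' V g v' => by
      rw [← ptPair_natural]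
      exact (Scheme.pointSmallEtale ξ.1).toPresheafFiber_w ((EtCoh.bc f).map g) _ F.obj)

lemma germ_retr (ξ : Lifts f η) (F : EtCoh.Ab X) (V : Y.Etale)
    (v : (Scheme.pointSmallEtale η).fiber.obj V) :
    germ η ((EtCoh.push f).obj F) V v ≫ retr f ξ F =
      germ ξ.1 F ((EtCoh.bc f).obj V) (ptPair f ξ V v) :=
  (Scheme.pointSmallEtale η).toPresheafFiber_presheafFiberDesc _ _ V v

lemma retr_germ (ξ : Lifts f η) (F : EtCoh.Ab X) (V : Y.Etale)
    (v : (Scheme.pointSmallEtale η).fiber.obj V) (t : ((EtCoh.push f).obj F).obj.obj (op V)) :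
    retr f ξ F (germ η ((EtCoh.push f).obj F) V v t) =
      germ ξ.1 F ((EtCoh.bc f).obj V) (ptPair f ξ V v) t :=
  congrArg (fun φ : ((EtCoh.push f).obj F).obj.obj (op V) ⟶ (EtCoh.stalk ξ.1).obj F =>
    (ConcreteCategory.hom φ) t) (germ_retr f ξ F V v)

/-- `retr` is natural in the sheaf. -/
lemma retr_naturality (ξ : Lifts f η) {F G : EtCoh.Ab X} (a : F ⟶ G)
    (b : (EtCoh.stalk η).obj ((EtCoh.push f).obj F)) :
    retr f ξ G ((EtCoh.stalk η).map ((EtCoh.push f).map a) b) =
      (EtCoh.stalk ξ.1).map a (retr f ξ F b) := by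
  obtain ⟨V, v, t, rfl⟩ := (Scheme.pointSmallEtale η).toPresheafFiber_jointly_surjective b
  have e1 := germ_naturality η ((EtCoh.push f).map a) V v t
  have e2 := retr_germ f ξ G V v (((EtCoh.push f).map a).hom.app (op V) t)
  have e3 := retr_germ f ξ F V v t
  have e4 := germ_naturality ξ.1 a ((EtCoh.bc f).obj V) (ptPair f ξ V v) t
  refine (congrArg (retr f ξ G) e1).trans (e2.trans ?_)
  refine Eq.trans ?_ (congrArg ((EtCoh.stalk ξ.1).map a) e3).symm
  exact e4.symm

end

end Groth.Agent.Lib.Helper22.EtStalk.PushRetr
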