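import Groth.Agent.Lib.Helper22.EtStalk.NormSec
import Groth.Agent.Lib.Helper22.EtLoc.ExcisionH

/-!
# The trace map `j_! ℤ_U → ℤ_X` and the transfer for finite étale morphisms
-/

set_option autoImplicit false
set_option linter.unusedSectionVars false
universe u
open CategoryTheory CategoryTheory.Limits AlgebraicGeometry Opposite

namespace Groth.Agent.Lib.Helper22.EtStalk

open Groth.Agent.Lib.Helper22.EtLoc Groth.Agent.Lib.Helper22.EtLoc.ExcisionH

noncomputable section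

variable {U X : Scheme.{u}} (j : U ⟶ X) [Etale j] [EtShriek.JCont j]

/-- The adjunction `j_! ⊣ j^*` with `j^* = EtCoh.pull j`. -/
def shriekPullAdj : EtShriek.extZero j ⊣ EtCoh.pull j :=
  (EtShriek.extZeroAdj j).ofNatIsoRight (pullIsoRes j).symm

/-- The trace map `j_! ℤ_U → ℤ_X`. -/
def εZ : jZ j ⟶ EtCoh.const X ℤ :=
  ((shriekPullAdj j).homEquiv _ _).symm (EtCore.pullConst j ℤ).inv

lemma shriekPullAdj_homEquiv_εZ :
    (shriekPullAdj j).homEquiv _ _ (εZ j) = (EtCore.pullConst j ℤ).inv :=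
  Equiv.apply_symm_apply _ _

lemma extZeroAdj_homEquiv_εZ :
    (EtShriek.extZeroAdj j).homEquiv _ _ (εZ j) =
      (EtCore.pullConst j ℤ).inv ≫ (pullIsoRes j).hom.app (EtCoh.const X ℤ) := by
  have h := shriekPullAdj_homEquiv_εZ j
  unfold shriekPullAdj at h
  rw [Adjunction.homEquiv_ofNatIsoRight_apply] at h
  rw [← h, Category.assoc]
  exact (Category.comp_id _).symm.trans
    (congrArg (_ ≫ ·) ((pullIsoRes j).inv_hom_id_app (EtCoh.const X ℤ)).symm)

lemma εZ_univSec :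
    (εZ j).hom.app (op (jU j)) (univSec j) =
      (EtCoh.const X ℤ).obj.map (toTop (jU j)).op (oneSec X) := by
  have h := extZeroAdj_homEquiv_εZ j
  rw [Adjunction.homEquiv_unit] at h
  have h2 := congrArg (fun φ => φ.hom.app (op (EtCoh.top U)) (oneSec U)) h
  refine Eq.trans ?_ (h2.trans ?_)
  · rfl
  · have h3 := congrArg (fun ψ => (ConcreteCategory.hom ψ) (oneSec X))
      (ps_σ j (EtCoh.const X ℤ) (toTop (jU j)))
    refine Eq.trans ?_ h3
    change ((pullIsoRes j).hom.app (EtCoh.const X ℤ)).hom.app (op (EtCoh.top U))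
      ((EtCore.pullConst j ℤ).inv.hom.app (op (EtCoh.top U)) (oneSec U)) = _
    rw [oneSec_pull]
    rfl

section Stalk

variable {Ω : Type u} [Field Ω] [IsSepClosed Ω] (ξ : Spec (CommRingCat.of Ω) ⟶ X)

set_option backward.isDefEq.respectTransparency.types false in
lemma eq_ptTop (x : (Scheme.pointSmallEtale ξ).fiber.obj (EtCoh.top X)) : x = ptTop ξ := by
  apply Over.OverMorphism.ext
  let xl : Spec (CommRingCat.of Ω) ⟶ X := x.left
  have h : xl ≫ 𝟙 X = ξ := Over.w x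
  change xl = ξ
  rw [← h, Category.comp_id]

lemma εZ_ιLift (u : Lifts j ξ) :
    (EtCoh.stalk ξ).map (εZ j) (ιLift j ξ (EtCoh.const U ℤ) u (oneGerm u.1)) = oneGerm ξ := by
  rw [oneGerm, ιLift_germ]
  change (EtCoh.stalk ξ).map (εZ j) (germ ξ (jZ j) (jU j) _ (univSec j)) = _
  rw [germ_naturality, εZ_univSec, germ_map, eq_ptTop ξ ((Scheme.pointSmallEtale ξ).fiber.map _ _)]
  rfl

end Stalk

section Tau

/-- `ψ ↦ ψ(s)` as an additive map. -/
def evalHom (P Q : EtCoh.Ab X) (V : X.Etaleᵒᵖ) (s : P.obj.obj V) : (P ⟶ Q) →+ Q.obj.obj V :=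
  AddMonoidHom.mk' (fun ψ => ψ.hom.app V s) (fun _ _ => rfl)

lemma nsmul_hom_app (m : ℕ) {P Q : EtCoh.Ab X} (ψ : P ⟶ Q) (V : X.Etaleᵒᵖ) (s : P.obj.obj V) :
    (m • ψ).hom.app V s = m • ψ.hom.app V s :=
  map_nsmul (evalHom P Q V s) m ψ

/-- The morphism `ℤ_X → G` attached to a global section of `G`. -/
def homOfSec (G : EtCoh.Ab X) (t : G.obj.obj (op (EtCoh.top X))) : EtCoh.const X ℤ ⟶ G :=
  ((EtCore.constAdj X).homEquiv _ _).symm
    (AddCommGrpCat.ofHom (((zmultiplesHom (G.obj.obj (op (EtCoh.top X)))) t).comp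
      AddEquiv.ulift.toAddMonoidHom))

lemma homEquiv_apply_one {G : EtCoh.Ab X} (φ : EtCoh.const X ℤ ⟶ G) :
    ((EtCore.constAdj X).homEquiv _ _ φ) (⟨1⟩ : ULift.{u + 1} ℤ) =
      φ.hom.app (op (EtCoh.top X)) (oneSec X) := by
  rw [Adjunction.homEquiv_unit]
  rfl

lemma homOfSec_oneSec (G : EtCoh.Ab X) (t : G.obj.obj (op (EtCoh.top X))) :
    (homOfSec G t).hom.app (op (EtCoh.top X)) (oneSec X) = t := by
  rw [← homEquiv_apply_one, homOfSec, Equiv.apply_symm_apply]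
  change (zmultiplesHom _ t) (1 : ℤ) = t
  simp

lemma hom_ext_oneSec {G : EtCoh.Ab X} (φ ψ : EtCoh.const X ℤ ⟶ G)
    (h : φ.hom.app (op (EtCoh.top X)) (oneSec X) = ψ.hom.app (op (EtCoh.top X)) (oneSec X)) :
    φ = ψ := by
  apply ((EtCore.constAdj X).homEquiv _ _).injective
  rw [← homEquiv_apply_one, ← homEquiv_apply_one] at h
  apply AddCommGrpCat.hom_ext
  have h2 : (((EtCore.constAdj X).homEquiv _ _ φ).hom.comp
      (AddEquiv.ulift.{0, u + 1} (α := ℤ)).symm.toAddMonoidHom) =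
      (((EtCore.constAdj X).homEquiv _ _ ψ).hom.comp
      (AddEquiv.ulift.{0, u + 1} (α := ℤ)).symm.toAddMonoidHom) := by
    apply AddMonoidHom.ext_int
    exact h
  ext ⟨n⟩
  exact DFunLike.congr_fun h2 n

end Tau

section Main

variable [IsFinite j]

/-- For a finite étale `j` of constant degree `d`, the trace map `j_! ℤ_U → ℤ_X` has a section up
to multiplication by `d`. -/
theorem exists_tau (d : ℕ)
    (hd : ∀ (Ω : Type u) [Field Ω] [IsSepClosed Ω] (ξ : Spec (CommRingCat.of Ω) ⟶ X),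
      Nat.card (Lifts j ξ) = d) :
    ∃ τ : EtCoh.const X ℤ ⟶ jZ j, τ ≫ εZ j = d • 𝟙 (EtCoh.const X ℤ) := by
  obtain ⟨t, ht⟩ := exists_normSec j
  refine ⟨homOfSec _ t, ?_⟩
  apply hom_ext_oneSec
  rw [nsmul_hom_app]
  change (εZ j).hom.app (op (EtCoh.top X))
    ((homOfSec (jZ j) t).hom.app (op (EtCoh.top X)) (oneSec X)) = d • oneSec X
  rw [homOfSec_oneSec, ← sub_eq_zero]
  apply eq_zero_of_germs
  intro Ω _ _ ξ x
  rw [map_sub, sub_eq_zero, ← germ_naturality, ht Ω ξ x, map_nsmul, eq_ptTop ξ x]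
  change _ = d • oneGerm ξ
  have : Finite (Lifts j ξ) := finite_lifts j ξ
  have : Fintype (Lifts j ξ) := Fintype.ofFinite _
  rw [normGerms, finsum_eq_sum_of_fintype, map_sum]
  rw [Finset.sum_congr rfl (fun u _ => εZ_ιLift j ξ u), Finset.sum_const, Finset.card_univ,
    ← Nat.card_eq_fintype_card, hd Ω ξ]

end Main

end

end Groth.Agent.Lib.Helper22.EtStalk
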