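import Groth.Agent.Lib.Helper22.EtStalk.Pull
import Groth.Agent.Lib.Helper22.EtStalk.Conservative
import Groth.Prelude.Def_EtAcyc

/-!
# `L`-torsion étale sheaves via stalks; pullback preserves `L`-torsion
-/

set_option autoImplicit false
universe u
open CategoryTheory CategoryTheory.Limits AlgebraicGeometry Opposite

namespace Groth.Agent.Lib.Helper22.EtStalk

noncomputable section

variable {X Y : Scheme.{u}}

/-- Lifting a geometric point of `U` through an étale neighbourhood. -/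
lemma exists_fiber_lift {Ω : Type u} [Field Ω] [IsSepClosed Ω] (ξ : Spec (CommRingCat.of Ω) ⟶ X)
    {U V : X.Etale} (g : V ⟶ U) (x : (Scheme.pointSmallEtale ξ).fiber.obj U) (v : V.left)
    (hv : g.left v = x.left (default : Spec (CommRingCat.of Ω))) :
    ∃ x' : (Scheme.pointSmallEtale ξ).fiber.obj V, (Scheme.pointSmallEtale ξ).fiber.map g x' = x := by
  have h1 : Etale (U.hom : U.left ⟶ X) := U.prop
  have h2 : Etale ((g.left : V.left ⟶ U.left) ≫ (U.hom : U.left ⟶ X)) := by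
    have e : (g.left : V.left ⟶ U.left) ≫ (U.hom : U.left ⟶ X) = V.hom := Over.w g.hom
    rw [e]
    exact V.prop
  have hg : Etale (g.left : V.left ⟶ U.left) :=
    MorphismProperty.of_postcomp (W := @Etale) (W' := @Etale) _ _ h1 h2
  let xl : Spec (CommRingCat.of Ω) ⟶ U.left := x.left
  obtain ⟨l, hl, -⟩ := Scheme.exists_fac_of_etale_of_isSepClosed (g.left : V.left ⟶ U.left) xl v hv
  have hw : xl ≫ (U.hom : U.left ⟶ X) = ξ := Over.w x
  have hl' : l ≫ (V.hom : V.left ⟶ X) = ξ := by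
    have e : (g.left : V.left ⟶ U.left) ≫ (U.hom : U.left ⟶ X) = V.hom := Over.w g.hom
    rw [← e, ← Category.assoc, hl, hw]
  refine ⟨Over.homMk l hl', ?_⟩
  apply Over.OverMorphism.ext
  exact hl

/-- `L`-torsion can be checked on geometric stalks. -/
theorem isLTorsion_iff_stalks (L : Set ℕ) (F : EtCoh.Ab X) :
    EtAcyc.IsLTorsion L F ↔
      ∀ (Ω : Type u) [Field Ω] [IsSepClosed Ω] (ξ : Spec (CommRingCat.of Ω) ⟶ X)
        (z : (EtCoh.stalk ξ).obj F), ∃ m : ℕ, EtAcyc.PrimesIn L m ∧ m • z = 0 := by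
  constructor
  · intro hF Ω _ _ ξ z
    obtain ⟨U, x, s, rfl⟩ := (Scheme.pointSmallEtale ξ).toPresheafFiber_jointly_surjective z
    obtain ⟨V, g, m, ⟨v, hv⟩, hm, hms⟩ := hF U s (x.left (default : Spec (CommRingCat.of Ω)))
    obtain ⟨x', hx'⟩ := exists_fiber_lift ξ g x v hv
    refine ⟨m, hm, ?_⟩
    have h1 : germ ξ F V x' (F.obj.map g.op s) = germ ξ F U x s := by
      rw [germ_map, hx']
    change m • germ ξ F U x s = 0
    rw [← h1, ← map_nsmul, hms, map_zero]
  · intro h U s y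
    obtain ⟨Ω, _, _, ξ, x, hx⟩ := exists_geomPoint U y
    obtain ⟨m, hm, hmz⟩ := h Ω ξ (germ ξ F U x s)
    have h1 : germ ξ F U x (m • s) = germ ξ F U x 0 := by
      rw [map_nsmul, hmz, map_zero]
    obtain ⟨V, f, v, hv, hf⟩ := ((Scheme.pointSmallEtale ξ).toPresheafFiber_eq_iff' U x _ _).1 h1
    refine ⟨V, f, m, ⟨v.left (default : Spec (CommRingCat.of Ω)), ?_⟩, hm, ?_⟩
    · rw [← hx, ← hv]
      rfl
    · have hf' : F.obj.map f.op (m • s) = F.obj.map f.op 0 := hf
      rw [map_nsmul, map_zero] at hf'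
      exact hf'

/-- The inverse image of an `L`-torsion sheaf is `L`-torsion. -/
theorem isLTorsion_pull (L : Set ℕ) (f : Y ⟶ X) (F : EtCoh.Ab X) (hF : EtAcyc.IsLTorsion L F) :
    EtAcyc.IsLTorsion L ((EtCoh.pull f).obj F) := by
  rw [isLTorsion_iff_stalks] at hF ⊢
  intro Ω _ _ ξ z
  let e := (stalkPullIso f ξ).app F
  obtain ⟨m, hm, hmz⟩ := hF Ω (ξ ≫ f) (e.hom z)
  refine ⟨m, hm, ?_⟩
  have h1 : e.hom (m • z) = 0 := by
    rw [map_nsmul, hmz]
  have h2 : Function.Injective e.hom := (ConcreteCategory.bijective_of_isIso e.hom).1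
  exact h2 (h1.trans (map_zero _).symm)

end

end Groth.Agent.Lib.Helper22.EtStalk
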