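import Groth.Agent.Lib.Helper22.EtStalk.PushRetr
import Groth.Agent.Lib.Helper22.EtStalk.AlgClosedPoints
import Groth.Agent.Lib.Helper6.EtLocInsepScheme1
import Groth.Agent.Lib.Helper22.EtLoc.Clopen
import Groth.Agent.Lib.Helper22.EtStalk.LTorsion

set_option autoImplicit false
set_option linter.unusedSectionVars false
universe u
open CategoryTheory CategoryTheory.Limits AlgebraicGeometry Opposite

namespace Groth.Agent.Lib.Helper22.EtStalk.FinitePush

open Groth.Agent.Lib.Helper22.CechU.Etale Groth.Agent.Lib.Helper22.EtStalk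
  Groth.Agent.Lib.Helper22.EtStalk.PushRetr Groth.Agent.Lib.Helper22.EtLoc.Clopen

noncomputable section

set_option backward.isDefEq.respectTransparency.types false in
/-- Lifting a geometric point with algebraically closed field along a finite morphism, through a
prescribed point of the fibre. -/
lemma exists_fac_of_finite_of_isAlgClosed {X S : Scheme.{u}} (f : X ⟶ S) [IsFinite f]
    {Ω : Type u} [Field Ω] [IsAlgClosed Ω] (s : Spec (.of Ω) ⟶ S)
    (x : X) (hx : f x = s default) :
    ∃ (l : Spec (.of Ω) ⟶ X), l ≫ f = s ∧ l default = x := by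
  obtain ⟨⟨s, a⟩, rfl⟩ := (Scheme.SpecToEquivOfField Ω S).symm.surjective s
  obtain rfl : f x = s := by simp [hx, Scheme.SpecToEquivOfField]
  let m := (f.residueFieldMap x).hom
  dsimp at m
  have hfin := Groth.Agent.Lib.Helper6.EtLoc.finite_residueField_of_quasiFiniteAt f x (f.quasiFiniteAt x)
  algebraize [m, a.hom]
  have : Module.Finite (S.residueField (f x)) (X.residueField x) := hfin
  let b : X.residueField x →ₐ[S.residueField (f x)] Ω :=
    IsAlgClosed.lift
  have : f.residueFieldMap x ≫ CommRingCat.ofHom b.toRingHom = a := by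
    ext1; exact b.comp_algebraMap
  refine ⟨Spec.map (CommRingCat.ofHom b.toRingHom) ≫ X.fromSpecResidueField x, ?_, ?_⟩
  · simp [Scheme.SpecToEquivOfField, ← this]
    rfl
  · dsimp
    apply Scheme.fromSpecResidueField_apply

/-- A morphism of étale `X`-schemes is étale. -/
lemma etale_left {X : Scheme.{u}} {U V : X.Etale} (g : V ⟶ U) : Etale (g.left : V.left ⟶ U.left) := by
  have h1 : Etale (U.hom : U.left ⟶ X) := U.prop
  have h2 : Etale ((g.left : V.left ⟶ U.left) ≫ (U.hom : U.left ⟶ X)) := by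
    have e : (g.left : V.left ⟶ U.left) ≫ (U.hom : U.left ⟶ X) = V.hom := Over.w g.hom
    rw [e]
    exact V.prop
  exact MorphismProperty.of_postcomp (W := @Etale) (W' := @Etale) _ _ h1 h2

/-- A geometric point of an étale scheme lying in an open factors through the open. -/
lemma exists_fiber_openSub {X : Scheme.{u}} {Ω : Type u} [Field Ω] [IsSepClosed Ω]
    (ξ : Spec (CommRingCat.of Ω) ⟶ X) (P : X.Etale) (O : P.left.Opens)
    (x : (Scheme.pointSmallEtale ξ).fiber.obj P)
    (hx : x.left (default : Spec (CommRingCat.of Ω)) ∈ O) :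
    ∃ x' : (Scheme.pointSmallEtale ξ).fiber.obj (openSub P O),
      (Scheme.pointSmallEtale ξ).fiber.map (openSubι P O) x' = x :=
  exists_fiber_lift ξ (openSubι P O) x ⟨_, hx⟩ rfl

section Inj

variable {X Y : Scheme.{u}} (f : X ⟶ Y) [IsFinite f]
  {Ω : Type u} [Field Ω] [IsAlgClosed Ω] {η : Spec (CommRingCat.of Ω) ⟶ Y}

set_option backward.isDefEq.respectTransparency.types false in
/-- Every point of `V ×_Y X` over the centre of `v` is the centre of `(v, ξ)` for some lift `ξ`. -/
lemma exists_lift_ptPair (V : Y.Etale) (v : (Scheme.pointSmallEtale η).fiber.obj V)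
    (p : ((EtCoh.bc f).obj V).left)
    (hp : (pullback.fst V.hom f : pullback V.hom f ⟶ V.left) p =
      v.left (default : Spec (CommRingCat.of Ω))) :
    ∃ ξ : Lifts f η, (ptPair f ξ V v).left (default : Spec (CommRingCat.of Ω)) = p := by
  let vl : Spec (CommRingCat.of Ω) ⟶ V.left := v.left
  have hv : vl ≫ V.hom = η := Over.w v
  obtain ⟨z, hz1, hz2⟩ := exists_fac_of_finite_of_isAlgClosed
    (pullback.fst V.hom f : pullback V.hom f ⟶ V.left) vl p hp
  have hξ : (z ≫ pullback.snd V.hom f) ≫ f = η := by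
    rw [Category.assoc, ← pullback.condition, ← Category.assoc, hz1, hv]
  refine ⟨⟨z ≫ pullback.snd V.hom f, hξ⟩, ?_⟩
  have hz : ptPairL f ⟨z ≫ pullback.snd V.hom f, hξ⟩ V v = z := by
    apply pullback.hom_ext
    · rw [ptPairL_fst]
      exact hz1.symm
    · rw [ptPairL_snd]
  change (ptPairL f ⟨z ≫ pullback.snd V.hom f, hξ⟩ V v) default = p
  rw [hz]
  exact hz2

set_option backward.isDefEq.respectTransparency.types false in
/-- Injectivity half of the stalk formula for finite morphisms. -/
theorem eq_zero_of_retr_eq_zero (F : EtCoh.Ab X)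
    (b : (EtCoh.stalk η).obj ((EtCoh.push f).obj F))
    (hb : ∀ ξ : Lifts f η, retr f ξ F b = 0) : b = 0 := by
  obtain ⟨V, v, t, rfl⟩ := (Scheme.pointSmallEtale η).toPresheafFiber_jointly_surjective b
  let P : X.Etale := (EtCoh.bc f).obj V
  let t' : F.obj.obj (op P) := t
  let O : Set P.left :=
    {p | ∃ (W : X.Etale) (g : W ⟶ P), p ∈ Set.range g.left ∧ F.obj.map g.op t' = 0}
  have hO : IsOpen O := by
    rw [isOpen_iff_forall_mem_open]
    rintro p ⟨W, g, hp, hg⟩
    refine ⟨Set.range g.left, ?_, ?_, hp⟩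
    · intro q hq
      exact ⟨W, g, hq, hg⟩
    · have : Etale (g.left : W.left ⟶ P.left) := etale_left g
      exact (g.left : W.left ⟶ P.left).isOpenMap.isOpen_range
  let π : P.left ⟶ V.left := pullback.fst V.hom f
  have hfinπ : IsFinite (pullback.fst V.hom f) := inferInstance
  have hπ : IsClosedMap π := (pullback.fst V.hom f).isClosedMap
  let v₀ : V.left := v.left (default : Spec (CommRingCat.of Ω))
  have hfib : ∀ p : P.left, π p = v₀ → p ∈ O := by
    intro p hp
    obtain ⟨ξ, hξ⟩ := exists_lift_ptPair f V v p hp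
    have h0 : germ ξ.1 F P (ptPair f ξ V v) t' = 0 := (retr_germ f ξ F V v t).symm.trans (hb ξ)
    have h1 : germ ξ.1 F P (ptPair f ξ V v) t' = germ ξ.1 F P (ptPair f ξ V v) 0 := by
      rw [h0, map_zero]
    obtain ⟨W, g, w, hw, hg⟩ :=
      ((Scheme.pointSmallEtale ξ.1).toPresheafFiber_eq_iff' P (ptPair f ξ V v) t' 0).1 h1
    refine ⟨W, g, ⟨w.left (default : Spec (CommRingCat.of Ω)), ?_⟩, ?_⟩
    · rw [← hξ, ← hw]
      rfl
    · refine Eq.trans hg ?_
      exact map_zero _
  let C : Set V.left := π '' Oᶜ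
  have hC : IsClosed C := hπ _ hO.isClosed_compl
  have hv₀ : v₀ ∉ C := by
    rintro ⟨p, hp, hpv⟩
    exact hp (hfib p hpv)
  let Vo : V.left.Opens := ⟨Cᶜ, hC.isOpen_compl⟩
  obtain ⟨v', hv'⟩ := exists_fiber_openSub η V Vo v hv₀
  -- the restriction of `t` to the smaller neighbourhood vanishes
  have hzero : ((EtCoh.push f).obj F).obj.map (openSubι V Vo).op t = 0 := by
    let P' : X.Etale := (EtCoh.bc f).obj (openSub V Vo)
    let m : P' ⟶ P := (EtCoh.bc f).map (openSubι V Vo)
    change F.obj.map m.op t' = 0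
    refine Groth.Agent.Lib.Helper22.EtStalk.eq_zero_of_germs _ ?_
    intro Ω' _ _ ζ x
    rw [germ_map]
    let x₁ : (Scheme.pointSmallEtale ζ).fiber.obj P := (Scheme.pointSmallEtale ζ).fiber.map m x
    let p : P.left := x₁.left (default : Spec (CommRingCat.of Ω'))
    have hpO : p ∈ O := by
      by_contra hcon
      have hmem : π p ∈ C := ⟨p, hcon, rfl⟩
      -- but `π p` lies in `Vo`
      have h1 : (m.left : P'.left ⟶ P.left) ≫ π =
          (pullback.fst (openSub V Vo).hom f : P'.left ⟶ (openSub V Vo).left) ≫ Vo.ι :=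
        ClosedStalk.bc_map_left_fst f (openSubι V Vo)
      let xl : Spec (CommRingCat.of Ω') ⟶ P'.left := x.left
      have h2 : π p = ((xl ≫ (m.left : P'.left ⟶ P.left)) ≫ π) default := rfl
      rw [Category.assoc, h1] at h2
      have h3 : π p ∈ (Vo : Set V.left) := by
        rw [h2]
        exact ((xl ≫ pullback.fst (openSub V Vo).hom f) default).2
      exact h3 hmem
    obtain ⟨W, g, ⟨w₀, hw₀⟩, hg⟩ := hpO
    obtain ⟨w, hw⟩ := exists_fiber_lift ζ g x₁ w₀ hw₀
    change germ ζ F P x₁ t' = 0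
    rw [← hw, ← germ_map, hg, map_zero]
  have e := germ_map η ((EtCoh.push f).obj F) (openSubι V Vo) v' t
  rw [hv'] at e
  refine Eq.trans e.symm ?_
  rw [hzero, map_zero]

end Inj

end

end Groth.Agent.Lib.Helper22.EtStalk.FinitePush
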