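import Groth.Agent.Lib.Helper22.EtStalk.FiniteTrace
import Groth.Agent.Lib.Helper6.EtLocInsepMain
import Groth.Agent.Lib.Helper14.EtaleLQF

set_option autoImplicit false
set_option linter.unusedSectionVars false
set_option linter.unusedVariables false
set_option linter.style.haveILetI false
universe u
open CategoryTheory CategoryTheory.Limits AlgebraicGeometry Opposite

namespace Groth.Agent.Lib.Helper22.EtStalk.FinitePush

open Groth.Agent.Lib.Helper22.CechU.Etale Groth.Agent.Lib.Helper22.EtStalk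
  Groth.Agent.Lib.Helper22.EtStalk.PushRetr Groth.Agent.Lib.Helper22.EtStalk.Trace

noncomputable section

set_option backward.isDefEq.respectTransparency.types false in
/-- Two `Ω`-points centred at a point with purely inseparable residue field extension which agree
after composition with `π` are equal. -/
lemma eq_of_comp_eq_of_isPurelyInseparable {Z V : Scheme.{u}} (π : Z ⟶ V) (z : Z)
    (hpi : letI := (π.residueFieldMap z).hom.toAlgebra
      IsPurelyInseparable ↑(V.residueField (π z)) ↑(Z.residueField z))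
    {Ω : Type u} [Field Ω] (u₁ u₂ : Spec (CommRingCat.of Ω) ⟶ Z)
    (h₁ : u₁ (default : Spec (CommRingCat.of Ω)) = z)
    (h₂ : u₂ (default : Spec (CommRingCat.of Ω)) = z)
    (hc : u₁ ≫ π = u₂ ≫ π) : u₁ = u₂ := by
  have hd : (default : Spec (CommRingCat.of Ω)) = IsLocalRing.closedPoint Ω :=
    Subsingleton.elim _ _
  rw [hd] at h₁ h₂
  subst h₁
  apply (Scheme.SpecToEquivOfField Ω Z).injective
  rw [Scheme.SpecToEquivOfField_eq_iff]
  refine ⟨h₂.symm, ?_⟩
  have hc' := congrArg (Scheme.SpecToEquivOfField Ω V) hc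
  rw [Scheme.SpecToEquivOfField_eq_iff] at hc'
  obtain ⟨e', he'⟩ := hc'
  simp only [Scheme.SpecToEquivOfField_apply_snd] at he' ⊢
  have k₁ := Scheme.descResidueField_stalkClosedPointTo_comp (f := π) u₁
  have k₂ := Scheme.descResidueField_stalkClosedPointTo_comp (f := π) u₂
  have h3 := Scheme.Hom.residueFieldMap_congr'_assoc (f := π) h₂.symm
    (Scheme.descResidueField (Scheme.stalkClosedPointTo u₂))
  have h5 : π.residueFieldMap (u₁ (IsLocalRing.closedPoint Ω)) ≫
        Scheme.descResidueField (Scheme.stalkClosedPointTo u₁) =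
      π.residueFieldMap (u₁ (IsLocalRing.closedPoint Ω)) ≫
        (Z.residueFieldCongr h₂.symm).hom ≫
          Scheme.descResidueField (Scheme.stalkClosedPointTo u₂) := by
    refine k₁.symm.trans (he'.trans ?_)
    rw [h3]
    exact congrArg _ k₂
  letI := (π.residueFieldMap (u₁ (IsLocalRing.closedPoint Ω))).hom.toAlgebra
  have hinj := IsPurelyInseparable.injective_comp_algebraMap
    (V.residueField (π (u₁ (IsLocalRing.closedPoint Ω))))
    (Z.residueField (u₁ (IsLocalRing.closedPoint Ω))) Ω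
  apply CommRingCat.hom_ext
  apply hinj
  exact congrArg CommRingCat.Hom.hom h5



section Surj

variable {X Y : Scheme.{u}} (f : X ⟶ Y) [IsFinite f]
  {Ω : Type u} [Field Ω] [IsSepClosed Ω] {η : Spec (CommRingCat.of Ω) ⟶ Y}

set_option backward.isDefEq.respectTransparency.types false in
theorem exists_retr_eq (F : EtCoh.Ab X) (ξ : Lifts f η) (a : (EtCoh.stalk ξ.1).obj F) :
    ∃ b : (EtCoh.stalk η).obj ((EtCoh.push f).obj F), retr f ξ F b = a ∧
      ∀ ξ' : Lifts f η, ξ' ≠ ξ → retr f ξ' F b = 0 := by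
  obtain ⟨W, w, s, rfl⟩ := (Scheme.pointSmallEtale ξ.1).toPresheafFiber_jointly_surjective a
  let wl : Spec (CommRingCat.of Ω) ⟶ W.left := w.left
  have hwl : wl ≫ W.hom = ξ.1 := Over.w w
  have hWet : Etale (W.hom : W.left ⟶ X) := W.prop
  let hW : W.left ⟶ Y := W.hom ≫ f
  have hlqfW : LocallyQuasiFinite (W.hom : W.left ⟶ X) :=
    Groth.Agent.Lib.Helper14.AS.etale_locallyQuasiFinite _
  have hlqf : LocallyQuasiFinite hW := inferInstanceAs (LocallyQuasiFinite (W.hom ≫ f))
  have hlft : LocallyOfFiniteType hW := inferInstanceAs (LocallyOfFiniteType (W.hom ≫ f))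
  let x₀ : W.left := wl default
  let y₀ : Y := η default
  have hwη : wl ≫ hW = η := by
    change wl ≫ W.hom ≫ f = η
    rw [← Category.assoc, hwl]
    exact ξ.2
  have hx₀ : hW x₀ = y₀ := by
    change (wl ≫ hW) default = η default
    rw [hwη]
  obtain ⟨V₀, g₀, v₀, hg₀et, hg₀v₀, J, hJ, T, tpt, hT, hdist, hall, -⟩ :=
    Groth.Agent.Lib.Helper6.EtLoc.exists_etale_nbhd_insep_family hW y₀ (ι := Unit)
      (fun _ => x₀) (fun _ _ _ => rfl) (fun _ => hx₀) (fun _ => hW.quasiFiniteAt x₀)
  -- the étale neighbourhood of `η`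
  let V : Y.Etale := MorphismProperty.Over.mk ⊤ g₀ hg₀et
  have hηy : η (default : Spec (CommRingCat.of Ω)) = y₀ := rfl
  obtain ⟨v, hv⟩ := Scheme.pointSmallEtaleFiberObjToPreimage_surjective η hηy V ⟨v₀, hg₀v₀⟩
  let vl : Spec (CommRingCat.of Ω) ⟶ V₀ := v.left
  have hvl : vl ≫ g₀ = η := Over.w v
  have hvl₀ : vl default = v₀ := congrArg Subtype.val hv
  -- the geometric point `(w, v)` of `W ×_Y V₀`
  let Z : Scheme.{u} := pullback hW g₀
  let q : Spec (CommRingCat.of Ω) ⟶ Z := pullback.lift wl vl (hwη.trans hvl.symm)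
  have hq1 : q ≫ pullback.fst hW g₀ = wl := pullback.lift_fst _ _ _
  have hq2 : q ≫ pullback.snd hW g₀ = vl := pullback.lift_snd _ _ _
  let q₀ : Z := q default
  have hq₀1 : pullback.fst hW g₀ q₀ = x₀ := by
    change (q ≫ pullback.fst hW g₀) default = _
    rw [hq1]
  have hq₀2 : pullback.snd hW g₀ q₀ = v₀ := by
    change (q ≫ pullback.snd hW g₀) default = _
    rw [hq2]
    exact hvl₀
  obtain ⟨j, hj⟩ := hall q₀ () hq₀2 hq₀1
  obtain ⟨hmem, hTfin, htv, huniq, ⟨-, hpi⟩, -⟩ := hT () j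
  let T₀ : Z.Opens := T () j
  have hqr : Set.range q ⊆ Set.range T₀.ι := by
    rw [Scheme.Opens.range_ι]
    rintro _ ⟨z, rfl⟩
    rw [Subsingleton.elim z default]
    change q₀ ∈ T () j
    rw [hj]
    exact hmem
  let q' : Spec (CommRingCat.of Ω) ⟶ (T₀ : Scheme.{u}) := IsOpenImmersion.lift T₀.ι q hqr
  have hq' : q' ≫ T₀.ι = q := IsOpenImmersion.lift_fac _ _ _
  -- objects of the small étale site of `X`
  let P : X.Etale := (EtCoh.bc f).obj V
  let Thom : (T₀ : Scheme.{u}) ⟶ X := T₀.ι ≫ pullback.fst hW g₀ ≫ W.hom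
  have hThom : Etale Thom := inferInstanceAs (Etale (T₀.ι ≫ pullback.fst hW g₀ ≫ W.hom))
  let Tet : X.Etale := MorphismProperty.Over.mk ⊤ Thom hThom
  let hl₀ : Z ⟶ pullback g₀ f := pullback.lift (pullback.snd hW g₀) (pullback.fst hW g₀ ≫ W.hom) (by
    rw [Category.assoc]
    exact pullback.condition.symm)
  have hl₀1 : hl₀ ≫ pullback.fst g₀ f = pullback.snd hW g₀ := pullback.lift_fst _ _ _
  have hl₀2 : hl₀ ≫ pullback.snd g₀ f = pullback.fst hW g₀ ≫ W.hom := pullback.lift_snd _ _ _
  let hl : (T₀ : Scheme.{u}) ⟶ pullback g₀ f := T₀.ι ≫ hl₀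
  have hhl : hl ≫ pullback.snd g₀ f = Thom := by
    change (T₀.ι ≫ hl₀) ≫ pullback.snd g₀ f = _
    rw [Category.assoc, hl₀2]
  let h : Tet ⟶ P := MorphismProperty.Over.homMk hl hhl trivial
  have e1 : hl ≫ pullback.fst g₀ f = T₀.ι ≫ pullback.snd hW g₀ := by
    change (T₀.ι ≫ hl₀) ≫ pullback.fst g₀ f = _
    rw [Category.assoc, hl₀1]
  have hfin : IsFinite (h.left : Tet.left ⟶ P.left) := by
    have : IsFinite (hl ≫ pullback.fst g₀ f) := by
      rw [e1]
      exact hTfin
    exact IsFinite.of_comp hl (pullback.fst g₀ f)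
  let k : Tet ⟶ W := MorphismProperty.Over.homMk (T₀.ι ≫ pullback.fst hW g₀)
    (Category.assoc _ _ _) trivial
  let sT : F.obj.obj (op Tet) := F.obj.map k.op s
  obtain ⟨t, ht⟩ := exists_trace F h hfin sT
  -- the key uniqueness of geometric points of `T₀` over `v`
  have hU : ∀ (ξ' : Lifts f η) (u : (Scheme.pointSmallEtale ξ'.1).fiber.obj Tet),
      (Scheme.pointSmallEtale ξ'.1).fiber.map h u = ptPair f ξ' V v →
        (u.left : Spec (CommRingCat.of Ω) ⟶ (T₀ : Scheme.{u})) = q' := by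
    intro ξ' u hu
    let ul : Spec (CommRingCat.of Ω) ⟶ (T₀ : Scheme.{u}) := u.left
    have hu1 : ul ≫ hl = ptPairL f ξ' V v := congrArg (fun t => t.left) hu
    have hu2 : (ul ≫ T₀.ι) ≫ pullback.snd hW g₀ = vl := by
      rw [Category.assoc, ← e1, ← Category.assoc, hu1]
      exact ptPairL_fst f ξ' V v
    have hu3 : (ul ≫ T₀.ι) default = tpt () j := by
      apply huniq
      · exact (ul default).2
      · change ((ul ≫ T₀.ι) ≫ pullback.snd hW g₀) default = v₀
        rw [hu2]
        exact hvl₀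
    have hu4 : ul ≫ T₀.ι = q :=
      eq_of_comp_eq_of_isPurelyInseparable (pullback.snd hW g₀) (tpt () j) hpi _ _ hu3 hj
        (hu2.trans hq2.symm)
    change ul = q'
    exact (cancel_mono T₀.ι).1 (hu4.trans hq'.symm)
  have hq'Thom : q' ≫ Thom = ξ.1 := by
    change q' ≫ T₀.ι ≫ pullback.fst hW g₀ ≫ W.hom = ξ.1
    rw [← Category.assoc, hq', ← Category.assoc, hq1, hwl]
  refine ⟨germ η ((EtCoh.push f).obj F) V v t, ?_, ?_⟩
  · -- the germ at `ξ`
    refine (retr_germ f ξ F V v t).trans ((ht Ω ξ.1 (ptPair f ξ V v)).trans ?_)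
    let qT : (Scheme.pointSmallEtale ξ.1).fiber.obj Tet := Over.homMk q' hq'Thom
    have hqT : (Scheme.pointSmallEtale ξ.1).fiber.map h qT = ptPair f ξ V v := by
      apply Over.OverMorphism.ext
      change q' ≫ hl = ptPairL f ξ V v
      apply pullback.hom_ext
      · rw [Category.assoc, e1, ← Category.assoc, hq', hq2]
        exact (ptPairL_fst f ξ V v).symm
      · rw [Category.assoc, hhl, hq'Thom]
        exact (ptPairL_snd f ξ V v).symm
    letI : Unique {u : (Scheme.pointSmallEtale ξ.1).fiber.obj Tet //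
        (Scheme.pointSmallEtale ξ.1).fiber.map h u = ptPair f ξ V v} :=
      { default := ⟨qT, hqT⟩
        uniq := fun u => Subtype.ext (Over.OverMorphism.ext (hU ξ u.1 u.2)) }
    unfold traceGerms
    rw [finsum_unique]
    change germ ξ.1 F Tet qT (F.obj.map k.op s) = _
    have hkq : (Scheme.pointSmallEtale ξ.1).fiber.map k qT = w := by
      apply Over.OverMorphism.ext
      change q' ≫ T₀.ι ≫ pullback.fst hW g₀ = wl
      rw [← Category.assoc, hq', hq1]
    rw [germ_map, hkq]
    rfl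
  · intro ξ' hne
    refine (retr_germ f ξ' F V v t).trans ((ht Ω ξ'.1 (ptPair f ξ' V v)).trans ?_)
    haveI : IsEmpty {u : (Scheme.pointSmallEtale ξ'.1).fiber.obj Tet //
        (Scheme.pointSmallEtale ξ'.1).fiber.map h u = ptPair f ξ' V v} := by
      constructor
      rintro ⟨u, hu⟩
      apply hne
      apply Subtype.ext
      let ul : Spec (CommRingCat.of Ω) ⟶ (T₀ : Scheme.{u}) := u.left
      have h1 : ul ≫ Thom = ξ'.1 := Over.w u
      have h2 : ul = q' := hU ξ' u hu
      rw [← h1, h2, hq'Thom]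
    unfold traceGerms
    exact finsum_of_isEmpty _

end Surj

end

end Groth.Agent.Lib.Helper22.EtStalk.FinitePush
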