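import Groth.Agent.Lib.Helper22.EtStalk.GlueGermsOn
import Groth.Agent.Lib.Helper22.EtStalk.FinitePushInj
import Groth.Agent.Lib.Helper26.FiniteEtaleSplitScheme

/-!
# The trace of a section along a finite étale morphism of étale schemes (helper22)
-/

set_option autoImplicit false
set_option linter.unusedSectionVars false
set_option linter.unusedVariables false
universe u
open CategoryTheory CategoryTheory.Limits AlgebraicGeometry Opposite

namespace Groth.Agent.Lib.Helper22.EtStalk.Trace

open Groth.Agent.Lib.Helper22.CechU.Etale Groth.Agent.Lib.Helper22.EtStalk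
  Groth.Agent.Lib.Helper22.EtStalk.GlueOn

noncomputable section

variable {X : Scheme.{u}} (F : EtCoh.Ab X) {P T : X.Etale} (h : T ⟶ P)

/-- The prescribed germs of the trace of `s`: the sum of the germs of `s` over the points of the
fibre. -/
def traceGerms (s : F.obj.obj (op T)) : GermFamilyOn F P := fun Ω _ _ ξ p =>
  ∑ᶠ u : {u : (Scheme.pointSmallEtale ξ).fiber.obj T //
      (Scheme.pointSmallEtale ξ).fiber.map h u = p}, germ ξ F T u.1 s

lemma fiber_map_comp_apply {Ω : Type u} [Field Ω] [IsSepClosed Ω] (ξ : Spec (CommRingCat.of Ω) ⟶ X)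
    {A B C : X.Etale} (a : A ⟶ B) (b : B ⟶ C) (x : (Scheme.pointSmallEtale ξ).fiber.obj A) :
    (Scheme.pointSmallEtale ξ).fiber.map (a ≫ b) x =
      (Scheme.pointSmallEtale ξ).fiber.map b ((Scheme.pointSmallEtale ξ).fiber.map a x) := by
  rw [Functor.map_comp]
  rfl

/-- A complete family of sections of `h` over `g : W ⟶ P` computes the trace germs. -/
lemma hasGermsOn_sum (s : F.obj.obj (op T)) {W : X.Etale} (g : W ⟶ P) {n : ℕ}
    (σ : Fin n → (W ⟶ T)) (hσ : ∀ j, σ j ≫ h = g)
    (hinj : ∀ (Ω : Type u) [Field Ω] [IsSepClosed Ω] (ξ : Spec (CommRingCat.of Ω) ⟶ X)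
      (x : (Scheme.pointSmallEtale ξ).fiber.obj W) (j j' : Fin n),
      (Scheme.pointSmallEtale ξ).fiber.map (σ j) x = (Scheme.pointSmallEtale ξ).fiber.map (σ j') x →
        j = j')
    (hsurj : ∀ (Ω : Type u) [Field Ω] [IsSepClosed Ω] (ξ : Spec (CommRingCat.of Ω) ⟶ X)
      (x : (Scheme.pointSmallEtale ξ).fiber.obj W) (u : (Scheme.pointSmallEtale ξ).fiber.obj T),
      (Scheme.pointSmallEtale ξ).fiber.map h u = (Scheme.pointSmallEtale ξ).fiber.map g x →
        ∃ j, (Scheme.pointSmallEtale ξ).fiber.map (σ j) x = u) :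
    HasGermsOn F P (traceGerms F h s) g (∑ j, F.obj.map (σ j).op s) := by
  intro Ω _ _ ξ x
  have hmem : ∀ j, (Scheme.pointSmallEtale ξ).fiber.map h
      ((Scheme.pointSmallEtale ξ).fiber.map (σ j) x) = (Scheme.pointSmallEtale ξ).fiber.map g x := by
    intro j
    rw [← fiber_map_comp_apply, hσ j]
  let e : Fin n → {u : (Scheme.pointSmallEtale ξ).fiber.obj T //
      (Scheme.pointSmallEtale ξ).fiber.map h u = (Scheme.pointSmallEtale ξ).fiber.map g x} :=
    fun j => ⟨(Scheme.pointSmallEtale ξ).fiber.map (σ j) x, hmem j⟩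
  have he : Function.Bijective e := by
    constructor
    · intro j j' hjj
      exact hinj Ω ξ x j j' (congrArg Subtype.val hjj)
    · rintro ⟨u, hu⟩
      obtain ⟨j, hj⟩ := hsurj Ω ξ x u hu
      exact ⟨j, Subtype.ext hj⟩
  rw [map_sum]
  unfold traceGerms
  rw [← finsum_eq_of_bijective e he (f := fun j => germ ξ F W x (F.obj.map (σ j).op s))
    (fun j => germ_map ξ F (σ j) x s), finsum_eq_sum_of_fintype]

set_option backward.isDefEq.respectTransparency.types false in
/-- A finite étale morphism of étale schemes has, étale locally on the target, a complete family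
of sections. -/
theorem exists_split (hfin : IsFinite (h.left : T.left ⟶ P.left)) (y : P.left) :
    ∃ (W : X.Etale) (g : W ⟶ P) (n : ℕ) (σ : Fin n → (W ⟶ T)), y ∈ Set.range g.left ∧
      (∀ j, σ j ≫ h = g) ∧
      (∀ (Ω : Type u) [Field Ω] [IsSepClosed Ω] (ξ : Spec (CommRingCat.of Ω) ⟶ X)
        (x : (Scheme.pointSmallEtale ξ).fiber.obj W) (j j' : Fin n),
        (Scheme.pointSmallEtale ξ).fiber.map (σ j) x =
          (Scheme.pointSmallEtale ξ).fiber.map (σ j') x → j = j') ∧
      (∀ (Ω : Type u) [Field Ω] [IsSepClosed Ω] (ξ : Spec (CommRingCat.of Ω) ⟶ X)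
        (x : (Scheme.pointSmallEtale ξ).fiber.obj W) (u : (Scheme.pointSmallEtale ξ).fiber.obj T),
        (Scheme.pointSmallEtale ξ).fiber.map h u = (Scheme.pointSmallEtale ξ).fiber.map g x →
          ∃ j, (Scheme.pointSmallEtale ξ).fiber.map (σ j) x = u) := by
  let hl : T.left ⟶ P.left := h.left
  have hw : hl ≫ P.hom = T.hom := Over.w h.hom
  have het : Etale hl := FinitePush.etale_left h
  have hfin' : IsFinite hl := hfin
  obtain ⟨U, g', hg', u₀, hu₀, n, V, c, hc, e, he⟩ :=
    Groth.Agent.Lib.Helper26.splitsEtaleLocally hl y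
  have hP : Etale (P.hom : P.left ⟶ X) := P.prop
  let W : X.Etale := MorphismProperty.Over.mk ⊤ (g' ≫ (P.hom : P.left ⟶ X))
    (inferInstance : Etale (g' ≫ (P.hom : P.left ⟶ X)))
  let g : W ⟶ P := MorphismProperty.Over.homMk g' rfl trivial
  have hcj : ∀ j, IsIso (c j) := hc
  let sl : Fin n → (U ⟶ T.left) := fun j =>
    inv (c j) ≫ Sigma.ι V j ≫ e.hom ≫ pullback.fst hl g'
  have hsl : ∀ j, sl j ≫ hl = g' := by
    intro j
    change (inv (c j) ≫ Sigma.ι V j ≫ e.hom ≫ pullback.fst hl g') ≫ hl = g'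
    have he2 : Sigma.ι V j ≫ e.hom ≫ pullback.snd hl g' ≫ g' = c j ≫ g' := by
      rw [← he j]
      simp only [Category.assoc]
    rw [Category.assoc, Category.assoc, Category.assoc, pullback.condition, he2,
      IsIso.inv_hom_id_assoc]
  let σ : Fin n → (W ⟶ T) := fun j => MorphismProperty.Over.homMk (sl j) (by
    change sl j ≫ T.hom = g' ≫ P.hom
    rw [← hw, ← Category.assoc, hsl j]) trivial
  have hσl : ∀ j, (σ j).left = sl j := fun j => rfl
  -- the point of the pullback attached to `j` and a geometric point `x`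
  have key : ∀ (Ω : Type u) [Field Ω] (xl : Spec (CommRingCat.of Ω) ⟶ U) (j : Fin n),
      (xl ≫ inv (c j) ≫ Sigma.ι V j ≫ e.hom) ≫ pullback.snd hl g' = xl := by
    intro Ω _ xl j
    rw [Category.assoc, Category.assoc, Category.assoc, he j, IsIso.inv_hom_id, Category.comp_id]
  refine ⟨W, g, n, σ, ⟨u₀, hu₀⟩, ?_, ?_, ?_⟩
  · intro j
    apply MorphismProperty.Over.Hom.ext
    exact hsl j
  · intro Ω _ _ ξ x j j' hjj
    let xl : Spec (CommRingCat.of Ω) ⟶ U := x.left
    have h1 : xl ≫ sl j = xl ≫ sl j' := congrArg (fun t => t.left) hjj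
    have h2 : xl ≫ inv (c j) ≫ Sigma.ι V j ≫ e.hom = xl ≫ inv (c j') ≫ Sigma.ι V j' ≫ e.hom := by
      apply pullback.hom_ext
      · simpa only [Category.assoc, sl] using h1
      · rw [key Ω xl j, key Ω xl j']
    have h3 : (xl ≫ inv (c j)) ≫ Sigma.ι V j = (xl ≫ inv (c j')) ≫ Sigma.ι V j' := by
      rw [← cancel_mono e.hom]
      simpa only [Category.assoc] using h2
    have h4 := congrArg (fun t : Spec (CommRingCat.of Ω) ⟶ ∐ V =>
      t (default : Spec (CommRingCat.of Ω))) h3
    simp only [Scheme.Hom.comp_apply] at h4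
    have h5 := (sigmaι_eq_iff V j j' _ _).1 h4
    exact congrArg Sigma.fst h5
  · intro Ω _ _ ξ x u hu
    let xl : Spec (CommRingCat.of Ω) ⟶ U := x.left
    let ul : Spec (CommRingCat.of Ω) ⟶ T.left := u.left
    have h1 : ul ≫ hl = xl ≫ g' := congrArg (fun t => t.left) hu
    let q : Spec (CommRingCat.of Ω) ⟶ pullback hl g' := pullback.lift ul xl h1
    let q' : Spec (CommRingCat.of Ω) ⟶ ∐ V := q ≫ e.inv
    obtain ⟨j, a, ha⟩ := (sigmaOpenCover V).exists_eq (q' (default : Spec (CommRingCat.of Ω)))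
    have hr : Set.range q' ⊆ Set.range (Sigma.ι V j) := by
      rintro _ ⟨z, rfl⟩
      rw [Subsingleton.elim z default]
      exact ⟨a, ha⟩
    let yj : Spec (CommRingCat.of Ω) ⟶ V j := IsOpenImmersion.lift (Sigma.ι V j) q' hr
    have hyj : yj ≫ Sigma.ι V j = q' := IsOpenImmersion.lift_fac _ _ _
    have hq'e : q' ≫ e.hom = q := by
      change (q ≫ e.inv) ≫ e.hom = q
      rw [Category.assoc, e.inv_hom_id, Category.comp_id]
    have h2 : yj ≫ c j = xl := by
      rw [← he j, ← Category.assoc, hyj, ← Category.assoc, hq'e]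
      exact pullback.lift_snd _ _ _
    have h3 : yj = xl ≫ inv (c j) := by
      rw [← h2, Category.assoc, IsIso.hom_inv_id, Category.comp_id]
    refine ⟨j, ?_⟩
    apply Over.OverMorphism.ext
    change xl ≫ sl j = ul
    have h4 : ul = q ≫ pullback.fst hl g' := (pullback.lift_fst _ _ _).symm
    rw [h4, ← hq'e, ← hyj, h3]
    simp only [Category.assoc, sl]

/-- **Trace.** For a finite morphism `h : T ⟶ P` of étale `X`-schemes and a section `s` over `T`,
there is a section over `P` whose germ at every geometric point is the sum of the germs of `s`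
over the points of the fibre. -/
theorem exists_trace (hfin : IsFinite (h.left : T.left ⟶ P.left)) (s : F.obj.obj (op T)) :
    ∃ t : F.obj.obj (op P), ∀ (Ω : Type u) [Field Ω] [IsSepClosed Ω]
      (ξ : Spec (CommRingCat.of Ω) ⟶ X) (p : (Scheme.pointSmallEtale ξ).fiber.obj P),
      germ ξ F P p t = traceGerms F h s Ω ξ p := by
  apply exists_section_of_germsOn
  intro y
  obtain ⟨W, g, n, σ, hy, hσ, hinj, hsurj⟩ := exists_split h hfin y
  exact ⟨W, g, hy, _, hasGermsOn_sum F h s g σ hσ hinj hsurj⟩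

end

end Groth.Agent.Lib.Helper22.EtStalk.Trace
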