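import Groth.Agent.Lib.Helper22.EtLoc.SectionPoint
import Mathlib.RingTheory.Etale.Field
import Mathlib.AlgebraicGeometry.Morphisms.FlatRank
import Mathlib.FieldTheory.IsSepClosed

set_option autoImplicit false
set_option linter.unusedSectionVars false
universe u
open CategoryTheory CategoryTheory.Limits AlgebraicGeometry Opposite

namespace Groth.Agent.Lib.Helper22.EtStalk.GeomFibre

section Algebra

variable (K : Type u) [Field K] [IsSepClosed K] (A : Type u) [CommRing A] [Algebra K A]
  [Algebra.Etale K A]

/-- An étale algebra over a separably closed field has as many primes as its dimension. -/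
theorem card_primeSpectrum_eq_finrank : Nat.card (PrimeSpectrum A) = Module.finrank K A := by
  obtain ⟨I, _, Ai, _, _, e, H⟩ := (Algebra.Etale.iff_exists_algEquiv_prod (K := K) (A := A)).1 inferInstance
  have : Fintype I := Fintype.ofFinite I
  have h1 : ∀ i, Module.finrank K (Ai i) = 1 := by
    intro i
    have := (H i).2
    have hb := IsSepClosed.algebraMap_bijective (k := K) (K := Ai i)
    have e' : K ≃ₗ[K] Ai i := (AlgEquiv.ofBijective (Algebra.ofId K (Ai i)) hb).toLinearEquiv
    rw [← e'.finrank_eq, Module.finrank_self]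
  have h2 : Module.finrank K A = Fintype.card I := by
    have : ∀ i, Module.Finite K (Ai i) := fun i => (H i).1
    rw [e.toLinearEquiv.finrank_eq, Module.finrank_pi_fintype]
    simp [h1]
  rw [h2]
  have h3 : Nat.card (PrimeSpectrum A) = Nat.card (PrimeSpectrum (Π i, Ai i)) :=
    Nat.card_congr (PrimeSpectrum.comapEquiv e.toRingEquiv).toEquiv
  rw [h3, ← Nat.card_congr (Equiv.ofBijective _ (PrimeSpectrum.sigmaToPi_bijective Ai))]
  have h4 : ∀ i, Nat.card (PrimeSpectrum (Ai i)) = 1 := fun i => Nat.card_unique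
  rw [Nat.card_sigma]
  simp

end Algebra

section Scheme

variable {Ω : Type u} [Field Ω] [IsSepClosed Ω] {P : Scheme.{u}}
  (q : P ⟶ Spec (CommRingCat.of Ω)) [IsFinite q] [Etale q]

set_option backward.isDefEq.respectTransparency.types false in
/-- A finite étale scheme over a separably closed field has as many points as its degree. -/
theorem card_eq_finrank (pt : Spec (CommRingCat.of Ω)) : Nat.card P = q.finrank pt := by
  have : IsAffine P := isAffine_of_isAffineHom q
  let φ : CommRingCat.of Ω ⟶ Γ(P, ⊤) := (Scheme.ΓSpecIso (CommRingCat.of Ω)).inv ≫ q.appTop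
  have hq : q = P.isoSpec.hom ≫ Spec.map φ := by
    have h1 := Scheme.toSpecΓ_naturality q
    rw [← cancel_mono (Spec.map (Scheme.ΓSpecIso (CommRingCat.of Ω)).hom)]
    simp only [φ, Spec.map_comp, Category.assoc]
    rw [← Spec.map_comp, Iso.hom_inv_id, Spec.map_id, Category.comp_id]
    rw [SpecMap_ΓSpecIso_hom]
    exact h1
  have hiso : IsIso P.isoSpec.hom := inferInstance
  have hSq : Spec.map φ = P.isoSpec.inv ≫ q := by rw [hq, Iso.inv_hom_id_assoc]
  have hE : Etale (Spec.map φ) := by rw [hSq]; infer_instance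
  have hF : IsFinite (Spec.map φ) := by rw [hSq]; infer_instance
  have hE' : φ.hom.Etale := (HasRingHomProperty.Spec_iff (P := @Etale)).1 hE
  have hF' : φ.hom.Finite := (IsFinite.SpecMap_iff φ).1 hF
  have hFl' : φ.hom.Flat := by
    let _ := φ.hom.toAlgebra
    exact (inferInstance : Module.Flat Ω Γ(P, ⊤))
  -- the rank
  have h1 : q.finrank pt = (Spec.map φ).finrank pt := by
    rw [hq, Scheme.Hom.finrank_comp_left_of_isIso]
  rw [h1, Scheme.Hom.finrank_SpecMap_eq_finrank hF' hFl']
  algebraize [φ.hom]
  have hEt : Algebra.Etale Ω Γ(P, ⊤) := hE'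
  have h2 : φ.hom.finrank pt = Module.finrank Ω Γ(P, ⊤) := by
    rw [← RingHom.algebraMap_toAlgebra φ.hom, RingHom.finrank_algebraMap,
      Module.rankAtStalk_eq_finrank_of_free]
    rfl
  rw [h2, ← card_primeSpectrum_eq_finrank Ω Γ(P, ⊤)]
  exact Nat.card_congr P.isoSpec.hom.homeomorph.toEquiv

end Scheme

section Lifts

open Groth.Agent.Lib.Helper22.EtStalk Groth.Agent.Lib.Helper22.EtLoc

variable {X' X : Scheme.{u}} (π : X' ⟶ X) [IsFinite π] [Etale π] [Flat π]
  {Ω : Type u} [Field Ω] [IsSepClosed Ω] (ξ : Spec (CommRingCat.of Ω) ⟶ X)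

/-- The number of lifts of a geometric point along a finite étale morphism is the degree. -/
theorem card_lifts_eq_finrank :
    Nat.card (Lifts π ξ) = π.finrank (ξ (default : Spec (CommRingCat.of Ω))) := by
  rw [card_lifts_eq_card_fibre π ξ, card_eq_finrank (pullback.snd π ξ) default,
    Scheme.Hom.finrank_pullback_snd]

end Lifts

end Groth.Agent.Lib.Helper22.EtStalk.GeomFibre
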