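import Groth.Agent.Lib.Helper22.EtStalk.GlueGerms

/-!
# Gluing sections over an étale scheme with prescribed germs (helper22)
-/

set_option autoImplicit false
set_option linter.unusedSectionVars false
universe u
open CategoryTheory CategoryTheory.Limits AlgebraicGeometry Opposite

namespace Groth.Agent.Lib.Helper22.EtStalk.GlueOn

open Groth.Agent.Lib.Helper22.CechU.Etale Groth.Agent.Lib.Helper22.EtStalk

noncomputable section

variable {X : Scheme.{u}}

/-- A family of prescribed germs at all geometric points of an étale `X`-scheme `P`. -/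
abbrev GermFamilyOn (F : EtCoh.Ab X) (P : X.Etale) : Type (u + 1) :=
  ∀ (Ω : Type u) [Field Ω] [IsSepClosed Ω] (ξ : Spec (CommRingCat.of Ω) ⟶ X)
    (_ : (Scheme.pointSmallEtale ξ).fiber.obj P), (EtCoh.stalk ξ).obj F

/-- The section `s` over `g : W ⟶ P` has the prescribed germs. -/
def HasGermsOn (F : EtCoh.Ab X) (P : X.Etale) (γ : GermFamilyOn F P) {W : X.Etale} (g : W ⟶ P)
    (s : F.obj.obj (op W)) : Prop :=
  ∀ (Ω : Type u) [Field Ω] [IsSepClosed Ω] (ξ : Spec (CommRingCat.of Ω) ⟶ X)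
    (x : (Scheme.pointSmallEtale ξ).fiber.obj W),
    germ ξ F W x s = γ Ω ξ ((Scheme.pointSmallEtale ξ).fiber.map g x)

variable {F : EtCoh.Ab X} {P : X.Etale} {γ : GermFamilyOn F P}

lemma HasGermsOn.map {W W' : X.Etale} {g : W ⟶ P} (k : W' ⟶ W) {s : F.obj.obj (op W)}
    (hs : HasGermsOn F P γ g s) : HasGermsOn F P γ (k ≫ g) (F.obj.map k.op s) := by
  intro Ω _ _ ξ x
  rw [germ_map, hs Ω ξ _, Functor.map_comp]
  rfl

lemma HasGermsOn.unique {W : X.Etale} {g : W ⟶ P} {s s' : F.obj.obj (op W)}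
    (hs : HasGermsOn F P γ g s) (hs' : HasGermsOn F P γ g s') : s = s' := by
  rw [← sub_eq_zero]
  apply eq_zero_of_germs
  intro Ω _ _ ξ x
  rw [map_sub, hs Ω ξ x, hs' Ω ξ x, sub_self]

/-- Sections with prescribed germs which exist étale locally on `P` glue to a section over `P`. -/
theorem exists_section_of_germsOn
    (hloc : ∀ y : P.left, ∃ (W : X.Etale) (g : W ⟶ P), y ∈ Set.range g.left ∧
      ∃ s : F.obj.obj (op W), HasGermsOn F P γ g s) :
    ∃ t : F.obj.obj (op P), ∀ (Ω : Type u) [Field Ω] [IsSepClosed Ω]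
      (ξ : Spec (CommRingCat.of Ω) ⟶ X) (x : (Scheme.pointSmallEtale ξ).fiber.obj P),
      germ ξ F P x t = γ Ω ξ x := by
  let R : Sieve P :=
    { arrows := fun W g => ∃ s : F.obj.obj (op W), HasGermsOn F P γ g s
      downward_closed := by
        rintro W W' g ⟨s, hs⟩ k
        exact ⟨_, hs.map k⟩ }
  have hR : R ∈ X.smallEtaleTopology P := by
    rw [mem_smallEtaleTopology_iff]
    intro y
    obtain ⟨W, g, ⟨w, hw⟩, hs⟩ := hloc y
    exact ⟨W, g, w, hs, hw⟩
  have hsh := (isSheaf_forget F) R hR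
  let fam : Presieve.FamilyOfElements (F.obj ⋙ forget AddCommGrpCat.{u + 1}) R.arrows :=
    fun W g hg => hg.choose
  have hfam : ∀ (W : X.Etale) (g : W ⟶ P) (hg : R.arrows g),
      HasGermsOn F P γ g (fam g hg) := fun W g hg => hg.choose_spec
  have hcompat : fam.Compatible := by
    intro W₁ W₂ Z k₁ k₂ g₁ g₂ h₁ h₂ hk
    have a1 := (hfam W₁ g₁ h₁).map k₁
    have a2 := (hfam W₂ g₂ h₂).map k₂
    rw [hk] at a1
    exact a1.unique a2
  let t : F.obj.obj (op P) := hsh.amalgamate fam hcompat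
  have ht : ∀ (W : X.Etale) (g : W ⟶ P) (hg : R.arrows g),
      F.obj.map g.op t = fam g hg := fun W g hg => hsh.valid_glue hcompat g hg
  refine ⟨t, ?_⟩
  intro Ω _ _ ξ x
  obtain ⟨W, g, ⟨w, hw⟩, hs⟩ := hloc ((x.left : Spec (CommRingCat.of Ω) ⟶ P.left)
    (default : Spec (CommRingCat.of Ω)))
  obtain ⟨x', hx'⟩ := exists_fiber_lift ξ g x w hw
  have h1 : germ ξ F W x' (F.obj.map g.op t) = germ ξ F P x t := by
    rw [germ_map, hx']
  rw [← h1]
  have h2 : F.obj.map g.op t = fam g hs := ht W g hs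
  rw [h2, hfam W g hs Ω ξ x', hx']

end

end Groth.Agent.Lib.Helper22.EtStalk.GlueOn
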