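import Groth.Agent.Lib.Helper22.EtStalk.ExtZeroGerm
import Groth.Agent.Lib.Helper26.FiniteEtaleSplitScheme

/-!
# The norm section of `j_! ℤ_U` for a finite étale morphism `j`
-/

set_option autoImplicit false
set_option linter.unusedSectionVars false
universe u
open CategoryTheory CategoryTheory.Limits AlgebraicGeometry Opposite

namespace Groth.Agent.Lib.Helper22.EtStalk

noncomputable section

variable {U X : Scheme.{u}} (j : U ⟶ X) [Etale j]

section Split

variable {X' : Scheme.{u}} (g : X' ⟶ X) [Etale g] {n : ℕ} (V : Fin n → Scheme.{u})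
  (c : ∀ i, V i ⟶ X') (hc : ∀ i, IsIso (c i)) (e : (∐ V) ≅ pullback j g)
  (he : ∀ i, Sigma.ι V i ≫ e.hom ≫ pullback.snd j g = c i)

/-- The `i`-th sheet. -/
def sheet (i : Fin n) : X' ⟶ U :=
  haveI := hc i
  inv (c i) ≫ Sigma.ι V i ≫ e.hom ≫ pullback.fst j g

include he in
lemma sheet_comp (i : Fin n) : sheet j g V c hc e i ≫ j = g := by
  have := hc i
  unfold sheet
  simp only [Category.assoc]
  rw [pullback.condition, reassoc_of% (he i), IsIso.inv_hom_id_assoc]

/-- The `i`-th sheet as a morphism of the small étale site of `X`. -/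
def sheetHom (he : ∀ i, Sigma.ι V i ≫ e.hom ≫ pullback.snd j g = c i) (i : Fin n) :
    Scheme.Etale.mk g ⟶ jU j :=
  MorphismProperty.Over.homMk (sheet j g V c hc e i)
    (by
      change sheet j g V c hc e i ≫ (𝟙 U ≫ j) = g
      rw [Category.id_comp, sheet_comp j g V c hc e he]) trivial

set_option backward.isDefEq.respectTransparency.types false in
include he in
lemma isCompleteFamily_sheetHom : IsCompleteFamily (sheetHom j g V c hc e he) := by
  intro Ω _ _ ξ x
  have := hc
  let xl : Spec (CommRingCat.of Ω) ⟶ X' := x.left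
  have hx : xl ≫ g = ξ := Over.w x
  have hval : ∀ i, (liftOf (sheetHom j g V c hc e he i) x).1 = xl ≫ sheet j g V c hc e i := fun i => rfl
  -- the point of `V i` above `x`
  let p : ∀ i, Spec (CommRingCat.of Ω) ⟶ V i := fun i => xl ≫ inv (c i)
  have hp1 : ∀ i, (p i ≫ Sigma.ι V i ≫ e.hom) ≫ pullback.fst j g = xl ≫ sheet j g V c hc e i := by
    intro i
    simp only [p, sheet, Category.assoc]
  have hp2 : ∀ i, (p i ≫ Sigma.ι V i ≫ e.hom) ≫ pullback.snd j g = xl := by
    intro i
    simp only [p, Category.assoc]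
    rw [he i, IsIso.inv_hom_id, Category.comp_id]
  constructor
  · intro i k hik
    have h1 : xl ≫ sheet j g V c hc e i = xl ≫ sheet j g V c hc e k := by
      rw [← hval i, ← hval k]
      exact congrArg Subtype.val hik
    have h2 : p i ≫ Sigma.ι V i ≫ e.hom = p k ≫ Sigma.ι V k ≫ e.hom := by
      apply pullback.hom_ext
      · rw [hp1, hp1, h1]
      · rw [hp2, hp2]
    have h3 : p i ≫ Sigma.ι V i = p k ≫ Sigma.ι V k := by
      rw [← cancel_mono e.hom]
      simpa only [Category.assoc] using h2
    by_contra hne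
    have := isEmpty_of_commSq_sigmaι_of_ne ⟨h3⟩ hne
    exact this.false (default : Spec (CommRingCat.of Ω))
  · intro u
    have hu : u.1 ≫ j = xl ≫ g := by rw [u.2, hx]
    let q : Spec (CommRingCat.of Ω) ⟶ ∐ V := pullback.lift u.1 xl hu ≫ e.inv
    obtain ⟨i, y, hy⟩ := (sigmaOpenCover V).exists_eq (q (default : Spec (CommRingCat.of Ω)))
    have hrange : Set.range q ⊆ Set.range (Sigma.ι V i) := by
      rintro _ ⟨z, rfl⟩
      rw [Subsingleton.elim z (default : Spec (CommRingCat.of Ω))]
      exact ⟨y, hy⟩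
    let r : Spec (CommRingCat.of Ω) ⟶ V i := IsOpenImmersion.lift (Sigma.ι V i) q hrange
    have hr : r ≫ Sigma.ι V i = q := IsOpenImmersion.lift_fac _ _ _
    have hr2 : r ≫ Sigma.ι V i ≫ e.hom = pullback.lift u.1 xl hu := by
      rw [← Category.assoc, hr]
      simp only [q, Category.assoc, Iso.inv_hom_id, Category.comp_id]
    have hr3 : r = p i := by
      have h4 := congrArg (fun z => z ≫ pullback.snd j g) hr2
      simp only [Category.assoc, pullback.lift_snd] at h4
      rw [he i] at h4
      simp only [p]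
      rw [← h4, Category.assoc, IsIso.hom_inv_id, Category.comp_id]
    refine ⟨i, Subtype.ext ?_⟩
    rw [hval, ← hp1, ← hr3]
    have h5 := congrArg (fun z => z ≫ pullback.fst j g) hr2
    simpa only [Category.assoc, pullback.lift_fst] using h5

end Split

section Finite

variable [IsFinite j]

/-- A finite étale morphism admits, étale locally on the target, a complete family of sections. -/
theorem exists_completeFamily (x₀ : X) :
    ∃ (W : X.Etale) (w : W.left), (W.hom : W.left ⟶ X) w = x₀ ∧
      ∃ (n : ℕ) (g : Fin n → (W ⟶ jU j)), IsCompleteFamily g := by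
  obtain ⟨X', g, hg, x', hx', n, V, c, hc, e, he⟩ :=
    Groth.Agent.Lib.Helper26.splitsEtaleLocally j x₀
  exact ⟨Scheme.Etale.mk g, x', hx', n, sheetHom j g V c hc e he,
    isCompleteFamily_sheetHom j g V c hc e he⟩

set_option backward.isDefEq.respectTransparency.types false in
lemma finite_lifts {Ω : Type u} [Field Ω] [IsSepClosed Ω] (ξ : Spec (CommRingCat.of Ω) ⟶ X) :
    Finite (Lifts j ξ) := by
  obtain ⟨W, w, hw, n, g, hg⟩ := exists_completeFamily j (ξ (default : Spec (CommRingCat.of Ω)))
  have : Etale (W.hom : W.left ⟶ X) := W.prop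
  obtain ⟨l, hl, -⟩ := Scheme.exists_fac_of_etale_of_isSepClosed (W.hom : W.left ⟶ X) ξ w hw
  let x : (Scheme.pointSmallEtale ξ).fiber.obj W := Over.homMk l hl
  exact Finite.of_surjective _ (hg Ω ξ x).surjective

variable [EtShriek.JCont j]

/-- The norm section of `j_! ℤ_U`. -/
theorem exists_normSec :
    ∃ t : (jZ j).obj.obj (op (EtCoh.top X)), HasGerms (jZ j) (normGerms j) (EtCoh.top X) t := by
  apply exists_global_section_of_germs
  intro x₀
  obtain ⟨W, w, hw, n, g, hg⟩ := exists_completeFamily j x₀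
  exact ⟨W, w, hw, _, hasGerms_sum g hg⟩

end Finite

end

end Groth.Agent.Lib.Helper22.EtStalk
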