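import Groth.Agent.Lib.Helper22.EtStalk.ClosedOpen

/-!
# The open-closed decomposition sequence for abelian étale sheaves (helper22)

For `i : Z ⟶ X` a closed immersion and `j : U ⟶ X` the open immersion of the complement:
`eq_zero_of_stalks`, `pointKind` (a geometric point lies in `U` or in `Z`), `stalk_data`,
`counit_unit_zero`, `shortExact : 0 ⟶ j_! j^{-1} F ⟶ F ⟶ i_* i^{-1} F ⟶ 0`.
-/

set_option autoImplicit false
universe u
open CategoryTheory CategoryTheory.Limits AlgebraicGeometry Opposite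

namespace Groth.Agent.Lib.Helper22.EtStalk.Recoll

open Groth.Agent.Lib.Helper22.CechU.Etale Groth.Agent.Lib.Helper22.EtStalk.ClosedStalk
  Groth.Agent.Lib.Helper22.EtStalk.ClosedOpen

noncomputable section

variable {X : Scheme.{u}}

/-- A morphism of abelian étale sheaves vanishing on all geometric stalks is zero. -/
theorem eq_zero_of_stalks {F G : EtCoh.Ab X} (φ : F ⟶ G)
    (h : ∀ (Ω : Type u) [Field Ω] [IsSepClosed Ω] (ξ : Spec (CommRingCat.of Ω) ⟶ X),
      (EtCoh.stalk ξ).map φ = 0) : φ = 0 := by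
  apply Sheaf.hom_ext
  ext U s
  change φ.hom.app (op U.unop) s = 0
  refine eq_zero_of_germs _ fun Ω _ _ ξ x => ?_
  have h1 := germ_naturality ξ φ U.unop x s
  refine h1.symm.trans ?_
  rw [h Ω ξ]
  rfl

section OpenClosed

variable {Z U : Scheme.{u}} (i : Z ⟶ X) [IsClosedImmersion i] (j : U ⟶ X) [IsOpenImmersion j]
  (hU : Set.range j.base = (Set.range i.base)ᶜ)

/-- `j^{-1}` of the counit `j_! j^{-1} F ⟶ F` is an isomorphism. -/
lemma isIso_restr_counit [Etale j] [EtShriek.JCont j] (F : EtCoh.Ab X) :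
    IsIso ((EtShriek.restrAlong j).map ((EtShriek.extZeroAdj j).counit.app F)) := by
  have : Mono j := inferInstance
  have h := (EtShriek.extZeroAdj j).right_triangle_components F
  have hunit : IsIso ((EtShriek.extZeroAdj j).unit.app ((EtShriek.restrAlong j).obj F)) := by
    have := Groth.Agent.Lib.Helper22.EtLoc.isIso_extZeroAdj_unit j
    infer_instance
  have h2 : IsIso ((EtShriek.extZeroAdj j).unit.app ((EtShriek.restrAlong j).obj F) ≫
      (EtShriek.restrAlong j).map ((EtShriek.extZeroAdj j).counit.app F)) := by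
    rw [h]
    exact IsIso.id _
  exact IsIso.of_isIso_comp_left
    ((EtShriek.extZeroAdj j).unit.app ((EtShriek.restrAlong j).obj F)) _

/-- The two kinds of geometric points of `X = U ⊔ Z`. -/
inductive PointKind {Ω : Type u} [Field Ω] (ξ : Spec (CommRingCat.of Ω) ⟶ X) : Prop
  | inOpen (ξ' : Spec (CommRingCat.of Ω) ⟶ U) (h : ξ' ≫ j = ξ)
      (hd : Disjoint (Set.range ξ.base) (Set.range i.base)) : PointKind ξ
  | inClosed (ζ : Spec (CommRingCat.of Ω) ⟶ Z) (h : ζ ≫ i = ξ)
      (hd : Set.range ξ.base ⊆ (Set.range j.base)ᶜ) : PointKind ξ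

include hU in
lemma pointKind {Ω : Type u} [Field Ω] (ξ : Spec (CommRingCat.of Ω) ⟶ X) :
    PointKind i j ξ := by
  rcases factors_or_disjoint j ξ with ⟨ξ', h⟩ | hd
  · refine PointKind.inOpen ξ' h ?_
    rw [Set.disjoint_left]
    rintro _ ⟨y, rfl⟩ hz
    have h1 : ξ.base y ∈ Set.range j.base := by
      rw [← h]
      exact ⟨ξ'.base y, rfl⟩
    rw [hU] at h1
    exact h1 hz
  · rcases factors_or_disjoint_closed i ξ with ⟨ζ, h⟩ | hd'
    · exact PointKind.inClosed ζ h hd
    · exfalso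
      have h1 : ξ.base default ∈ (Set.range j.base)ᶜ := hd ⟨default, rfl⟩
      rw [hU, compl_compl] at h1
      exact Set.disjoint_left.1 hd' ⟨default, rfl⟩ h1

variable [Etale j] [EtShriek.JCont j] (F : EtCoh.Ab X)

/-- Stalk data at the two kinds of points. -/
lemma stalk_data {Ω : Type u} [Field Ω] [IsSepClosed Ω] (ξ : Spec (CommRingCat.of Ω) ⟶ X)
    (hk : PointKind i j ξ) :
    (IsIso ((EtCoh.stalk ξ).map ((EtShriek.extZeroAdj j).counit.app F)) ∧
      IsZero ((EtCoh.stalk ξ).obj ((EtCoh.push i).obj ((EtCoh.pull i).obj F)))) ∨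
    (IsZero ((EtCoh.stalk ξ).obj ((EtShriek.extZero j).obj ((EtShriek.restrAlong j).obj F))) ∧
      IsIso ((EtCoh.stalk ξ).map ((EtCoh.pullPushAdj i).unit.app F))) := by
  rcases hk with ⟨ξ', rfl, hd⟩ | ⟨ζ, rfl, hd⟩
  · left
    exact ⟨isIso_stalk_of_isIso_restr j _ (isIso_restr_counit j F) ξ',
      isZero_stalk_push_of_disjoint i _ _ hd⟩
  · right
    exact ⟨isZero_stalk_extZero_of_disjoint j _ _ hd, isIso_stalk_unit i F ζ⟩

include hU in
/-- The composite `j_! j^{-1} F ⟶ F ⟶ i_* i^{-1} F` vanishes. -/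
lemma counit_unit_zero :
    (EtShriek.extZeroAdj j).counit.app F ≫ (EtCoh.pullPushAdj i).unit.app F = 0 := by
  apply eq_zero_of_stalks
  intro Ω _ _ ξ
  rcases stalk_data i j F ξ (pointKind i j hU ξ) with ⟨-, hz⟩ | ⟨hz, -⟩
  · exact hz.eq_of_tgt _ _
  · exact hz.eq_of_src _ _

include hU in
/-- The short exact sequence `0 ⟶ j_! j^{-1} F ⟶ F ⟶ i_* i^{-1} F ⟶ 0`. -/
theorem shortExact :
    (ShortComplex.mk ((EtShriek.extZeroAdj j).counit.app F) ((EtCoh.pullPushAdj i).unit.app F)
      (counit_unit_zero i j hU F)).ShortExact := by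
  have hmono : Mono ((EtShriek.extZeroAdj j).counit.app F) := by
    rw [mono_iff_stalks]
    intro Ω _ _ ξ
    rcases stalk_data i j F ξ (pointKind i j hU ξ) with ⟨hiso, -⟩ | ⟨hz, -⟩
    · exact ((ConcreteCategory.isIso_iff_bijective _).1 hiso).1
    · have hs := AddCommGrpCat.isZero_iff_subsingleton.1 hz
      intro a b _
      exact @Subsingleton.elim _ hs a b
  have hepi : Epi ((EtCoh.pullPushAdj i).unit.app F) := by
    rw [epi_iff_stalks]
    intro Ω _ _ ξ
    rcases stalk_data i j F ξ (pointKind i j hU ξ) with ⟨-, hz⟩ | ⟨-, hiso⟩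
    · have hs := AddCommGrpCat.isZero_iff_subsingleton.1 hz
      intro b
      exact ⟨0, @Subsingleton.elim _ hs _ _⟩
    · exact ((ConcreteCategory.isIso_iff_bijective _).1 hiso).2
  refine ShortComplex.ShortExact.mk ?_
  rw [exact_iff_stalks]
  intro Ω _ _ ξ
  rw [ShortComplex.ab_exact_iff]
  intro x₂ hx₂
  rcases stalk_data i j F ξ (pointKind i j hU ξ) with ⟨hiso, -⟩ | ⟨-, hiso⟩
  · exact ((ConcreteCategory.isIso_iff_bijective _).1 hiso).2 x₂
  · refine ⟨0, ?_⟩
    have hinj := ((ConcreteCategory.isIso_iff_bijective _).1 hiso).1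
    have h0 : x₂ = 0 := hinj (hx₂.trans (map_zero _).symm)
    rw [h0]
    exact map_zero _

end OpenClosed

end

end Groth.Agent.Lib.Helper22.EtStalk.Recoll
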