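import Groth.Agent.Lib.Helper22.EtStalk.Recoll
import Groth.Agent.Lib.Helper22.EtLoc.MonoLoc
import Groth.Agent.S0101
import Groth.Prelude.Def_W4c1etweilhu916Glue

/-!
# The recollement equivalence for abelian étale sheaves (helper22)
-/

set_option autoImplicit false
universe u
open CategoryTheory CategoryTheory.Limits AlgebraicGeometry Opposite

namespace Groth.Agent.Lib.Helper22.EtStalk.RecollEquiv

open Groth.Agent.Lib.Helper22.CechU.Etale Groth.Agent.Lib.Helper22.EtStalk.ClosedStalk
  Groth.Agent.Lib.Helper22.EtStalk.ClosedOpen Groth.Agent.Lib.Helper22.EtStalk.Recoll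
  Groth.Agent.Lib.Helper22.EtLoc

noncomputable section

variable {X : Scheme.{u}}

/-- A commutative square of abelian étale sheaves which is cartesian on all geometric stalks is
cartesian. -/
theorem isPullback_of_stalks {P A B C : EtCoh.Ab X} {fst : P ⟶ A} {snd : P ⟶ B} {f : A ⟶ C}
    {g : B ⟶ C} (sq : CommSq fst snd f g)
    (h : ∀ (Ω : Type u) [Field Ω] [IsSepClosed Ω] (ξ : Spec (CommRingCat.of Ω) ⟶ X),
      IsPullback ((EtCoh.stalk ξ).map fst) ((EtCoh.stalk ξ).map snd) ((EtCoh.stalk ξ).map f)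
        ((EtCoh.stalk ξ).map g)) : IsPullback fst snd f g := by
  let c : P ⟶ pullback f g := pullback.lift fst snd sq.w
  have hc : IsIso c := by
    apply isIso_of_stalks
    intro Ω _ _ ξ
    have H' := (IsPullback.of_hasPullback f g).map (EtCoh.stalk ξ)
    have e : (EtCoh.stalk ξ).map c = ((h Ω ξ).isoIsPullback _ _ H').hom := by
      apply H'.hom_ext
      · rw [IsPullback.isoIsPullback_hom_fst, ← Functor.map_comp]
        congr 1
        exact pullback.lift_fst _ _ _
      · rw [IsPullback.isoIsPullback_hom_snd, ← Functor.map_comp]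
        congr 1
        exact pullback.lift_snd _ _ _
    rw [e]
    infer_instance
  exact IsPullback.of_iso_pullback sq (asIso c) (pullback.lift_fst _ _ _) (pullback.lift_snd _ _ _)

section Pull

variable {Y : Scheme.{u}} (f : Y ⟶ X) {Ω : Type u} [Field Ω] [IsSepClosed Ω]

/-- If `f^* φ` is an isomorphism then `φ` is an isomorphism on stalks at geometric points
factoring through `f`. -/
lemma isIso_stalk_of_isIso_pull {A B : EtCoh.Ab X} (φ : A ⟶ B)
    (ξ' : Spec (CommRingCat.of Ω) ⟶ Y) [IsIso ((EtCoh.pull f).map φ)] :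
    IsIso ((EtCoh.stalk (ξ' ≫ f)).map φ) := by
  rw [← NatIso.isIso_map_iff (stalkPullIso f ξ') φ]
  change IsIso ((EtCoh.stalk ξ').map ((EtCoh.pull f).map φ))
  infer_instance

end Pull

/-- A sheaf all of whose sections vanish is zero. -/
lemma isZero_of_sections {F : EtCoh.Ab X} (h : ∀ W : X.Etale, IsZero (F.obj.obj (op W))) :
    IsZero F := by
  rw [IsZero.iff_id_eq_zero]
  apply Sheaf.hom_ext
  apply NatTrans.ext
  funext W
  exact (h W.unop).eq_of_src _ _

section OpenClosed

variable {Z U : Scheme.{u}} (i : Z ⟶ X) [IsClosedImmersion i] (j : U ⟶ X) [IsOpenImmersion j]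
  (hU : Set.range j.base = (Set.range i.base)ᶜ)

/-- `j^*` of the unit of `j^* ⊣ j_*` is an isomorphism. -/
instance isIso_pull_unit_open (F : EtCoh.Ab X) :
    IsIso ((EtCoh.pull j).map ((EtCoh.pullPushAdj j).unit.app F)) := by
  have h := (EtCoh.pullPushAdj j).left_triangle_components F
  have : IsIso ((EtCoh.pullPushAdj j).counit.app ((EtCoh.pull j).obj F)) :=
    isIso_pullPushAdj_counit_app j _
  have h2 : IsIso ((EtCoh.pull j).map ((EtCoh.pullPushAdj j).unit.app F) ≫
      (EtCoh.pullPushAdj j).counit.app ((EtCoh.pull j).obj F)) := by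
    rw [h]
    exact IsIso.id _
  exact IsIso.of_isIso_comp_right _
    ((EtCoh.pullPushAdj j).counit.app ((EtCoh.pull j).obj F))

omit [IsClosedImmersion i] in
include hU in
/-- `j^* i_* M = 0`. -/
lemma isZero_pull_push (M : EtCoh.Ab Z) :
    IsZero ((EtCoh.pull j).obj ((EtCoh.push i).obj M)) := by
  refine IsZero.of_iso ?_ ((pullIsoRes j).app _)
  apply isZero_of_sections
  intro W
  refine supportedOn_push i M ((pj j).obj W) ?_
  rw [Set.disjoint_left]
  rintro _ ⟨y, rfl⟩ hz
  have h1 : ((pj j).obj W).hom.base y ∈ Set.range j.base := by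
    change ((W.hom : W.left ⟶ U) ≫ j) y ∈ Set.range j.base
    rw [Scheme.Hom.comp_apply]
    exact ⟨_, rfl⟩
  rw [hU] at h1
  exact h1 hz

omit [IsClosedImmersion i] [IsOpenImmersion j] in
lemma units_comm (G : EtCoh.Ab X) :
    (EtCoh.pullPushAdj j).unit.app G ≫
        (EtCoh.pullPushAdj i).unit.app ((EtCoh.push j).obj ((EtCoh.pull j).obj G)) =
      (EtCoh.pullPushAdj i).unit.app G ≫
        (EtCoh.push i).map ((EtCoh.pull i).map ((EtCoh.pullPushAdj j).unit.app G)) :=
  (EtCoh.pullPushAdj i).unit.naturality ((EtCoh.pullPushAdj j).unit.app G)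

include hU in
/-- The fundamental cartesian square `G = i_* i^* G ×_{i_* i^* j_* j^* G} j_* j^* G`. -/
theorem isPullback_units (G : EtCoh.Ab X) :
    IsPullback ((EtCoh.pullPushAdj j).unit.app G) ((EtCoh.pullPushAdj i).unit.app G)
      ((EtCoh.pullPushAdj i).unit.app ((EtCoh.push j).obj ((EtCoh.pull j).obj G)))
      ((EtCoh.push i).map ((EtCoh.pull i).map ((EtCoh.pullPushAdj j).unit.app G))) := by
  refine isPullback_of_stalks ⟨units_comm i j G⟩ ?_
  intro Ω _ _ ξ
  rcases pointKind i j hU ξ with ⟨ξ', rfl, hd⟩ | ⟨ζ, rfl, hd⟩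
  · have h1 : IsIso ((EtCoh.stalk (ξ' ≫ j)).map ((EtCoh.pullPushAdj j).unit.app G)) :=
      isIso_stalk_of_isIso_pull j _ ξ'
    have hz1 := isZero_stalk_push_of_disjoint i ((EtCoh.pull i).obj G) (ξ' ≫ j) hd
    have hz2 := isZero_stalk_push_of_disjoint i
      ((EtCoh.pull i).obj ((EtCoh.push j).obj ((EtCoh.pull j).obj G))) (ξ' ≫ j) hd
    have h2 : IsIso ((EtCoh.stalk (ξ' ≫ j)).map
        ((EtCoh.push i).map ((EtCoh.pull i).map ((EtCoh.pullPushAdj j).unit.app G)))) :=
      ⟨0, hz1.eq_of_src _ _, hz2.eq_of_src _ _⟩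
    exact IsPullback.of_horiz_isIso ⟨by
      rw [← Functor.map_comp, ← Functor.map_comp]
      congr 1
      exact units_comm i j G⟩
  · have h1 := isIso_stalk_unit i G ζ
    have h2 := isIso_stalk_unit i ((EtCoh.push j).obj ((EtCoh.pull j).obj G)) ζ
    exact IsPullback.of_vert_isIso ⟨by
      rw [← Functor.map_comp, ← Functor.map_comp]
      congr 1
      exact units_comm i j G⟩

include hU in
theorem faithful : (EtCore.recollTriple i j).Faithful := by
  constructor
  intro F G φ ψ h
  have hl : (EtCoh.pull i).map φ = (EtCoh.pull i).map ψ := congrArg CommaMorphism.left h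
  have hr : (EtCoh.pull j).map φ = (EtCoh.pull j).map ψ := congrArg CommaMorphism.right h
  apply (isPullback_units i j hU G).hom_ext
  · have e1 := (EtCoh.pullPushAdj j).unit.naturality φ
    have e2 := (EtCoh.pullPushAdj j).unit.naturality ψ
    dsimp at e1 e2
    rw [e1, e2, hr]
  · have e1 := (EtCoh.pullPushAdj i).unit.naturality φ
    have e2 := (EtCoh.pullPushAdj i).unit.naturality ψ
    dsimp at e1 e2
    rw [e1, e2, hl]

include hU in
lemma exists_glue {F G : EtCoh.Ab X} (a : (EtCoh.pull i).obj F ⟶ (EtCoh.pull i).obj G)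
    (b : (EtCoh.pull j).obj F ⟶ (EtCoh.pull j).obj G)
    (hw : a ≫ (EtCoh.pull i).map ((EtCoh.pullPushAdj j).unit.app G) =
      (EtCoh.pull i).map ((EtCoh.pullPushAdj j).unit.app F) ≫
        (EtCoh.pull i).map ((EtCoh.push j).map b)) :
    ∃ φ : F ⟶ G, (EtCoh.pull i).map φ = a ∧ (EtCoh.pull j).map φ = b := by
  let u : F ⟶ (EtCoh.push i).obj ((EtCoh.pull i).obj G) :=
    (EtCoh.pullPushAdj i).unit.app F ≫ (EtCoh.push i).map a
  let v : F ⟶ (EtCoh.push j).obj ((EtCoh.pull j).obj G) :=
    (EtCoh.pullPushAdj j).unit.app F ≫ (EtCoh.push j).map b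
  have huv : v ≫ (EtCoh.pullPushAdj i).unit.app ((EtCoh.push j).obj ((EtCoh.pull j).obj G)) =
      u ≫ (EtCoh.push i).map ((EtCoh.pull i).map ((EtCoh.pullPushAdj j).unit.app G)) := by
    have n1 := (EtCoh.pullPushAdj i).unit.naturality ((EtCoh.push j).map b)
    dsimp at n1
    dsimp only [u, v]
    rw [Category.assoc, n1, ← Category.assoc, units_comm i j F, Category.assoc, Category.assoc]
    congr 1
    rw [← (EtCoh.push i).map_comp, ← (EtCoh.push i).map_comp, hw]
  refine ⟨(isPullback_units i j hU G).lift v u huv, ?_, ?_⟩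
  · apply ((EtCoh.pullPushAdj i).homEquiv _ _).injective
    rw [Adjunction.homEquiv_unit, Adjunction.homEquiv_unit]
    have n1 := (EtCoh.pullPushAdj i).unit.naturality ((isPullback_units i j hU G).lift v u huv)
    dsimp at n1
    exact n1.symm.trans ((isPullback_units i j hU G).lift_snd v u huv)
  · apply ((EtCoh.pullPushAdj j).homEquiv _ _).injective
    rw [Adjunction.homEquiv_unit, Adjunction.homEquiv_unit]
    have n1 := (EtCoh.pullPushAdj j).unit.naturality ((isPullback_units i j hU G).lift v u huv)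
    dsimp at n1
    exact n1.symm.trans ((isPullback_units i j hU G).lift_fst v u huv)

include hU in
theorem full : (EtCore.recollTriple i j).Full := by
  constructor
  intro F G m
  obtain ⟨φ, h1, h2⟩ := exists_glue i j hU (F := F) (G := G) m.left m.right m.w
  refine ⟨φ, ?_⟩
  apply CommaMorphism.ext
  · exact h1
  · exact h2

include hU in
lemma exists_triple (G : EtCoh.Ab Z) (H : EtCoh.Ab U)
    (φ : G ⟶ (EtCoh.pull i).obj ((EtCoh.push j).obj H)) :
    ∃ (F : EtCoh.Ab X) (α : (EtCoh.pull i).obj F ≅ G) (β : (EtCoh.pull j).obj F ≅ H),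
      α.hom ≫ φ = (EtCoh.pull i).map ((EtCoh.pullPushAdj j).unit.app F) ≫
        (EtCoh.pull i).map ((EtCoh.push j).map β.hom) := by
  let a : (EtCoh.push i).obj G ⟶
      (EtCoh.push i).obj ((EtCoh.pull i).obj ((EtCoh.push j).obj H)) := (EtCoh.push i).map φ
  let b : (EtCoh.push j).obj H ⟶
      (EtCoh.push i).obj ((EtCoh.pull i).obj ((EtCoh.push j).obj H)) :=
    (EtCoh.pullPushAdj i).unit.app ((EtCoh.push j).obj H)
  have sq : IsPullback (pullback.fst a b) (pullback.snd a b) a b := IsPullback.of_hasPullback _ _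
  have pi := Groth.Agent.S0101.main i
  have pj := Groth.Agent.S0101.main j
  have sqi := sq.map (EtCoh.pull i)
  have sqj := sq.map (EtCoh.pull j)
  have hb : IsIso ((EtCoh.pull i).map b) := isIso_pull_unit i _
  have h1 : IsIso ((EtCoh.pull i).map (pullback.fst a b)) := sqi.isIso_fst_of_isIso
  have ha : IsIso ((EtCoh.pull j).map a) :=
    ⟨0, (isZero_pull_push i j hU _).eq_of_src _ _, (isZero_pull_push i j hU _).eq_of_src _ _⟩
  have h2 : IsIso ((EtCoh.pull j).map (pullback.snd a b)) := sqj.isIso_snd_of_isIso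
  have h3 : IsIso ((EtCoh.pullPushAdj i).counit.app G) := isIso_counit_app i G
  have h4 : IsIso ((EtCoh.pullPushAdj j).counit.app H) := isIso_pullPushAdj_counit_app j H
  refine ⟨pullback a b,
    asIso ((EtCoh.pull i).map (pullback.fst a b)) ≪≫ asIso ((EtCoh.pullPushAdj i).counit.app G),
    asIso ((EtCoh.pull j).map (pullback.snd a b)) ≪≫ asIso ((EtCoh.pullPushAdj j).counit.app H),
    ?_⟩
  dsimp only [Iso.trans_hom, asIso_hom]
  have e1 : (EtCoh.pull i).map ((EtCoh.pullPushAdj j).unit.app (pullback a b)) ≫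
      (EtCoh.pull i).map ((EtCoh.push j).map ((EtCoh.pull j).map (pullback.snd a b) ≫
        (EtCoh.pullPushAdj j).counit.app H)) = (EtCoh.pull i).map (pullback.snd a b) := by
    rw [← Functor.map_comp]
    congr 1
    have n1 := (EtCoh.pullPushAdj j).unit.naturality (pullback.snd a b)
    dsimp at n1
    rw [Functor.map_comp, ← Category.assoc, ← n1, Category.assoc,
      (EtCoh.pullPushAdj j).right_triangle_components H]
    exact Category.comp_id _
  have e2 : ((EtCoh.pull i).map (pullback.fst a b) ≫ (EtCoh.pullPushAdj i).counit.app G) ≫ φ =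
      (EtCoh.pull i).map (pullback.snd a b) := by
    have n1 := (EtCoh.pullPushAdj i).counit.naturality φ
    dsimp at n1
    rw [Category.assoc, ← n1, ← Category.assoc, ← Functor.map_comp]
    have c : pullback.fst a b ≫ (EtCoh.push i).map φ = pullback.snd a b ≫ b := pullback.condition
    rw [c, Functor.map_comp, Category.assoc]
    have t := (EtCoh.pullPushAdj i).left_triangle_components ((EtCoh.push j).obj H)
    dsimp only [b]
    rw [t]
    exact Category.comp_id _
  exact e2.trans e1.symm

include hU in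
theorem essSurj : (EtCore.recollTriple i j).EssSurj := by
  constructor
  intro T
  obtain ⟨F, α, β, h⟩ := exists_triple i j hU T.left T.right T.hom
  exact ⟨F, ⟨Comma.isoMk α β h⟩⟩

include hU in
theorem isEquivalence : (EtCore.recollTriple i j).IsEquivalence where
  faithful := faithful i j hU
  full := full i j hU
  essSurj := essSurj i j hU

end OpenClosed

end

end Groth.Agent.Lib.Helper22.EtStalk.RecollEquiv
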