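import Groth.Agent.Lib.Helper22.EtStalk.Conservative
import Groth.Agent.Lib.Helper4.HensSection
import Groth.Prelude.Def_EtCore

/-!
# Étale sheaves on the spectrum of a strictly henselian local ring (helper22)
-/

set_option autoImplicit false
universe u
open CategoryTheory CategoryTheory.Limits AlgebraicGeometry Opposite

namespace Groth.Agent.Lib.Helper22.EtStalk.StrictHens

open Groth.Agent.Lib.Helper22.EtStalk

noncomputable section

variable (R : Type u) [CommRing R] [HenselianLocalRing R]

/-- The closed point, as a morphism from the spectrum of the residue field. -/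
abbrev ρ : Spec (CommRingCat.of (IsLocalRing.ResidueField R)) ⟶ Spec (CommRingCat.of R) :=
  Spec.map (CommRingCat.ofHom (IsLocalRing.residue R))

set_option backward.isDefEq.respectTransparency.types false in
/-- Every étale `Spec R`-scheme with a rational point over the closed point has a section through
that point. -/
lemma exists_section (V : (Spec (CommRingCat.of R)).Etale)
    (v : Over.mk (ρ R) ⟶ (Scheme.Etale.forget _).obj V) :
    ∃ u : EtCoh.top (Spec (CommRingCat.of R)) ⟶ V, ρ R ≫ u.left = v.left := by
  have hv : v.left ≫ V.hom = ρ R := Over.w v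
  have : Etale (V.hom : V.left ⟶ Spec (CommRingCat.of R)) := V.prop
  obtain ⟨s, hs1, hs2⟩ := Groth.Agent.Lib.Helper4.HensSection.exists_section
    (V.hom : V.left ⟶ Spec (CommRingCat.of R)) v.left hv
  exact ⟨MorphismProperty.Over.homMk s hs1 trivial, hs2⟩

variable [IsSepClosed (IsLocalRing.ResidueField R)]

/-- The tautological lift of the closed geometric point to the terminal object. -/
abbrev x₀ : (Scheme.pointSmallEtale (ρ R)).fiber.obj (EtCoh.top (Spec (CommRingCat.of R))) :=
  Over.homMk (ρ R) (Category.comp_id _)

set_option backward.isDefEq.respectTransparency.types false in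
/-- `(top, x₀)` is weakly initial among étale neighbourhoods of the closed geometric point. -/
lemma exists_hom_from_top (V : (Spec (CommRingCat.of R)).Etale)
    (v : (Scheme.pointSmallEtale (ρ R)).fiber.obj V) :
    ∃ u : EtCoh.top (Spec (CommRingCat.of R)) ⟶ V,
      (Scheme.pointSmallEtale (ρ R)).fiber.map u (x₀ R) = v := by
  obtain ⟨u, hu⟩ := exists_section R V v
  refine ⟨u, ?_⟩
  apply Over.OverMorphism.ext
  exact hu

instance subsingleton_hom_top (V : (Spec (CommRingCat.of R)).Etale) :
    Subsingleton (V ⟶ EtCoh.top (Spec (CommRingCat.of R))) :=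
  ⟨fun a b => (EtCore.topIsTerminal _).hom_ext a b⟩

/-- Global sections map bijectively onto the stalk at the closed geometric point. -/
theorem bijective_germ (F : EtCoh.Ab (Spec (CommRingCat.of R))) :
    Function.Bijective ((Scheme.pointSmallEtale (ρ R)).toPresheafFiber
      (EtCoh.top (Spec (CommRingCat.of R))) (x₀ R) F.obj) := by
  let Φ := Scheme.pointSmallEtale (ρ R)
  constructor
  · intro s s' h
    obtain ⟨V, f, v, hv, hf⟩ := (Φ.toPresheafFiber_eq_iff' (P := F.obj) _ (x₀ R) s s').1 h
    obtain ⟨u, -⟩ := exists_hom_from_top R V v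
    have e : u ≫ f = 𝟙 _ := Subsingleton.elim _ _
    have h1 := congrArg (F.obj.map u.op) hf
    have h2 : ∀ t : F.obj.obj (op (EtCoh.top (Spec (CommRingCat.of R)))),
        F.obj.map u.op (F.obj.map f.op t) = t := by
      intro t
      have := congrArg (fun φ => φ t)
        (congrArg AddCommGrpCat.Hom.hom ((F.obj.map_comp f.op u.op).symm.trans
          ((congrArg (fun g => F.obj.map g) (by rw [← op_comp, e]; rfl)).trans
            (F.obj.map_id _))))
      simpa using this
    rw [h2, h2] at h1
    exact h1
  · intro p
    obtain ⟨V, v, z, rfl⟩ := Φ.toPresheafFiber_jointly_surjective (P := F.obj) p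
    obtain ⟨u, hu⟩ := exists_hom_from_top R V v
    refine ⟨F.obj.map u.op z, ?_⟩
    have := Φ.toPresheafFiber_w_apply u (x₀ R) F.obj z
    rw [hu] at this
    exact this

end

end Groth.Agent.Lib.Helper22.EtStalk.StrictHens
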